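import Groth.Agent.H98.GrStar.LCCompare
import Groth.Agent.H58.LCDepth

set_option autoImplicit false
universe u

/-!
# Vanishing of graded local cohomology via comparison with ordinary local cohomology
-/

namespace Groth.Agent.H98.GrStar

open DirectSum CategoryTheory Groth.Agent.H98.LCRes Groth.Agent.H58.LC

variable {ι : Type} [AddCommGroup ι] [DecidableEq ι]
variable {R : Type u} [CommRing R] [IsNoetherianRing R]
  {σ : Type u} [SetLike σ R] [AddSubgroupClass σ R]
  {𝒜 : ι → σ} [GradedRing 𝒜]
variable {M : Type u} [AddCommGroup M] [Module R M] {ℳ : ι → AddSubgroup M}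
  [DirectSum.Decomposition ℳ] [SetLike.GradedSMul 𝒜 ℳ]

/-- torsion modules have no higher graded local cohomology -/
theorem H_subsingleton_of_gam_eq_top (E : GrLC.StarInjRes 𝒜 ℳ) (a : HomogeneousIdeal 𝒜)
    (h : GrLC.gam a.toIdeal M = ⊤) (q : ℕ) (hq : 1 ≤ q) : Subsingleton (E.H a q) := by
  obtain ⟨e⟩ := nonempty_H_equiv_locCoh E a q
  obtain ⟨k, rfl⟩ : ∃ k, q = k + 1 := ⟨q - 1, by omega⟩
  have : Subsingleton ((localCohomology a.toIdeal (k + 1)).obj (ModuleCat.of R M)) :=
    subsingleton_of_isPowerTorsion a.toIdeal k (ModuleCat.of R M) (fun x => by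
      have hx : x ∈ GrLC.gam a.toIdeal M := by rw [h]; trivial
      exact hx)
  exact e.toEquiv.subsingleton

omit [IsNoetherianRing R] in
/-- if `f ∈ a` acts bijectively on `M` then all local cohomology of `M` vanishes -/
theorem locCoh_subsingleton_of_smul_bijective (a : Ideal R) (f : R) (hf : f ∈ a)
    (hbij : Function.Bijective (fun x : M => f • x)) (q : ℕ) :
    Subsingleton ((localCohomology a q).obj (ModuleCat.of R M)) := by
  -- multiplication by `f` is an isomorphism of `M`
  let φ : M ≃ₗ[R] M := LinearEquiv.ofBijective (f • (LinearMap.id : M →ₗ[R] M)) hbij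
  have hφ : ModuleCat.ofHom φ.toLinearMap = f • 𝟙 (ModuleCat.of R M) := rfl
  have hiso : IsIso (ModuleCat.ofHom φ.toLinearMap) :=
    (φ.toModuleIso).isIso_hom
  have hiso2 : IsIso ((localCohomology a q).map (ModuleCat.ofHom φ.toLinearMap)) :=
    Functor.map_isIso _ _
  have hinj : Function.Injective
      ((localCohomology a q).map (ModuleCat.ofHom φ.toLinearMap)).hom :=
    ((ModuleCat.mono_iff_injective _).1 inferInstance)
  have hsmul : ∀ x : (localCohomology a q).obj (ModuleCat.of R M),
      ((localCohomology a q).map (ModuleCat.ofHom φ.toLinearMap)).hom x = f • x := by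
    intro x
    rw [hφ, map_smul', CategoryTheory.Functor.map_id]
    rfl
  have hinjf : Function.Injective
      (fun x : (localCohomology a q).obj (ModuleCat.of R M) => f • x) := by
    intro x y hxy
    apply hinj
    rw [hsmul, hsmul]
    exact hxy
  have hinjn : ∀ n : ℕ, Function.Injective
      (fun x : (localCohomology a q).obj (ModuleCat.of R M) => f ^ n • x) := by
    intro n
    induction n with
    | zero =>
      intro x y hxy
      simpa only [pow_zero, one_smul] using hxy
    | succ n ih =>
      intro x y hxy
      simp only [pow_succ, mul_smul] at hxy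
      exact hinjf (ih hxy)
  refine ⟨fun x y => ?_⟩
  have key : ∀ z : (localCohomology a q).obj (ModuleCat.of R M), z = 0 := by
    intro z
    obtain ⟨n, hn⟩ := isTors_H a q (ModuleCat.of R M) z
    have h1 : f ^ n • z = 0 := hn _ (Ideal.pow_mem_pow hf n)
    apply hinjn n
    simp only [smul_zero]
    exact h1
  rw [key x, key y]

end Groth.Agent.H98.GrStar
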