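import Groth.Agent.H98.GrStar.Nakayama
import Groth.Agent.H98.GrStar.LCVanish
import Groth.Agent.H98.LCRes.NonVanish

set_option autoImplicit false
universe u

/-!
# `H^i_{R_+}(M) = 0` for all `i ≥ 1` iff `M_n = 0` for `n ≫ 0` (standard graded Noetherian `R`)
-/

namespace Groth.Agent.H98.GrStar

open DirectSum CategoryTheory Groth.Agent.H98.LCRes Groth.Agent.H58.LC

section Torsion

variable {R : Type u} [CommRing R] [IsNoetherianRing R] (I : Ideal R)
  (M : Type u) [AddCommGroup M] [Module R M]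

/-- `Γ_I(M / Γ_I(M)) = 0` -/
theorem torsionSub_quot_eq_bot : DRing.torsionSub I (M ⧸ DRing.torsionSub I M) = ⊥ := by
  classical
  rw [eq_bot_iff]
  rintro y ⟨n, hn⟩
  obtain ⟨x, rfl⟩ := Submodule.mkQ_surjective _ y
  rw [Submodule.mem_bot, Submodule.mkQ_apply, Submodule.Quotient.mk_eq_zero]
  have h1 : ∀ c ∈ I ^ n, c • x ∈ DRing.torsionSub I M := by
    intro c hc
    have := hn c hc
    rwa [← map_smul, Submodule.mkQ_apply, Submodule.Quotient.mk_eq_zero] at this
  obtain ⟨s, hs⟩ := (IsNoetherian.noetherian (I ^ n) : (I ^ n).FG)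
  have h2 : ∀ g : R, ∃ m : ℕ, g ∈ s → ∀ b ∈ I ^ m, b • g • x = 0 := by
    intro g
    by_cases hg : g ∈ s
    · obtain ⟨m, hm⟩ := h1 g (by rw [← hs]; exact Submodule.subset_span hg)
      exact ⟨m, fun _ => hm⟩
    · exact ⟨0, fun h => absurd h hg⟩
  choose m hm using h2
  refine ⟨s.sup m + n, fun c hc => ?_⟩
  have h3 : ∀ c ∈ I ^ n, ∀ b ∈ I ^ (s.sup m), b • c • x = 0 := by
    intro c hc
    rw [← hs] at hc
    induction hc using Submodule.span_induction with
    | mem g hg =>
      intro b hb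
      exact hm g hg b (Ideal.pow_le_pow_right (Finset.le_sup hg) hb)
    | zero =>
      intro b _
      rw [zero_smul, smul_zero]
    | add c d _ _ hc hd =>
      intro b hb
      rw [add_smul, smul_add, hc b hb, hd b hb, add_zero]
    | smul r c _ hc =>
      intro b hb
      rw [smul_eq_mul, mul_smul, smul_comm b r, hc b hb, smul_zero]
  rw [pow_add] at hc
  refine Submodule.mul_induction_on hc ?_ ?_
  · intro b hb c hc
    rw [mul_smul]
    exact h3 c hc b hb
  · intro c d hc hd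
    rw [add_smul, hc, hd, add_zero]

end Torsion

variable {R : Type u} [CommRing R] [IsNoetherianRing R]
  {σ : Type u} [SetLike σ R] [AddSubgroupClass σ R]
  (𝒜 : ℤ → σ) [GradedRing 𝒜] (hpos : ∀ n : ℤ, n < 0 → ∀ r ∈ 𝒜 n, r = 0)
variable {M : Type u} [AddCommGroup M] [Module R M] (ℳ : ℤ → AddSubgroup M)
  [DirectSum.Decomposition ℳ] [SetLike.GradedSMul 𝒜 ℳ]
variable (a : HomogeneousIdeal 𝒜)
  (ha : a.toIdeal = Ideal.span (⋃ n ∈ Set.Ioi (0 : ℤ), (𝒜 n : Set R)))
  (hhom : a.toIdeal = Ideal.span ((𝒜 1 : σ) : Set R))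

include hpos ha in
/-- if `M` vanishes in large degrees, its higher local cohomology at `R_+` vanishes -/
theorem locCoh_subsingleton_of_bounded (n₀ : ℤ) (hM : ∀ n : ℤ, n₀ ≤ n → ∀ x ∈ ℳ n, x = 0)
    (i : ℕ) (hi : 1 ≤ i) : Subsingleton (LocCoh.H a.toIdeal i M) := by
  obtain ⟨k, rfl⟩ : ∃ k, i = k + 1 := ⟨i - 1, by omega⟩
  have h := gam_eq_top_of_bounded 𝒜 hpos ℳ a.toIdeal ha n₀ hM
  exact subsingleton_of_isPowerTorsion a.toIdeal k (ModuleCat.of R M) (fun x => by
    have hx : x ∈ GrLC.gam a.toIdeal M := by rw [h]; trivial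
    exact hx)

include hpos ha ℳ in
/-- if all higher local cohomology at `R_+` of a f.g. graded module vanishes, it is `R_+`-torsion -/
theorem gam_eq_top_of_locCoh_subsingleton [Module.Finite R M]
    (hall : ∀ i : ℕ, 1 ≤ i → Subsingleton (LocCoh.H a.toIdeal i M)) :
    GrLC.gam a.toIdeal M = ⊤ := by
  have hN : ∀ i, Subsingleton ((localCohomology a.toIdeal i).obj
      (ModuleCat.of R (M ⧸ DRing.torsionSub a.toIdeal M))) := by
    intro i
    cases i with
    | zero =>
      have h2 : Subsingleton (DRing.torsionSub a.toIdeal (M ⧸ DRing.torsionSub a.toIdeal M)) := by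
        rw [torsionSub_quot_eq_bot]
        infer_instance
      exact (H0equiv a.toIdeal (ModuleCat.of R (M ⧸ DRing.torsionSub a.toIdeal M))).toEquiv.subsingleton
    | succ i =>
      have := hall (i + 1) (by omega)
      exact (map_mkQ_torsionSub_bijective a.toIdeal M i).2.subsingleton
  have hsm := smul_top_eq_top_of_forall_subsingleton a.toIdeal
    (M ⧸ DRing.torsionSub a.toIdeal M) hN
  have hsup : GrLC.gam a.toIdeal M ⊔ a.toIdeal • (⊤ : Submodule R M) = ⊤ := by
    rw [eq_top_iff]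
    intro y _
    have h1 : (DRing.torsionSub a.toIdeal M).mkQ y ∈
        a.toIdeal • (⊤ : Submodule R (M ⧸ DRing.torsionSub a.toIdeal M)) := by
      rw [hsm]; trivial
    have h2 : a.toIdeal • (⊤ : Submodule R (M ⧸ DRing.torsionSub a.toIdeal M)) =
        (a.toIdeal • (⊤ : Submodule R M)).map (DRing.torsionSub a.toIdeal M).mkQ := by
      rw [Submodule.map_smul'', Submodule.map_top, Submodule.range_mkQ]
    rw [h2] at h1
    obtain ⟨w, hw, hwy⟩ := h1
    have h3 : y - w ∈ GrLC.gam a.toIdeal M := by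
      change y - w ∈ DRing.torsionSub a.toIdeal M
      rw [← Submodule.Quotient.mk_eq_zero, Submodule.Quotient.mk_sub]
      change (DRing.torsionSub a.toIdeal M).mkQ y - (DRing.torsionSub a.toIdeal M).mkQ w = 0
      rw [hwy, sub_self]
    have h4 : y = (y - w) + w := by abel
    rw [h4]
    exact Submodule.add_mem_sup h3 hw
  exact eq_top_of_sup_smul_eq_top 𝒜 hpos ℳ a.toIdeal ha _ (gam_isHomogeneous 𝒜 ℳ a) hsup

include ha hhom in
omit [IsNoetherianRing R] in
/-- a finitely generated `R_+`-torsion graded module over a standard graded ring vanishes in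
large degrees -/
theorem bounded_of_gam_eq_top [Module.Finite R M] (h : GrLC.gam a.toIdeal M = ⊤) :
    ∃ n₀ : ℤ, ∀ n : ℤ, n₀ ≤ n → ∀ x ∈ ℳ n, x = 0 := by
  classical
  obtain ⟨T, hT, hspan⟩ := exists_homogeneous_generators (R := R) ℳ
  have h1 : ∀ t : ℤ × M, ∃ k : ℕ, ∀ r ∈ a.toIdeal ^ k, r • t.2 = 0 := by
    intro t
    have : t.2 ∈ GrLC.gam a.toIdeal M := by rw [h]; trivial
    exact this
  choose k hk using h1
  obtain ⟨B, hB⟩ := Finset.exists_le (T.image (fun t => t.1 + (k t : ℤ)))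
  refine ⟨B + 1, fun n hn x hx => ?_⟩
  have hx' : x ∈ Submodule.span R ((fun t : ℤ × M => t.2) '' (T : Set (ℤ × M))) := by
    rw [hspan]; trivial
  obtain ⟨c, rfl⟩ := (Submodule.mem_span_image_finset_iff_exists_fun' R).1 hx'
  rw [← DirectSum.decompose_of_mem_same ℳ hx, DirectSum.decompose_sum, DFinsupp.finsetSum_apply,
    AddSubmonoidClass.coe_finsetSum]
  refine Finset.sum_eq_zero (fun t ht => ?_)
  have h2 := decompose_smul_of_right_mem 𝒜 ℳ (c t) (hT t ht) (n - t.1)
  rw [sub_add_cancel] at h2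
  rw [h2]
  have h3 : t.1 + (k t : ℤ) ≤ B := hB _ (Finset.mem_image_of_mem _ ht)
  have h4 : ((n - t.1).toNat : ℤ) = n - t.1 := Int.toNat_of_nonneg (by omega)
  have h5 : (decompose 𝒜 (c t) (n - t.1) : R) ∈ a.toIdeal ^ (n - t.1).toNat := by
    apply piece_le_pow 𝒜 a.toIdeal ha hhom
    rw [h4]
    exact SetLike.coe_mem _
  apply hk t
  exact Ideal.pow_le_pow_right (by omega) h5

end Groth.Agent.H98.GrStar
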