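import Groth.Agent.H98.GrStar.Basic
import Groth.Prelude.Def_Wider

set_option autoImplicit false
universe u

namespace Groth.Agent.H98.GrStar

open DirectSum

section Ess

variable {ι : Type} [AddCommGroup ι] [DecidableEq ι]
variable {R : Type u} [CommRing R] {σ : Type u} [SetLike σ R] [AddSubgroupClass σ R]
  (𝒜 : ι → σ) [GradedRing 𝒜]
variable {M : Type u} [AddCommGroup M] [Module R M] (ℳ : ι → AddSubgroup M)
  [DirectSum.Decomposition ℳ] [SetLike.GradedSMul 𝒜 ℳ]
variable {L : Type u} [AddCommGroup L] [Module R L] (𝓛 : ι → AddSubgroup L)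
  [DirectSum.Decomposition 𝓛] [SetLike.GradedSMul 𝒜 𝓛]

/-- components of a multiple of a homogeneous element -/
theorem decompose_smul_of_mem {i : ι} {x : L} (hx : x ∈ 𝓛 i) (r : R) (d : ι) :
    (DirectSum.decompose 𝓛 (r • x) (d + i) : L) = ((DirectSum.decompose 𝒜 r d : 𝒜 d) : R) • x := by
  induction r using DirectSum.Decomposition.inductionOn 𝒜 with
  | zero => simp
  | @homogeneous e r =>
    have hmem : (r : R) • x ∈ 𝓛 (e + i) := by
      have := SetLike.GradedSMul.smul_mem (A := 𝒜) (B := 𝓛) r.2 hx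
      rwa [vadd_eq_add] at this
    by_cases hed : e = d
    · subst hed
      rw [DirectSum.decompose_of_mem_same 𝓛 hmem, DirectSum.decompose_of_mem_same 𝒜 r.2]
    · have hne : e + i ≠ d + i := fun h => hed (add_right_cancel h)
      rw [DirectSum.decompose_of_mem_ne 𝓛 hmem hne, DirectSum.decompose_of_mem_ne 𝒜 r.2 hed,
        zero_smul]
  | add a b ha hb =>
    rw [add_smul, DirectSum.decompose_add, DirectSum.add_apply, AddSubgroup.coe_add, ha, hb,
      DirectSum.decompose_add, DirectSum.add_apply, AddMemClass.coe_add, add_smul]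

/-- a homogeneous element of `R x`, `x` homogeneous, is a homogeneous multiple of `x` -/
theorem exists_homog_smul_eq {i j : ι} {x y : L} (hx : x ∈ 𝓛 i) (hy : y ∈ 𝓛 j)
    (hyx : y ∈ Submodule.span R {x}) : ∃ r : R, r ∈ 𝒜 (j - i) ∧ y = r • x := by
  obtain ⟨r, rfl⟩ := Submodule.mem_span_singleton.mp hyx
  refine ⟨((DirectSum.decompose 𝒜 r (j - i) : 𝒜 (j - i)) : R), SetLike.coe_mem _, ?_⟩
  have h1 := decompose_smul_of_mem 𝒜 𝓛 hx r (j - i)
  rw [sub_add_cancel, DirectSum.decompose_of_mem_same 𝓛 hy] at h1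
  exact h1

omit [SetLike.GradedSMul 𝒜 ℳ] in
/-- homogeneous case of `*essential ⟹ essential` -/
theorem exists_homog_mul_mem_range_of_homog (f : M →ₗ[R] L) (hf : GrLC.IsStarEss ℳ 𝓛 f)
    {i : ι} {x : L} (hx : x ∈ 𝓛 i) (hx0 : x ≠ 0) :
    ∃ (d : ι) (r : R), r ∈ 𝒜 d ∧ r • x ≠ 0 ∧ r • x ∈ LinearMap.range f := by
  have hP : (Submodule.span R {x}).IsHomogeneous 𝓛 := span_singleton_isHomogeneous 𝒜 𝓛 hx
  have hPne : Submodule.span R {x} ≠ ⊥ := by
    intro h
    apply hx0
    have : x ∈ Submodule.span R {x} := Submodule.mem_span_singleton_self x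
    rwa [h, Submodule.mem_bot] at this
  have hQ : (Submodule.span R {x} ⊓ LinearMap.range f).IsHomogeneous 𝓛 := by
    intro j y hy
    exact ⟨hP j hy.1, range_isHomogeneous ℳ 𝓛 f hf.grHom j hy.2⟩
  obtain ⟨j, y, hyQ, hyj, hy0⟩ := exists_homogeneous_ne_zero 𝓛 _ hQ (hf.essential _ hP hPne)
  obtain ⟨r, hr, rfl⟩ := exists_homog_smul_eq 𝒜 𝓛 hx hyj hyQ.1
  exact ⟨j - i, r, hr, hy0, hyQ.2⟩

omit [SetLike.GradedSMul 𝒜 ℳ] in
theorem exists_homog_mul_mem_range (f : M →ₗ[R] L) (hf : GrLC.IsStarEss ℳ 𝓛 f) :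
    ∀ (n : ℕ) (x : L), x ≠ 0 →
      (∃ T : Finset ι, T.card ≤ n ∧ ∀ i, i ∉ T → (DirectSum.decompose 𝓛 x i : L) = 0) →
      ∃ (d : ι) (r : R), r ∈ 𝒜 d ∧ r • x ≠ 0 ∧ r • x ∈ LinearMap.range f := by
  intro n
  induction n with
  | zero =>
    rintro x hx0 ⟨T, hT, hTx⟩
    exfalso
    apply hx0
    apply eq_zero_of_decompose_eq_zero 𝓛
    intro i
    apply hTx
    rw [Finset.card_eq_zero.mp (Nat.le_zero.mp hT)]
    exact Finset.notMem_empty i
  | succ n ih =>
    rintro x hx0 ⟨T, hT, hTx⟩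
    -- a nonzero component
    have hcomp : ∃ i₀, (DirectSum.decompose 𝓛 x i₀ : L) ≠ 0 := by
      by_contra hcon
      push Not at hcon
      exact hx0 (eq_zero_of_decompose_eq_zero 𝓛 x hcon)
    obtain ⟨i₀, hi₀⟩ := hcomp
    have hi₀T : i₀ ∈ T := by
      by_contra h
      exact hi₀ (hTx i₀ h)
    set x₀ : L := (DirectSum.decompose 𝓛 x i₀ : L) with hx₀
    have hx₀mem : x₀ ∈ 𝓛 i₀ := SetLike.coe_mem _
    obtain ⟨d, r, hr, hrx₀, hrx₀f⟩ :=
      exists_homog_mul_mem_range_of_homog 𝒜 ℳ 𝓛 f hf hx₀mem hi₀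
    set x' : L := x - x₀ with hx'
    have hx'comp : ∀ i, (DirectSum.decompose 𝓛 x' i : L) =
        if i = i₀ then 0 else (DirectSum.decompose 𝓛 x i : L) := by
      intro i
      rw [hx', DirectSum.decompose_sub, DirectSum.sub_apply, AddSubgroupClass.coe_sub]
      by_cases hi : i = i₀
      · subst hi
        rw [if_pos rfl, DirectSum.decompose_of_mem_same 𝓛 hx₀mem, sub_self]
      · rw [if_neg hi, DirectSum.decompose_of_mem_ne 𝓛 hx₀mem (Ne.symm hi), sub_zero]
    have hxsplit : r • x = r • x' + r • x₀ := by rw [← smul_add, hx', sub_add_cancel]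
    by_cases hrx' : r • x' = 0
    · refine ⟨d, r, hr, ?_, ?_⟩
      · rw [hxsplit, hrx', zero_add]; exact hrx₀
      · rw [hxsplit, hrx', zero_add]; exact hrx₀f
    · -- apply the induction hypothesis to `r • x'`
      have hsupp : ∃ T' : Finset ι, T'.card ≤ n ∧
          ∀ j, j ∉ T' → (DirectSum.decompose 𝓛 (r • x') j : L) = 0 := by
        refine ⟨(T.erase i₀).image (fun i => d + i), ?_, ?_⟩
        · refine le_trans Finset.card_image_le ?_
          rw [Finset.card_erase_of_mem hi₀T]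
          omega
        · intro j hj
          have hj' : j = d + (j - d) := by abel
          rw [hj', decompose_smul_homog 𝒜 𝓛 hr x' (j - d), hx'comp]
          by_cases hjd : j - d = i₀
          · rw [if_pos hjd, smul_zero]
          · rw [if_neg hjd]
            have : j - d ∉ T := by
              intro hmem
              apply hj
              rw [Finset.mem_image]
              exact ⟨j - d, Finset.mem_erase.mpr ⟨hjd, hmem⟩, by abel⟩
            rw [hTx _ this, smul_zero]
      obtain ⟨e, s, hs, hsx', hsx'f⟩ := ih (r • x') hrx' hsupp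
      refine ⟨e + d, s * r, ?_, ?_, ?_⟩
      · exact SetLike.GradedMul.mul_mem (A := 𝒜) hs hr
      · -- nonzero
        have hc : ∃ j, (DirectSum.decompose 𝓛 (s • r • x') j : L) ≠ 0 := by
          by_contra hcon
          push Not at hcon
          exact hsx' (eq_zero_of_decompose_eq_zero 𝓛 _ hcon)
        obtain ⟨j, hj⟩ := hc
        have hsr : s * r ∈ 𝒜 (e + d) := SetLike.GradedMul.mul_mem (A := 𝒜) hs hr
        have hjne : j ≠ e + d + i₀ := by
          intro hje
          apply hj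
          rw [hje, ← mul_smul, decompose_smul_homog 𝒜 𝓛 hsr x' i₀, hx'comp, if_pos rfl, smul_zero]
        intro hzero
        apply hj
        have hmem₀ : (s * r) • x₀ ∈ 𝓛 (e + d + i₀) := by
          have := SetLike.GradedSMul.smul_mem (A := 𝒜) (B := 𝓛) hsr hx₀mem
          rwa [vadd_eq_add] at this
        have h1 : (DirectSum.decompose 𝓛 ((s * r) • x) j : L) = 0 := by rw [hzero]; simp
        have h2 : (s * r) • x = s • r • x' + (s * r) • x₀ := by
          rw [mul_smul, hxsplit, smul_add, mul_smul]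
        rw [h2, DirectSum.decompose_add, DirectSum.add_apply, AddSubgroup.coe_add,
          DirectSum.decompose_of_mem_ne 𝓛 hmem₀ (Ne.symm hjne), add_zero] at h1
        exact h1
      · have h2 : (s * r) • x = s • r • x' + s • (r • x₀) := by
          rw [mul_smul, hxsplit, smul_add]
        rw [h2]
        exact Submodule.add_mem _ hsx'f (Submodule.smul_mem _ s hrx₀f)

omit [SetLike.GradedSMul 𝒜 ℳ] in
include 𝒜 in
/-- a `*essential` extension of graded modules is essential -/
theorem isEssentialInj_of_isStarEss (f : M →ₗ[R] L) (hf : GrLC.IsStarEss ℳ 𝓛 f) :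
    InjHull.IsEssentialInj f := by
  classical
  refine ⟨hf.injective, ?_⟩
  intro N hN
  obtain ⟨x, hxN, hx0⟩ := (Submodule.ne_bot_iff N).mp hN
  obtain ⟨d, r, _, hrx, hrxf⟩ := exists_homog_mul_mem_range 𝒜 ℳ 𝓛 f hf
    (DirectSum.decompose 𝓛 x).support.card x hx0
    ⟨(DirectSum.decompose 𝓛 x).support, le_refl _, fun i hi => by
      rw [DFinsupp.notMem_support_iff] at hi
      rw [hi]; rfl⟩
  intro hbot
  have : r • x ∈ N ⊓ LinearMap.range f := ⟨N.smul_mem r hxN, hrxf⟩
  rw [hbot, Submodule.mem_bot] at this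
  exact hrx this

end Ess

end Groth.Agent.H98.GrStar
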