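import Groth.Agent.H98.GrStar.Self
import Mathlib.RingTheory.Ideal.AssociatedPrime.Localization
import Mathlib.RingTheory.Ideal.MinimalPrime.Basic

set_option autoImplicit false
universe u

/-!
# The *injective hull of `R ⧸ p` for a graded prime `p`
-/

namespace Groth.Agent.H98.GrStar

open DirectSum

variable {ι : Type} [AddCommGroup ι] [DecidableEq ι]
variable {R : Type u} [CommRing R] {σ : Type u} [SetLike σ R] [AddSubgroupClass σ R]
  (𝒜 : ι → σ) [GradedRing 𝒜]
variable {E : Type u} [AddCommGroup E] [Module R E] (𝓔 : ι → AddSubgroup E)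
  [DirectSum.Decomposition 𝓔] [SetLike.GradedSMul 𝒜 𝓔]
variable (p : HomogeneousIdeal 𝒜) (e : (R ⧸ p.toIdeal) →ₗ[R] E)

omit [DecidableEq ι] [AddCommGroup ι] [GradedRing 𝒜] in
theorem smul_e (I : Ideal R) (e : (R ⧸ I) →ₗ[R] E) (r s : R) :
    r • e (Ideal.Quotient.mk I s) = e (Ideal.Quotient.mk I (r * s)) := by
  rw [← map_smul]
  rfl

omit [DecidableEq ι] [AddCommGroup ι] [GradedRing 𝒜] in
theorem smul_e_eq_zero_iff (I : Ideal R) [I.IsPrime] (e : (R ⧸ I) →ₗ[R] E)
    (he : Function.Injective e) (s : R) (hs : s ∉ I) (t : R) :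
    t • e (Ideal.Quotient.mk I s) = 0 ↔ t ∈ I := by
  rw [smul_e, map_eq_zero_iff e he, Ideal.Quotient.eq_zero_iff_mem]
  constructor
  · intro h
    exact (Ideal.IsPrime.mem_or_mem ‹_› h).resolve_right hs
  · intro h
    exact Ideal.mul_mem_right _ _ h

omit [DecidableEq ι] [AddCommGroup ι] [GradedRing 𝒜] in
theorem e_ne_zero_iff (I : Ideal R) (e : (R ⧸ I) →ₗ[R] E)
    (he : Function.Injective e) (s : R) :
    e (Ideal.Quotient.mk I s) ≠ 0 ↔ s ∉ I := by
  rw [Ne, map_eq_zero_iff e he, Ideal.Quotient.eq_zero_iff_mem]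

/-- a *essential extension of `R ⧸ p` is essential -/
theorem isEssentialInj_of_quot (he : GrLC.IsStarEss (GrLC.quotGr 𝒜 p) 𝓔 e) :
    InjHull.IsEssentialInj e :=
  isEssentialInj_of_isStarEss 𝒜 (quotIdealGMod 𝒜 p).gr 𝓔 e he

variable [hp : p.toIdeal.IsPrime]

omit [SetLike.GradedSMul 𝒜 𝓔] in
/-- S13218 -/
theorem isStarIndec_of_quot (he : GrLC.IsStarEss (GrLC.quotGr 𝒜 p) 𝓔 e) :
    GrLC.IsStarIndec R 𝓔 := by
  constructor
  · haveI : Nontrivial (R ⧸ p.toIdeal) := Ideal.Quotient.nontrivial_iff.mpr hp.ne_top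
    exact he.injective.nontrivial
  · intro P Q hP hQ hPQ
    by_contra hcon
    rw [not_or] at hcon
    obtain ⟨x, ⟨hxP, a', hax⟩, hx0⟩ := (Submodule.ne_bot_iff _).mp (he.essential P hP hcon.1)
    obtain ⟨y, ⟨hyQ, b', hby⟩, hy0⟩ := (Submodule.ne_bot_iff _).mp (he.essential Q hQ hcon.2)
    obtain ⟨a, rfl⟩ := Ideal.Quotient.mk_surjective a'
    obtain ⟨b, rfl⟩ := Ideal.Quotient.mk_surjective b'
    subst hax hby
    have ha : a ∉ p.toIdeal := (e_ne_zero_iff p.toIdeal e he.injective a).mp hx0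
    have hb : b ∉ p.toIdeal := (e_ne_zero_iff p.toIdeal e he.injective b).mp hy0
    have h1 : b • e (Ideal.Quotient.mk p.toIdeal a) ∈ P := Submodule.smul_mem _ _ hxP
    have h2 : a • e (Ideal.Quotient.mk p.toIdeal b) ∈ Q := Submodule.smul_mem _ _ hyQ
    rw [smul_e] at h1 h2
    rw [mul_comm] at h2
    have h3 : e (Ideal.Quotient.mk p.toIdeal (b * a)) ∈ P ⊓ Q := ⟨h1, h2⟩
    rw [hPQ.inf_eq_bot, Submodule.mem_bot] at h3
    have h4 : b * a ∉ p.toIdeal := fun h => (hp.mem_or_mem h).elim hb ha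
    exact (e_ne_zero_iff p.toIdeal e he.injective (b * a)).mpr h4 h3

/-- multiplication by a homogeneous element outside `p` is injective on `*E(R ⧸ p)` -/
theorem smul_injective_of_quot (he : GrLC.IsStarEss (GrLC.quotGr 𝒜 p) 𝓔 e) {g : ι} {r : R}
    (hr : r ∈ 𝒜 g) (hrp : r ∉ p.toIdeal) : Function.Injective (fun x : E => r • x) := by
  have hK : (LinearMap.ker (LinearMap.lsmul R E r)).IsHomogeneous 𝓔 := by
    intro i x hx
    rw [LinearMap.mem_ker, LinearMap.lsmul_apply] at hx ⊢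
    rw [← decompose_smul_homog 𝒜 𝓔 hr x i, hx]
    simp
  have hker : LinearMap.ker (LinearMap.lsmul R E r) = ⊥ := by
    by_contra hne
    obtain ⟨x, ⟨hxK, s', hsx⟩, hx0⟩ := (Submodule.ne_bot_iff _).mp (he.essential _ hK hne)
    obtain ⟨s, rfl⟩ := Ideal.Quotient.mk_surjective s'
    subst hsx
    have hs : s ∉ p.toIdeal := (e_ne_zero_iff p.toIdeal e he.injective s).mp hx0
    have hxK' : r • e (Ideal.Quotient.mk p.toIdeal s) = 0 := hxK
    rw [smul_e_eq_zero_iff p.toIdeal e he.injective s hs] at hxK'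
    exact hrp hxK'
  exact LinearMap.ker_eq_bot.mp hker

/-- S13219 -/
theorem smul_bijective_of_quot (he : GrLC.IsStarInjHull 𝒜 (GrLC.quotGr 𝒜 p) 𝓔 e) {g : ι} {r : R}
    (hr : r ∈ 𝒜 g) (hrp : r ∉ p.toIdeal) : Function.Bijective (fun x : E => r • x) := by
  have hinj := smul_injective_of_quot 𝒜 𝓔 p e he.toIsStarEss hr hrp
  refine ⟨hinj, ?_⟩
  obtain ⟨Y, eY, hY⟩ := exists_shift' 𝒜 𝓔 g
  have hYinj : GrLC.IsStarInj 𝒜 Y.gr := isStarInj_of_shift_equiv 𝒜 𝓔 he.starInj Y g eY hY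
  let μ : Y.carrier →ₗ[R] E := (LinearMap.lsmul R E r) ∘ₗ eY.toLinearMap
  have hμ : GrLC.IsStarEss Y.gr 𝓔 μ := by
    refine ⟨fun a b hab => eY.injective (hinj hab), ?_, ?_⟩
    · intro k y hy
      have h1 : eY y ∈ 𝓔 (k - g) := (hY k y).mp hy
      have h2 := SetLike.GradedSMul.smul_mem (A := 𝒜) (B := 𝓔) hr h1
      rw [vadd_eq_add, add_sub_cancel] at h2
      exact h2
    · intro P hP hPne
      obtain ⟨x, ⟨hxP, s', hsx⟩, hx0⟩ := (Submodule.ne_bot_iff _).mp (he.essential P hP hPne)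
      rw [Submodule.ne_bot_iff]
      refine ⟨r • x, ⟨Submodule.smul_mem _ _ hxP, eY.symm x, ?_⟩, ?_⟩
      · change r • eY (eY.symm x) = r • x
        rw [eY.apply_symm_apply]
      · intro h0
        apply hx0
        apply hinj
        change r • x = r • (0 : E)
        rw [h0, smul_zero]
  have hsurj := surjective_of_isStarInj 𝒜 Y.gr 𝓔 hYinj μ hμ
  intro x
  obtain ⟨y, hy⟩ := hsurj x
  exact ⟨eY y, hy⟩

/-- an element of `*E(R ⧸ p)` with prime annihilator `q'` has `q' = p` -/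
theorem ann_prime_eq_of_quot (he : GrLC.IsStarEss (GrLC.quotGr 𝒜 p) 𝓔 e) (y : E) (q' : Ideal R)
    [hq' : q'.IsPrime] (hy : ∀ r : R, r • y = 0 ↔ r ∈ q') : q' = p.toIdeal := by
  have hess := isEssentialInj_of_quot 𝒜 𝓔 p e he
  have hy0 : y ≠ 0 := by
    intro h0
    apply hq'.ne_top
    rw [Ideal.eq_top_iff_one, ← hy, h0, smul_zero]
  have hspan : Submodule.span R {y} ≠ ⊥ := by
    intro h0
    apply hy0
    have : y ∈ Submodule.span R {y} := Submodule.mem_span_singleton_self y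
    rw [h0] at this
    exact (Submodule.mem_bot R).mp this
  obtain ⟨x, ⟨hxy, s', hsx⟩, hx0⟩ := (Submodule.ne_bot_iff _).mp (hess.essential _ hspan)
  obtain ⟨s, rfl⟩ := Ideal.Quotient.mk_surjective s'
  obtain ⟨r, rfl⟩ := Submodule.mem_span_singleton.mp hxy
  have hs : s ∉ p.toIdeal := by
    rw [← e_ne_zero_iff p.toIdeal e he.injective s, hsx]
    exact hx0
  have hr : r ∉ q' := by
    intro h
    apply hx0
    exact (hy r).mpr h
  ext t
  rw [← smul_e_eq_zero_iff p.toIdeal e he.injective s hs t, hsx, smul_smul, hy]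
  constructor
  · intro h
    exact Ideal.mul_mem_right _ _ h
  · intro h
    exact (hq'.mem_or_mem h).resolve_right hr

omit hp in
/-- S13221 -/
theorem eq_of_quot_equiv [p.toIdeal.IsPrime] (he : GrLC.IsStarEss (GrLC.quotGr 𝒜 p) 𝓔 e)
    {F : Type u} [AddCommGroup F] [Module R F] (𝓕 : ι → AddSubgroup F)
    [DirectSum.Decomposition 𝓕] [SetLike.GradedSMul 𝒜 𝓕] (q : HomogeneousIdeal 𝒜)
    [q.toIdeal.IsPrime] (f : (R ⧸ q.toIdeal) →ₗ[R] F)
    (hf : GrLC.IsStarEss (GrLC.quotGr 𝒜 q) 𝓕 f) (φ : E ≃ₗ[R] F) : p = q := by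
  apply HomogeneousIdeal.toIdeal_injective
  refine ann_prime_eq_of_quot 𝒜 𝓕 q f hf (φ (e (Ideal.Quotient.mk p.toIdeal 1))) p.toIdeal ?_
  intro r
  rw [← map_smul, map_eq_zero_iff φ φ.injective,
    smul_e_eq_zero_iff p.toIdeal e he.injective 1 (fun h => ‹p.toIdeal.IsPrime›.ne_top
      ((Ideal.eq_top_iff_one _).mpr h))]

/-- S13220 -/
theorem gam_eq_top_of_quot [IsNoetherianRing R] (he : GrLC.IsStarEss (GrLC.quotGr 𝒜 p) 𝓔 e) :
    GrLC.gam p.toIdeal E = ⊤ := by
  rw [eq_top_iff]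
  intro x _
  let N : Submodule R E := Submodule.span R {x}
  have : Module.Finite R N := Module.Finite.span_singleton R x
  have hmin : ∀ P ∈ (Module.annihilator R N).minimalPrimes, P = p.toIdeal := by
    intro P hP
    have hass := Module.associatedPrimes.minimalPrimes_annihilator_subset_associatedPrimes R N hP
    obtain ⟨hPprime, z, hz⟩ := (isAssociatedPrime_iff (M := N)).mp hass
    have := hPprime
    refine ann_prime_eq_of_quot 𝒜 𝓔 p e he (z : E) P ?_
    intro r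
    rw [hz, Submodule.mem_colon_singleton, Submodule.mem_bot]
    constructor
    · intro h
      apply Subtype.ext
      exact h
    · intro h
      exact congrArg Subtype.val h
  have hrad : p.toIdeal ≤ (Module.annihilator R N).radical := by
    rw [← Ideal.sInf_minimalPrimes]
    intro r hr
    rw [Submodule.mem_sInf]
    intro P hP
    rw [hmin P hP]
    exact hr
  obtain ⟨k, hk⟩ := Ideal.exists_pow_le_of_le_radical_of_fg hrad
    (IsNoetherian.noetherian p.toIdeal)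
  refine ⟨k, fun r hr => ?_⟩
  have h1 : r ∈ Module.annihilator R N := hk hr
  have h2 := Module.mem_annihilator.mp h1 ⟨x, Submodule.mem_span_singleton_self x⟩
  exact congrArg Subtype.val h2

end Groth.Agent.H98.GrStar
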