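import Groth.Agent.H98.GrStar.PieceApps

set_option autoImplicit false
set_option linter.unusedSectionVars false
universe u

/-!
# Pieces of graded local cohomology with support in the *maximal ideal are Artinian over `R_0`
-/

namespace Groth.Agent.H98.GrStar

open DirectSum

section Artin

variable {R : Type u} [CommRing R] [IsNoetherianRing R]
  {σ : Type u} [SetLike σ R] [AddSubgroupClass σ R]
  (𝒜 : ℤ → σ) [GradedRing 𝒜] (hpos : ∀ n : ℤ, n < 0 → ∀ r ∈ 𝒜 n, r = 0)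

theorem serreClass_isArtinian : SerreClass (GrLC.deg0 𝒜)
    (fun (H : Type u) [AddCommGroup H] [Module (GrLC.deg0 𝒜) H] =>
      IsArtinian (GrLC.deg0 𝒜) H) where
  zero H _ _ hH := isArtinian_of_finite
  of_exact f g hfg hH hL := by
    haveI := hH
    haveI := hL
    exact isArtinian_of_range_eq_ker f g (LinearMap.exact_iff.mp hfg).symm

theorem melkHyp_isArtinian : MelkHyp 𝒜
    (fun (H : Type u) [AddCommGroup H] [Module (GrLC.deg0 𝒜) H] =>
      IsArtinian (GrLC.deg0 𝒜) H) :=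
  fun H _ _ x hx hA => Groth.Agent.H17.isArtinian_of_torsionBy_principal x H hx hA

omit [IsNoetherianRing R] in
/-- modulo a *maximal ideal, homogeneous elements of degree zero outside it are invertible -/
theorem exists_inverse_mod_coatom (m : HomogeneousIdeal 𝒜) (hm : IsCoatom m) {r : R}
    (hr : r ∈ 𝒜 0) (hrm : r ∉ m.toIdeal) :
    ∃ (s : R) (μ : R), s ∈ 𝒜 0 ∧ μ ∈ m.toIdeal ∧ μ + s * r = 1 := by
  let G : HomogeneousIdeal 𝒜 := ⟨Ideal.span {r}, Ideal.homogeneous_span 𝒜 {r} (by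
    intro x hx
    rw [Set.mem_singleton_iff] at hx
    subst hx
    exact ⟨0, hr⟩)⟩
  let J : HomogeneousIdeal 𝒜 := m ⊔ G
  have hJ : J.toIdeal = m.toIdeal ⊔ Ideal.span {r} := rfl
  have hlt : m < J := by
    refine lt_of_le_of_ne le_sup_left ?_
    intro h
    apply hrm
    rw [h, hJ]
    exact Submodule.mem_sup_right (Ideal.subset_span rfl)
  have hJtop := hm.2 J hlt
  have h1 : (1 : R) ∈ m.toIdeal ⊔ Ideal.span {r} := by
    rw [← hJ, hJtop]
    trivial
  obtain ⟨μ', hμ', y, hy, hsum⟩ := Submodule.mem_sup.mp h1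
  obtain ⟨t, rfl⟩ := Ideal.mem_span_singleton'.mp hy
  refine ⟨(decompose 𝒜 t 0 : R), (decompose 𝒜 μ' 0 : R), SetLike.coe_mem _,
    m.isHomogeneous 0 hμ', ?_⟩
  have h2 := congrArg (fun z => (decompose 𝒜 z 0 : R)) hsum
  simp only at h2
  rw [DirectSum.decompose_add, DirectSum.add_apply, AddMemClass.coe_add,
    decompose_mul_zero_of_mem 𝒜 t hr,
    DirectSum.decompose_of_mem_same 𝒜 (SetLike.GradedOne.one_mem (A := 𝒜))] at h2
  exact h2

theorem baseHyp_isArtinian (m : HomogeneousIdeal 𝒜) (hm : IsCoatom m) : BaseHyp 𝒜 m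
    (fun (H : Type u) [AddCommGroup H] [Module (GrLC.deg0 𝒜) H] =>
      IsArtinian (GrLC.deg0 𝒜) H) := by
  classical
  intro X p g m₀ hp hm₀ hspan hann hap
  have hpm : p = m := by
    by_contra hne
    have hle : m ≤ p := hap
    have hlt : m < p := lt_of_le_of_ne hle (Ne.symm hne)
    have h1 := hm.2 p hlt
    apply hp.ne_top
    rw [h1]
    rfl
  subst hpm
  have key : ∀ S : Submodule (GrLC.deg0 𝒜) ↥(GrLC.comp 𝒜 X.gr g), S = ⊥ ∨ S = ⊤ := by
    intro S
    by_cases hS : S = ⊥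
    · exact Or.inl hS
    · right
      obtain ⟨c, hcS, hc0⟩ := (Submodule.ne_bot_iff S).mp hS
      obtain ⟨r, hrc⟩ := compGenMap_surjective 𝒜 X hm₀ hspan c
      have hrm : (r : R) ∉ p.toIdeal := by
        intro h
        apply hc0
        rw [← hrc]
        apply Subtype.ext
        exact smul_eq_zero_of_cyclic hspan hann h m₀
      obtain ⟨s, μ, hs, hμ, hsum⟩ := exists_inverse_mod_coatom 𝒜 p hm r.2 hrm
      have hm₀S : (⟨m₀, hm₀⟩ : ↥(GrLC.comp 𝒜 X.gr g)) ∈ S := by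
        have h1 : (⟨m₀, hm₀⟩ : ↥(GrLC.comp 𝒜 X.gr g)) = (⟨s, hs⟩ : GrLC.deg0 𝒜) • c := by
          apply Subtype.ext
          rw [← hrc]
          change m₀ = s • ((r : R) • m₀)
          rw [smul_smul]
          have h2 : (μ + s * (r : R)) • m₀ = m₀ := by rw [hsum, one_smul]
          rw [add_smul, smul_eq_zero_of_cyclic hspan hann hμ m₀, zero_add] at h2
          exact h2.symm
        rw [h1]
        exact S.smul_mem _ hcS
      rw [eq_top_iff]
      intro y _
      obtain ⟨r', rfl⟩ := compGenMap_surjective 𝒜 X hm₀ hspan y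
      have h3 : compGenMap 𝒜 X hm₀ r' = r' • (⟨m₀, hm₀⟩ : ↥(GrLC.comp 𝒜 X.gr g)) :=
        Subtype.ext rfl
      rw [h3]
      exact S.smul_mem r' hm₀S
  have hfin : Finite (Submodule (GrLC.deg0 𝒜) ↥(GrLC.comp 𝒜 X.gr g)) := by
    refine Finite.of_injective (fun S => (S = ⊤ : Prop)) ?_
    intro S S' h
    simp only [eq_iff_iff] at h
    rcases key S with h1 | h1 <;> rcases key S' with h2 | h2
    · rw [h1, h2]
    · rw [h.mpr h2, h2]
    · rw [h1, h.mp h1]
    · rw [h1, h2]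
  exact (inferInstance : WellFoundedLT (Submodule (GrLC.deg0 𝒜) ↥(GrLC.comp 𝒜 X.gr g)))

include hpos in
/-- pieces of `*H^i_m(X)`, `m` *maximal, are Artinian over `R_0` -/
theorem isArtinian_Hcomp (m : HomogeneousIdeal 𝒜) (hm : IsCoatom m)
    (X : GrLC.GMod.{u} 𝒜) [Module.Finite R X.carrier] (E : GrLC.StarInjRes 𝒜 X.gr) (i : ℕ) (n : ℤ) :
    IsArtinian (GrLC.deg0 𝒜) ↥(E.Hcomp m i n) := by
  have hirr : ∀ n : ℤ, 0 < n → ∀ r ∈ 𝒜 n, r ∈ m.toIdeal := fun n hn r hr =>
    mem_of_isCoatom_of_pos 𝒜 hpos m hm hn hr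
  exact inClass 𝒜 hpos m hirr _ (serreClass_isArtinian 𝒜) (baseHyp_isArtinian 𝒜 m hm)
    (Or.inr (melkHyp_isArtinian 𝒜)) i X E n

end Artin

end Groth.Agent.H98.GrStar
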