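import Groth.Agent.H98.GrStar.Hull1

set_option autoImplicit false
universe u

/-!
# No proper *essential extension ⇒ *injective; existence of *injective hulls
-/

namespace Groth.Agent.H98.GrStar

open DirectSum

section Mod

variable {ι : Type} [AddCommGroup ι] [DecidableEq ι]
variable {R : Type u} [CommRing R] {σ : Type u} [SetLike σ R] [AddSubgroupClass σ R]
  (𝒜 : ι → σ) [GradedRing 𝒜]
variable {M : Type u} [AddCommGroup M] [Module R M] (ℳ : ι → AddSubgroup M)
  [DirectSum.Decomposition ℳ] [SetLike.GradedSMul 𝒜 ℳ]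

/-- bundled quotient by a homogeneous submodule -/
theorem exists_quot (C : Submodule R M) (hC : C.IsHomogeneous ℳ) :
    ∃ (Q : GrLC.GMod.{u} 𝒜) (π : M →ₗ[R] Q.carrier), GrLC.IsGrHom ℳ Q.gr π ∧
      Function.Surjective π ∧ LinearMap.ker π = C := by
  have hker : (LinearMap.ker C.mkQ).IsHomogeneous ℳ := by rw [Submodule.ker_mkQ]; exact hC
  exact ⟨quotGMod 𝒜 ℳ C.mkQ (Submodule.mkQ_surjective C) hker, C.mkQ,
    quotGMod_isGrHom 𝒜 ℳ C.mkQ (Submodule.mkQ_surjective C) hker, Submodule.mkQ_surjective C,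
    Submodule.ker_mkQ C⟩

/-- bundled homogeneous submodule -/
theorem exists_sub (E' : Submodule R M) (hE' : E'.IsHomogeneous ℳ) :
    ∃ (E : GrLC.GMod.{u} 𝒜) (j : E.carrier →ₗ[R] M), GrLC.IsGrHom E.gr ℳ j ∧
      Function.Injective j ∧ LinearMap.range j = E' ∧ ∀ i y, y ∈ E.gr i ↔ j y ∈ ℳ i := by
  have hrange : (LinearMap.range E'.subtype).IsHomogeneous ℳ := by
    rw [Submodule.range_subtype]; exact hE'
  exact ⟨subGMod 𝒜 ℳ E'.subtype (Submodule.injective_subtype E') hrange, E'.subtype,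
    subGMod_isGrHom 𝒜 ℳ E'.subtype (Submodule.injective_subtype E') hrange,
    Submodule.injective_subtype E', Submodule.range_subtype E', fun i y => Iff.rfl⟩

/-- a graded module without proper *essential extension is *injective -/
theorem isStarInj_of_forall_surjective
    (h : ∀ (N : GrLC.GMod.{u} 𝒜) (f : M →ₗ[R] N.carrier), GrLC.IsStarEss ℳ N.gr f →
      Function.Surjective f) : GrLC.IsStarInj 𝒜 ℳ := by
  obtain ⟨X, Φ, hΦ, hΦinj, hX⟩ := exists_starInj_embedding 𝒜 ℳ
  obtain ⟨C, hCh, hCF, hCmax⟩ := exists_maximal_compl X.gr (LinearMap.range Φ)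
  obtain ⟨Q, π, hπ, hπsurj, hπker⟩ := exists_quot 𝒜 X.gr C hCh
  have hψinj : Function.Injective (π ∘ₗ Φ) := by
    rw [← LinearMap.ker_eq_bot, eq_bot_iff]
    intro m hm
    rw [LinearMap.mem_ker, LinearMap.comp_apply] at hm
    have h1 : Φ m ∈ C ⊓ LinearMap.range Φ := ⟨by rw [← hπker]; exact hm, m, rfl⟩
    rw [hCF, Submodule.mem_bot] at h1
    rw [Submodule.mem_bot]
    exact hΦinj (h1.trans (map_zero Φ).symm)
  have hψ : GrLC.IsStarEss ℳ Q.gr (π ∘ₗ Φ) := by
    refine ⟨hψinj, fun i m hm => hπ i _ (hΦ i m hm), ?_⟩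
    intro P hPh hPne
    have hP'h := comap_isHomogeneous X.gr Q.gr π hπ P hPh
    have hCP' : C ≤ P.comap π := by
      intro x hx
      rw [Submodule.mem_comap]
      have : π x = 0 := by rw [← LinearMap.mem_ker, hπker]; exact hx
      rw [this]; exact Submodule.zero_mem _
    have hP'ne : P.comap π ≠ C := by
      intro heq
      obtain ⟨p, hpP, hp0⟩ := (Submodule.ne_bot_iff P).mp hPne
      obtain ⟨x, rfl⟩ := hπsurj p
      apply hp0
      have : x ∈ P.comap π := hpP
      rw [heq, ← hπker] at this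
      exact this
    have hmeet : P.comap π ⊓ LinearMap.range Φ ≠ ⊥ := fun h0 => hP'ne (hCmax _ hP'h h0 hCP')
    obtain ⟨x, ⟨hxP', m, rfl⟩, hx0⟩ := (Submodule.ne_bot_iff _).mp hmeet
    rw [Submodule.ne_bot_iff]
    refine ⟨π (Φ m), ⟨hxP', m, rfl⟩, ?_⟩
    intro h0
    apply hx0
    have h1 : Φ m ∈ C ⊓ LinearMap.range Φ := ⟨by rw [← hπker]; exact h0, m, rfl⟩
    rw [hCF, Submodule.mem_bot] at h1
    exact h1
  have hψsurj := h Q (π ∘ₗ Φ) hψ
  let e : M ≃ₗ[R] Q.carrier := LinearEquiv.ofBijective (π ∘ₗ Φ) ⟨hψinj, hψsurj⟩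
  have he : GrLC.IsGrHom ℳ Q.gr e.toLinearMap := fun i m hm => hπ i _ (hΦ i m hm)
  have hesymm := symm_isGrHom ℳ Q.gr e he
  refine isStarInj_of_retract 𝒜 ℳ X.gr hX Φ hΦ (e.symm.toLinearMap ∘ₗ π)
    (fun i x hx => hesymm i _ (hπ i x hx)) ?_
  ext m
  change e.symm (π (Φ m)) = m
  exact e.symm_apply_apply m

/-- every graded module has a *injective hull -/
theorem exists_isStarInjHull :
    ∃ (E : GrLC.GMod.{u} 𝒜) (f : M →ₗ[R] E.carrier), GrLC.IsStarInjHull 𝒜 ℳ E.gr f := by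
  obtain ⟨X, Φ, hΦ, hΦinj, hX⟩ := exists_starInj_embedding 𝒜 ℳ
  have hFh := range_isHomogeneous ℳ X.gr Φ hΦ
  obtain ⟨E', hE'h, hFE', hess, hmax⟩ := exists_maximal_ess 𝒜 X.gr (LinearMap.range Φ) hFh
  obtain ⟨E, j, hj, hjinj, hjrange, hjgr⟩ := exists_sub 𝒜 X.gr E' hE'h
  -- the map `f : M → E`
  have hΦj : ∀ m, ∃ y, j y = Φ m := fun m => by
    have : Φ m ∈ LinearMap.range j := by rw [hjrange]; exact hFE' ⟨m, rfl⟩
    exact this
  let f : M →ₗ[R] E.carrier :=
    (LinearEquiv.ofInjective j hjinj).symm.toLinearMap ∘ₗ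
      (Φ.codRestrict (LinearMap.range j) (fun m => hΦj m))
  have hjf : ∀ m, j (f m) = Φ m := by
    intro m
    have := (LinearEquiv.ofInjective j hjinj).apply_symm_apply
      (Φ.codRestrict (LinearMap.range j) (fun m => hΦj m) m)
    exact congrArg Subtype.val this
  have hfinj : Function.Injective f := by
    intro a b hab
    apply hΦinj
    rw [← hjf, ← hjf, hab]
  have hfgr : GrLC.IsGrHom ℳ E.gr f := by
    intro i m hm
    rw [hjgr, hjf]
    exact hΦ i m hm
  have hfess : GrLC.IsStarEss ℳ E.gr f := by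
    refine ⟨hfinj, hfgr, ?_⟩
    intro P hPh hPne
    have h1 := map_isHomogeneous E.gr X.gr j hj P hPh
    have h2 : P.map j ≤ E' := by
      rw [← hjrange]
      rintro _ ⟨y, _, rfl⟩
      exact ⟨y, rfl⟩
    have h3 : P.map j ≠ ⊥ := by
      intro h0
      apply hPne
      rw [eq_bot_iff]
      intro y hy
      have : j y ∈ P.map j := ⟨y, hy, rfl⟩
      rw [h0, Submodule.mem_bot] at this
      rw [Submodule.mem_bot]
      exact hjinj (this.trans (map_zero j).symm)
    obtain ⟨x, ⟨⟨y, hyP, hyx⟩, m, hmx⟩, hx0⟩ := (Submodule.ne_bot_iff _).mp (hess _ h1 h2 h3)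
    rw [Submodule.ne_bot_iff]
    have hy : y = f m := by
      apply hjinj
      rw [hjf, hyx, hmx]
    refine ⟨y, ⟨hyP, m, hy.symm⟩, ?_⟩
    intro h0
    apply hx0
    rw [← hyx, h0, map_zero]
  refine ⟨E, f, { toIsStarEss := hfess, starInj := ?_ }⟩
  -- `E` has no proper *essential extension
  apply isStarInj_of_forall_surjective
  intro N g hg
  obtain ⟨k, hk, hkg⟩ := hX E N g hg.grHom hg.injective j hj
  have hkinj : Function.Injective k := by
    apply injective_of_comp_injective E.gr N.gr X.gr g hg k hk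
    rw [hkg]
    exact hjinj
  have hkh := range_isHomogeneous N.gr X.gr k hk
  have hE'k : E' ≤ LinearMap.range k := by
    rw [← hjrange]
    rintro _ ⟨y, rfl⟩
    exact ⟨g y, LinearMap.congr_fun hkg y⟩
  have hkess : EssIn X.gr (LinearMap.range Φ) (LinearMap.range k) := by
    intro P hPh hPle hPne
    have hP'h := comap_isHomogeneous N.gr X.gr k hk P hPh
    have hP'ne : P.comap k ≠ ⊥ := by
      intro h0
      obtain ⟨p, hpP, hp0⟩ := (Submodule.ne_bot_iff P).mp hPne
      obtain ⟨n, rfl⟩ := hPle hpP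
      have : n ∈ P.comap k := hpP
      rw [h0, Submodule.mem_bot] at this
      apply hp0
      rw [this, map_zero]
    obtain ⟨n, ⟨hnP', y, rfl⟩, hn0⟩ := (Submodule.ne_bot_iff _).mp (hg.essential _ hP'h hP'ne)
    -- `j y = k (g y) ∈ P ⊓ E'`, nonzero
    have hjy : j y = k (g y) := (LinearMap.congr_fun hkg y).symm
    have hjyP : j y ∈ P := by rw [hjy]; exact hnP'
    have hjyE' : j y ∈ E' := by rw [← hjrange]; exact ⟨y, rfl⟩
    have hjy0 : j y ≠ 0 := by
      intro h0
      apply hn0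
      have : y = 0 := hjinj (h0.trans (map_zero j).symm)
      rw [this, map_zero]
    have hPE'ne : P ⊓ E' ≠ ⊥ := by
      rw [Submodule.ne_bot_iff]
      exact ⟨j y, ⟨hjyP, hjyE'⟩, hjy0⟩
    have := hess (P ⊓ E') (inf_isHomogeneous X.gr P E' hPh hE'h) inf_le_right hPE'ne
    intro h0
    apply this
    rw [eq_bot_iff, ← h0]
    exact inf_le_inf_right _ inf_le_left
  have hkE' : LinearMap.range k = E' := hmax _ hkh (hFE'.trans hE'k) hkess hE'k
  intro n
  have : k n ∈ LinearMap.range j := by rw [hjrange, ← hkE']; exact ⟨n, rfl⟩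
  obtain ⟨y, hy⟩ := this
  refine ⟨y, ?_⟩
  apply hkinj
  rw [← hy]
  exact LinearMap.congr_fun hkg y

end Mod

end Groth.Agent.H98.GrStar
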