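import Groth.Agent.H98.GrStar.Self

set_option autoImplicit false
universe u

/-!
# Finite products of graded modules; graded free covers
-/

noncomputable section

namespace Groth.Agent.H98.GrStar

open DirectSum

section PiGr

variable {ι : Type} [DecidableEq ι]
variable {J : Type} [Fintype J] {Mj : J → Type*} [∀ j, AddCommGroup (Mj j)]
  (ℳj : ∀ j, ι → AddSubgroup (Mj j)) [∀ j, DirectSum.Decomposition (ℳj j)]

/-- the product grading -/
def piGr (g : ι) : AddSubgroup (∀ j, Mj j) where
  carrier := {v | ∀ j, v j ∈ ℳj j g}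
  zero_mem' := fun j => zero_mem _
  add_mem' := fun ha hb j => add_mem (ha j) (hb j)
  neg_mem' := fun ha j => neg_mem (ha j)

omit [DecidableEq ι] [Fintype J] [∀ j, DirectSum.Decomposition (ℳj j)] in
theorem mem_piGr {g : ι} {v : ∀ j, Mj j} : v ∈ piGr ℳj g ↔ ∀ j, v j ∈ ℳj j g := Iff.rfl

/-- evaluation on pieces -/
def piEval (j : J) (g : ι) : piGr ℳj g →+ ℳj j g where
  toFun v := ⟨(v : ∀ j', Mj j') j, v.2 j⟩
  map_zero' := rfl
  map_add' _ _ := rfl

theorem piGr_isInternal : DirectSum.IsInternal (piGr ℳj) := by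
  classical
  constructor
  · rw [injective_iff_map_eq_zero]
    intro X hX
    have key : ∀ j, DirectSum.map (piEval ℳj j) X = 0 := by
      intro j
      have h1 := coe_map (piGr ℳj) (ℳj j) (Pi.evalAddMonoidHom Mj j) (piEval ℳj j)
        (fun _ _ => rfl) X
      rw [hX, map_zero] at h1
      have := (DirectSum.decomposeAddEquiv (ℳj j)).apply_symm_apply
        (DirectSum.map (piEval ℳj j) X)
      rw [← this]
      change DirectSum.decompose (ℳj j) (DirectSum.coeAddMonoidHom (ℳj j) _) = 0
      rw [h1, DirectSum.decompose_zero]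
    ext g j
    have h2 := DFunLike.congr_fun (key j) g
    rw [DirectSum.map_apply] at h2
    have h3 := congrArg Subtype.val h2
    exact h3
  · intro v
    let S : Finset ι := Finset.univ.biUnion (fun j => (DirectSum.decompose (ℳj j) (v j)).support)
    have hmem : ∀ g, (fun j => ((DirectSum.decompose (ℳj j) (v j) g : ℳj j g) : Mj j)) ∈
        piGr ℳj g := fun g j => SetLike.coe_mem _
    refine ⟨∑ g ∈ S, DirectSum.of (fun g => piGr ℳj g) g ⟨_, hmem g⟩, ?_⟩
    rw [map_sum]
    simp_rw [DirectSum.coeAddMonoidHom_of]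
    funext j
    rw [Finset.sum_apply]
    have hsub : (DirectSum.decompose (ℳj j) (v j)).support ⊆ S := by
      intro g hg
      exact Finset.mem_biUnion.mpr ⟨j, Finset.mem_univ j, hg⟩
    rw [← Finset.sum_subset hsub]
    · exact DirectSum.sum_support_decompose (ℳj j) (v j)
    · intro g _ hg
      rw [DFinsupp.notMem_support_iff] at hg
      change ((DirectSum.decompose (ℳj j) (v j) g : ℳj j g) : Mj j) = 0
      rw [hg]
      rfl

end PiGr

section FreeCover

variable {ι : Type} [AddCommGroup ι] [DecidableEq ι]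
variable {R : Type u} [CommRing R] {σ : Type u} [SetLike σ R] [AddSubgroupClass σ R]
  (𝒜 : ι → σ) [GradedRing 𝒜]

/-- decomposition of the shifted self-grading -/
@[instance_reducible]
def shiftSelfDec (g : ι) : DirectSum.Decomposition (shiftGr (selfGr 𝒜) g) :=
  (shiftGr_isInternal (selfGr 𝒜) g).chooseDecomposition

variable {J : Type} [Fintype J] (d : J → ι)

/-- the grading of the graded free module `⊕_j R(-d_j)` -/
def freeGr (g : ι) : AddSubgroup (J → R) := piGr (fun j => shiftGr (selfGr 𝒜) (d j)) g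

omit [DecidableEq ι] [GradedRing 𝒜] [Fintype J] in
theorem mem_freeGr {g : ι} {v : J → R} : v ∈ freeGr 𝒜 d g ↔ ∀ j, v j ∈ 𝒜 (g - d j) := Iff.rfl

theorem freeGr_isInternal : DirectSum.IsInternal (freeGr 𝒜 d) :=
  @piGr_isInternal ι _ J _ (fun _ => R) _ (fun j => shiftGr (selfGr 𝒜) (d j))
    (fun j => shiftSelfDec 𝒜 (d j))

/-- the graded free module `⊕_j R(-d_j)` -/
def freeGMod : GrLC.GMod.{u} 𝒜 where
  carrier := J → R
  gr := freeGr 𝒜 d
  dec := (freeGr_isInternal 𝒜 d).chooseDecomposition
  gsmul := ⟨by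
    intro e g r v hr hv j
    change r * v j ∈ 𝒜 (e + g - d j)
    rw [add_sub_assoc]
    exact SetLike.GradedMul.mul_mem (A := 𝒜) hr (hv j)⟩

variable {M : Type u} [AddCommGroup M] [Module R M] (ℳ : ι → AddSubgroup M)
  [DirectSum.Decomposition ℳ] [SetLike.GradedSMul 𝒜 ℳ]

omit [Fintype J] in
/-- a finitely generated graded module is a graded quotient of a finite graded free module -/
theorem exists_free_cover [Module.Finite R M] :
    ∃ (J : Type) (_ : Fintype J) (d : J → ι) (π : (J → R) →ₗ[R] M),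
      Function.Surjective π ∧ GrLC.IsGrHom (freeGr 𝒜 d) ℳ π := by
  classical
  obtain ⟨s, hs⟩ := (Module.Finite.fg_top : (⊤ : Submodule R M).FG)
  let T : Finset (ι × M) := s.biUnion (fun x =>
    (DirectSum.decompose ℳ x).support.image (fun i => (i, ((DirectSum.decompose ℳ x i : ℳ i) : M))))
  have hT : ∀ t ∈ T, t.2 ∈ ℳ t.1 := by
    intro t ht
    obtain ⟨x, _, hx⟩ := Finset.mem_biUnion.mp ht
    obtain ⟨i, _, rfl⟩ := Finset.mem_image.mp hx
    exact SetLike.coe_mem _
  refine ⟨Fin T.card, inferInstance, fun j => (T.equivFin.symm j).val.1,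
    Fintype.linearCombination R (fun j : Fin T.card => (T.equivFin.symm j).val.2), ?_, ?_⟩
  · rw [← LinearMap.range_eq_top, Fintype.range_linearCombination, eq_top_iff, ← hs,
      Submodule.span_le]
    intro x hx
    rw [SetLike.mem_coe, ← DirectSum.sum_support_decompose ℳ x]
    refine Submodule.sum_mem _ (fun i hi => Submodule.subset_span ?_)
    have hmem : (i, ((DirectSum.decompose ℳ x i : ℳ i) : M)) ∈ T :=
      Finset.mem_biUnion.mpr ⟨x, hx, Finset.mem_image.mpr ⟨i, hi, rfl⟩⟩
    refine ⟨T.equivFin ⟨_, hmem⟩, ?_⟩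
    change ((T.equivFin.symm (T.equivFin ⟨_, hmem⟩)).val).2 = _
    rw [Equiv.symm_apply_apply]
  · intro g v hv
    rw [Fintype.linearCombination_apply]
    refine sum_mem (fun j _ => ?_)
    have h1 := SetLike.GradedSMul.smul_mem (A := 𝒜) (B := ℳ) (hv j)
      (hT (T.equivFin.symm j).val (T.equivFin.symm j).2)
    rw [vadd_eq_add, sub_add_cancel] at h1
    exact h1

/-- bundled form of `exists_free_cover` -/
theorem exists_free_cover' [Module.Finite R M] :
    ∃ (F : GrLC.GMod.{u} 𝒜) (π : F.carrier →ₗ[R] M), Module.Free R F.carrier ∧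
      Module.Finite R F.carrier ∧ Function.Surjective π ∧ GrLC.IsGrHom F.gr ℳ π := by
  obtain ⟨J, _, d, π, hπs, hπg⟩ := exists_free_cover 𝒜 ℳ
  exact ⟨freeGMod 𝒜 d, π, (inferInstance : Module.Free R (J → R)),
    (inferInstance : Module.Finite R (J → R)), hπs, hπg⟩

end FreeCover

end Groth.Agent.H98.GrStar

end
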