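import Groth.Agent.H98.GrStar.Irrel
import Mathlib.RingTheory.Artinian.Module
import Mathlib.RingTheory.FiniteLength
import Groth.Prelude.Def_GrSyz

set_option autoImplicit false
set_option linter.unusedSectionVars false
universe u v

/-!
# Artinian graded submodules are bounded above; facts on the standard grading of polynomial rings
-/

namespace Groth.Agent.H98.GrStar

open DirectSum

section Bounded

variable {R : Type u} [CommRing R] {σ : Type u} [SetLike σ R] [AddSubgroupClass σ R]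
  (𝒜 : ℤ → σ) [GradedRing 𝒜] (hpos : ∀ n : ℤ, n < 0 → ∀ r ∈ 𝒜 n, r = 0)
variable {M : Type u} [AddCommGroup M] [Module R M] (ℳ : ℤ → AddSubgroup M)
  [DirectSum.Decomposition ℳ] [SetLike.GradedSMul 𝒜 ℳ]

/-- the submodule of elements with components only in degrees `≥ n` -/
def geSub (n : ℤ) : Submodule R M where
  carrier := {m | ∀ j : ℤ, j < n → (decompose ℳ m j : M) = 0}
  zero_mem' := by
    intro j _
    rw [DirectSum.decompose_zero]
    rfl
  add_mem' := by
    intro a b ha hb j hj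
    rw [DirectSum.decompose_add, DirectSum.add_apply, AddMemClass.coe_add, ha j hj, hb j hj,
      add_zero]
  smul_mem' := by
    intro c m hm j hj
    exact decompose_smul_eq_zero_of_forall 𝒜 ℳ c m j 0 n (by omega)
      (fun e he => decompose_eq_zero_of_neg 𝒜 hpos c he) hm

theorem geSub_anti {n n' : ℤ} (h : n ≤ n') : geSub 𝒜 hpos ℳ n' ≤ geSub 𝒜 hpos ℳ n :=
  fun _ hm j hj => hm j (by omega)

include hpos in
/-- an Artinian submodule of a graded module over a positively graded ring has no homogeneous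
elements of large degree -/
theorem bounded_of_isArtinian (K : Submodule R M) [IsArtinian R K] :
    ∃ n₀ : ℤ, ∀ n : ℤ, n₀ ≤ n → ∀ m ∈ K, m ∈ ℳ n → m = 0 := by
  let f : ℕ →o (Submodule R K)ᵒᵈ :=
    { toFun := fun k => OrderDual.toDual ((geSub 𝒜 hpos ℳ (k : ℤ)).comap K.subtype)
      monotone' := fun k k' hkk' => by
        change (geSub 𝒜 hpos ℳ (k' : ℤ)).comap K.subtype ≤ (geSub 𝒜 hpos ℳ (k : ℤ)).comap K.subtype
        exact Submodule.comap_mono (geSub_anti 𝒜 hpos ℳ (by exact_mod_cast hkk')) }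
  obtain ⟨n₁, hn₁⟩ := IsArtinian.monotone_stabilizes f
  refine ⟨(n₁ : ℤ), fun n hn m hmK hmn => ?_⟩
  have hn0 : (n.toNat : ℤ) = n := Int.toNat_of_nonneg (by omega)
  have h1 : f n.toNat = f (n.toNat + 1) := by
    rw [← hn₁ n.toNat (by omega), ← hn₁ (n.toNat + 1) (by omega)]
  have h2 : (⟨m, hmK⟩ : K) ∈ (geSub 𝒜 hpos ℳ ((n.toNat : ℕ) : ℤ)).comap K.subtype := by
    intro j hj
    rw [hn0] at hj
    exact DirectSum.decompose_of_mem_ne ℳ hmn (by omega)
  have h3 : (⟨m, hmK⟩ : K) ∈ (geSub 𝒜 hpos ℳ ((n.toNat + 1 : ℕ) : ℤ)).comap K.subtype := by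
    have : (geSub 𝒜 hpos ℳ ((n.toNat : ℕ) : ℤ)).comap K.subtype =
        (geSub 𝒜 hpos ℳ ((n.toNat + 1 : ℕ) : ℤ)).comap K.subtype := congrArg OrderDual.ofDual h1
    rw [← this]
    exact h2
  have h4 := h3 n (by push_cast; omega)
  rw [← DirectSum.decompose_of_mem_same ℳ hmn]
  exact h4

end Bounded

section Std

variable (k : Type u) [CommRing k] (σ : Type v)

/-- the standard grading is concentrated in nonnegative degrees -/
theorem stdGr_neg (n : ℤ) (hn : n < 0) (p : MvPolynomial σ k) (hp : p ∈ GrSyz.stdGr k σ n) :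
    p = 0 := by
  rw [GrSyz.mem_stdGr_iff] at hp
  ext d
  rw [MvPolynomial.coeff_zero]
  by_contra hne
  have h1 := hp hne
  have h2 : (0 : ℤ) ≤ Finsupp.weight (fun _ : σ => (1 : ℤ)) d := by
    rw [Finsupp.weight_apply]
    exact Finsupp.sum_nonneg (fun i _ => nsmul_nonneg (by norm_num) _)
  omega

end Std

section Irrel

variable {R : Type u} [CommRing R] {σ : Type u} [SetLike σ R] [AddSubgroupClass σ R]
  (𝒜 : ℤ → σ) [GradedRing 𝒜]

theorem irrel_toIdeal :
    (GrSyz.irrel 𝒜).toIdeal = Ideal.span (⋃ n ∈ Set.Ioi (0 : ℤ), (𝒜 n : Set R)) := by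
  change Ideal.span {r : R | ∃ n : ℤ, 0 < n ∧ r ∈ 𝒜 n} = _
  congr 1
  ext r
  constructor
  · rintro ⟨n, hn, hr⟩
    exact Set.mem_iUnion₂.2 ⟨n, hn, hr⟩
  · intro h
    obtain ⟨n, hn, hr⟩ := Set.mem_iUnion₂.1 h
    exact ⟨n, hn, hr⟩

end Irrel

end Groth.Agent.H98.GrStar
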