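import Groth.Agent.H98.GrStar.Basic

set_option autoImplicit false
universe u

/-!
# Converting a grading by a general `SetLike` family into a family of additive subgroups
-/

noncomputable section

namespace Groth.Agent.H98.GrStar

open DirectSum

variable {ι : Type} [AddCommGroup ι] [DecidableEq ι]
variable {R : Type u} [CommRing R] {σ : Type u} [SetLike σ R] [AddSubgroupClass σ R]
  (𝒜 : ι → σ) [GradedRing 𝒜]
variable {M : Type u} [AddCommGroup M] [Module R M] {τ : Type u} [SetLike τ M]
  [AddSubgroupClass τ M] (ℳ : ι → τ)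

/-- the grading as a family of additive subgroups -/
def asGr : ι → AddSubgroup M := fun g => AddSubgroup.ofClass (ℳ g)

omit [AddCommGroup ι] [DecidableEq ι] in
theorem mem_asGr {g : ι} {x : M} : x ∈ asGr ℳ g ↔ x ∈ ℳ g := Iff.rfl

instance asGrDecomposition [DirectSum.Decomposition ℳ] : DirectSum.Decomposition (asGr ℳ) where
  decompose' := fun x => (DirectSum.decompose ℳ x : DirectSum ι fun i => ℳ i)
  left_inv := DirectSum.Decomposition.left_inv (ℳ := ℳ)
  right_inv := DirectSum.Decomposition.right_inv (ℳ := ℳ)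

instance asGrGradedSMul [SetLike.GradedSMul 𝒜 ℳ] : SetLike.GradedSMul 𝒜 (asGr ℳ) where
  smul_mem := by
    intro i j a b ha hb
    exact SetLike.GradedSMul.smul_mem (A := 𝒜) (B := ℳ) ha hb

variable {𝒜 ℳ} [DirectSum.Decomposition ℳ] [SetLike.GradedSMul 𝒜 ℳ]

/-- the same *injective resolution, for the converted grading -/
def asRes (E : GrLC.StarInjRes 𝒜 ℳ) : GrLC.StarInjRes 𝒜 (asGr ℳ) where
  X := E.X
  d := E.d
  ε := E.ε
  d_grHom := E.d_grHom
  ε_grHom := E.ε_grHom
  ε_injective := E.ε_injective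
  exact_zero := E.exact_zero
  exact_succ := E.exact_succ
  starInj := E.starInj

theorem asRes_H (E : GrLC.StarInjRes 𝒜 ℳ) (a : HomogeneousIdeal 𝒜) (i : ℕ) :
    (asRes E).H a i = E.H a i := rfl

theorem asRes_Hcomp (E : GrLC.StarInjRes 𝒜 ℳ) (a : HomogeneousIdeal 𝒜) (i : ℕ) (g : ι) :
    (asRes E).Hcomp a i g = E.Hcomp a i g := rfl

end Groth.Agent.H98.GrStar

end
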