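import Groth.Agent.H98.GrStar.PieceClass2
import Groth.Agent.H17.Melkersson

set_option autoImplicit false
set_option linter.unusedSectionVars false
universe u

/-!
# Applications: pieces of graded local cohomology are Noetherian / Artinian over `R_0`
-/

namespace Groth.Agent.H98.GrStar

open DirectSum

section Deg0

variable {ι : Type} [AddCommGroup ι] [DecidableEq ι]
variable {R : Type u} [CommRing R]
  {σ : Type u} [SetLike σ R] [AddSubgroupClass σ R]
  (𝒜 : ι → σ) [GradedRing 𝒜]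

/-- degree-zero component of a product with a degree-zero element -/
theorem decompose_mul_zero_of_mem (r : R) {c : R} (hc : c ∈ 𝒜 0) :
    (decompose 𝒜 (r * c) 0 : R) = (decompose 𝒜 r 0 : R) * c := by
  have h := decompose_smul_of_mem 𝒜 (selfGr 𝒜) (x := c) (i := 0) hc r 0
  rw [add_zero] at h
  exact h

/-- for an ideal `I` of `R_0`, every element of `I R` has degree-zero component in `I` -/
theorem decompose_zero_mem_of_mem_map (I : Ideal (GrLC.deg0 𝒜)) (z : R)
    (hz : z ∈ Ideal.map (GrLC.deg0 𝒜).subtype I) :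
    ∃ y ∈ I, (y : R) = (decompose 𝒜 z 0 : R) := by
  have key : ∀ r : R, ∃ y ∈ I, (y : R) = (decompose 𝒜 (r * z) 0 : R) := by
    rw [Ideal.map] at hz
    induction hz using Submodule.span_induction with
    | mem z hz =>
      obtain ⟨c, hc, rfl⟩ := hz
      intro r
      refine ⟨⟨(decompose 𝒜 r 0 : R), SetLike.coe_mem (decompose 𝒜 r 0)⟩ * c,
        I.mul_mem_left _ hc, ?_⟩
      have h1 := decompose_mul_zero_of_mem 𝒜 r (c := (c : R)) c.2
      exact h1.symm
    | zero =>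
      intro r
      refine ⟨0, I.zero_mem, ?_⟩
      rw [mul_zero, DirectSum.decompose_zero]
      rfl
    | add z z' _ _ hz hz' =>
      intro r
      obtain ⟨y, hy, hyz⟩ := hz r
      obtain ⟨y', hy', hyz'⟩ := hz' r
      refine ⟨y + y', I.add_mem hy hy', ?_⟩
      have h1 : ((y + y' : GrLC.deg0 𝒜) : R) = (y : R) + (y' : R) := rfl
      rw [h1, hyz, hyz', mul_add, DirectSum.decompose_add, DirectSum.add_apply]
      rfl
    | smul r' z _ hz =>
      intro r
      obtain ⟨y, hy, hyz⟩ := hz (r * r')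
      refine ⟨y, hy, ?_⟩
      rw [hyz, smul_eq_mul, mul_assoc]
  obtain ⟨y, hy, hyz⟩ := key 1
  exact ⟨y, hy, by rw [hyz, one_mul]⟩

/-- the degree-zero subring of a Noetherian graded ring is Noetherian -/
theorem deg0_isNoetherianRing [IsNoetherianRing R] : IsNoetherianRing (GrLC.deg0 𝒜) := by
  have hinj : Function.Injective
      (fun I : Ideal (GrLC.deg0 𝒜) => Ideal.map (GrLC.deg0 𝒜).subtype I) := by
    intro I I' h
    have aux : ∀ I I' : Ideal (GrLC.deg0 𝒜),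
        Ideal.map (GrLC.deg0 𝒜).subtype I = Ideal.map (GrLC.deg0 𝒜).subtype I' → I ≤ I' := by
      intro I I' h y hy
      have h1 : (y : R) ∈ Ideal.map (GrLC.deg0 𝒜).subtype I' := by
        rw [← h]
        exact Ideal.mem_map_of_mem _ hy
      obtain ⟨y', hy', hyy'⟩ := decompose_zero_mem_of_mem_map 𝒜 I' y h1
      rw [DirectSum.decompose_of_mem_same 𝒜 y.2] at hyy'
      have : y = y' := Subtype.ext hyy'.symm
      rw [this]
      exact hy'
    exact le_antisymm (aux I I' h) (aux I' I h.symm)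
  have hmono : StrictMono
      (fun I : Ideal (GrLC.deg0 𝒜) => Ideal.map (GrLC.deg0 𝒜).subtype I) :=
    Monotone.strictMono_of_injective (fun I I' h => Ideal.map_mono h) hinj
  have : WellFoundedGT (Ideal R) := isNoetherian_iff'.mp inferInstance
  exact isNoetherian_iff'.mpr hmono.wellFoundedGT

end Deg0

section Gen

variable {ι : Type} [AddCommGroup ι] [DecidableEq ι]
variable {R : Type u} [CommRing R]
  {σ : Type u} [SetLike σ R] [AddSubgroupClass σ R]
  (𝒜 : ι → σ) [GradedRing 𝒜]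

/-- `r ↦ r • m₀` from `R_0` to the piece containing `m₀` -/
def compGenMap (X : GrLC.GMod.{u} 𝒜) {g : ι} {m₀ : X.carrier} (hm₀ : m₀ ∈ X.gr g) :
    (GrLC.deg0 𝒜) →ₗ[GrLC.deg0 𝒜] ↥(GrLC.comp 𝒜 X.gr g) where
  toFun r := ⟨(r : R) • m₀, by
    have h := SetLike.GradedSMul.smul_mem (A := 𝒜) (B := X.gr) (show (r : R) ∈ 𝒜 0 from r.2) hm₀
    rw [vadd_eq_add, zero_add] at h
    exact h⟩
  map_add' r r' := Subtype.ext (add_smul (r : R) (r' : R) m₀)
  map_smul' r r' := Subtype.ext (mul_smul (r : R) (r' : R) m₀)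

theorem compGenMap_surjective (X : GrLC.GMod.{u} 𝒜) {g : ι} {m₀ : X.carrier} (hm₀ : m₀ ∈ X.gr g)
    (hspan : Submodule.span R {m₀} = ⊤) : Function.Surjective (compGenMap 𝒜 X hm₀) := by
  rintro ⟨y, hy⟩
  have hmem : y ∈ Submodule.span R {m₀} := by rw [hspan]; trivial
  obtain ⟨r, hr, rfl⟩ := exists_homog_smul_eq 𝒜 X.gr hm₀ (show y ∈ X.gr g from hy) hmem
  rw [sub_self] at hr
  exact ⟨⟨r, hr⟩, Subtype.ext rfl⟩

end Gen

section Noeth

variable {R : Type u} [CommRing R] [IsNoetherianRing R]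
  {σ : Type u} [SetLike σ R] [AddSubgroupClass σ R]
  (𝒜 : ℤ → σ) [GradedRing 𝒜] (hpos : ∀ n : ℤ, n < 0 → ∀ r ∈ 𝒜 n, r = 0)

theorem serreClass_isNoetherian : SerreClass (GrLC.deg0 𝒜)
    (fun (H : Type u) [AddCommGroup H] [Module (GrLC.deg0 𝒜) H] =>
      IsNoetherian (GrLC.deg0 𝒜) H) where
  zero H _ _ hH := inferInstance
  of_exact f g hfg hH hL := by
    haveI := hH
    haveI := hL
    exact isNoetherian_of_range_eq_ker f g (LinearMap.exact_iff.mp hfg).symm

theorem baseHyp_isNoetherian (a : HomogeneousIdeal 𝒜) : BaseHyp 𝒜 a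
    (fun (H : Type u) [AddCommGroup H] [Module (GrLC.deg0 𝒜) H] =>
      IsNoetherian (GrLC.deg0 𝒜) H) := by
  intro X p g m₀ hp hm₀ hspan hann hap
  haveI := deg0_isNoetherianRing 𝒜
  exact isNoetherian_of_surjective (compGenMap 𝒜 X hm₀)
    (LinearMap.range_eq_top.mpr (compGenMap_surjective 𝒜 X hm₀ hspan))

theorem choiceHyp_irrel (a : HomogeneousIdeal 𝒜)
    (ha : a.toIdeal = Ideal.span (⋃ n ∈ Set.Ioi (0 : ℤ), (𝒜 n : Set R)))
    (𝒞 : ∀ (H : Type u) [AddCommGroup H] [Module (GrLC.deg0 𝒜) H], Prop) : ChoiceHyp 𝒜 a 𝒞 := by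
  refine Or.inl (fun p hp hap => ?_)
  by_contra hcon
  push Not at hcon
  apply hap
  rw [ha, Ideal.span_le]
  intro y hy
  simp only [Set.mem_iUnion, Set.mem_Ioi, SetLike.mem_coe, exists_prop] at hy
  obtain ⟨n, hn, hyn⟩ := hy
  exact hcon n hn y hyn (mem_irrel_of_mem_pos 𝒜 a.toIdeal ha hn hyn)

include hpos in
/-- pieces of `*H^i_{R_+}(X)` are finitely generated over `R_0` -/
theorem finite_Hcomp (a : HomogeneousIdeal 𝒜)
    (ha : a.toIdeal = Ideal.span (⋃ n ∈ Set.Ioi (0 : ℤ), (𝒜 n : Set R)))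
    (X : GrLC.GMod.{u} 𝒜) [Module.Finite R X.carrier] (E : GrLC.StarInjRes 𝒜 X.gr) (i : ℕ) (n : ℤ) :
    Module.Finite (GrLC.deg0 𝒜) ↥(E.Hcomp a i n) := by
  have hirr : ∀ n : ℤ, 0 < n → ∀ r ∈ 𝒜 n, r ∈ a.toIdeal := fun n hn r hr =>
    mem_irrel_of_mem_pos 𝒜 a.toIdeal ha hn hr
  have h : IsNoetherian (GrLC.deg0 𝒜) ↥(E.Hcomp a i n) :=
    inClass 𝒜 hpos a hirr _ (serreClass_isNoetherian 𝒜) (baseHyp_isNoetherian 𝒜 a)
      (choiceHyp_irrel 𝒜 a ha _) i X E n
  infer_instance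

end Noeth

end Groth.Agent.H98.GrStar
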