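import Groth.Prelude.Def_GrLC
import Mathlib.Order.ConditionallyCompleteLattice.Basic
import Mathlib.Algebra.Order.Monoid.WithTop

set_option autoImplicit false
universe u

/-!
# The end of a `ℤ`-graded object
-/

namespace Groth.Agent.H98.GrStar

variable {G : Type u} [AddCommGroup G]

theorem le_endDeg (𝒢 : ℤ → AddSubgroup G) (n : ℤ) (hn : 𝒢 n ≠ ⊥) :
    ((n : WithTop ℤ) : WithBot (WithTop ℤ)) ≤ GrLC.endDeg 𝒢 :=
  le_iSup₂ (f := fun (k : ℤ) (_ : 𝒢 k ≠ ⊥) => ((k : WithTop ℤ) : WithBot (WithTop ℤ))) n hn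

/-- a piece beyond the end vanishes -/
theorem eq_bot_of_endDeg_add_le (𝒢 : ℤ → AddSubgroup G) (c b n : ℤ)
    (h : GrLC.endDeg 𝒢 + ((c : WithTop ℤ) : WithBot (WithTop ℤ)) ≤
      ((b : WithTop ℤ) : WithBot (WithTop ℤ))) (hn : b < n + c) : 𝒢 n = ⊥ := by
  by_contra hne
  have h1 := le_endDeg 𝒢 n hne
  have h2 : ((n : WithTop ℤ) : WithBot (WithTop ℤ)) + ((c : WithTop ℤ) : WithBot (WithTop ℤ)) ≤
      ((b : WithTop ℤ) : WithBot (WithTop ℤ)) := (add_le_add h1 le_rfl).trans h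
  rw [← WithBot.coe_add, ← WithTop.coe_add, WithBot.coe_le_coe, WithTop.coe_le_coe] at h2
  omega

theorem endDeg_le_of_forall (𝒢 : ℤ → AddSubgroup G) (b : ℤ) (h : ∀ n : ℤ, b < n → 𝒢 n = ⊥) :
    GrLC.endDeg 𝒢 ≤ ((b : WithTop ℤ) : WithBot (WithTop ℤ)) := by
  refine iSup₂_le (fun n hn => ?_)
  rw [WithBot.coe_le_coe, WithTop.coe_le_coe]
  by_contra hlt
  exact hn (h n (by omega))

end Groth.Agent.H98.GrStar

namespace Groth.Agent.H98.GrStar

section HgrBot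

variable {ι : Type} [AddCommGroup ι] [DecidableEq ι]
variable {R : Type u} [CommRing R] {σ : Type u} [SetLike σ R] [AddSubgroupClass σ R]
  {𝒜 : ι → σ} [GradedRing 𝒜]
variable {M : Type u} [AddCommGroup M] [Module R M] {τ : Type u} [SetLike τ M]
  [AddSubgroupClass τ M] {ℳ : ι → τ} [DirectSum.Decomposition ℳ] [SetLike.GradedSMul 𝒜 ℳ]

theorem Hgr_eq_bot_iff (E : GrLC.StarInjRes 𝒜 ℳ) (a : HomogeneousIdeal 𝒜) (i : ℕ) (g : ι) :
    E.Hgr a i g = ⊥ ↔ E.Hcomp a i g = ⊥ := by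
  constructor
  · intro h
    rw [Submodule.eq_bot_iff]
    intro y hy
    have hy' : y ∈ E.Hgr a i g := hy
    rw [h] at hy'
    exact hy'
  · intro h
    rw [AddSubgroup.eq_bot_iff_forall]
    intro y hy
    have hy' : y ∈ E.Hcomp a i g := hy
    rw [h] at hy'
    exact hy'

end HgrBot

end Groth.Agent.H98.GrStar
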