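import Groth.Agent.H98.GrStar.Hull2

set_option autoImplicit false
universe u

/-!
# *injective resolutions
-/

noncomputable section

namespace Groth.Agent.H98.GrStar

open DirectSum

variable {ι : Type} [AddCommGroup ι] [DecidableEq ι]
variable {R : Type u} [CommRing R] {σ : Type u} [SetLike σ R] [AddSubgroupClass σ R]
  (𝒜 : ι → σ) [GradedRing 𝒜]

/-- one step of the resolution: a *injective embedding together with its cokernel -/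
structure Step (C : GrLC.GMod.{u} 𝒜) where
  X : GrLC.GMod.{u} 𝒜
  emb : C.carrier →ₗ[R] X.carrier
  emb_gr : GrLC.IsGrHom C.gr X.gr emb
  emb_inj : Function.Injective emb
  starInj : GrLC.IsStarInj 𝒜 X.gr
  Q : GrLC.GMod.{u} 𝒜
  π : X.carrier →ₗ[R] Q.carrier
  π_gr : GrLC.IsGrHom X.gr Q.gr π
  π_surj : Function.Surjective π
  π_ker : LinearMap.ker π = LinearMap.range emb

theorem nonempty_step (C : GrLC.GMod.{u} 𝒜) : Nonempty (Step 𝒜 C) := by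
  obtain ⟨X, emb, h1, h2, h3⟩ := exists_starInj_embedding 𝒜 C.gr
  obtain ⟨Q, π, h4, h5, h6⟩ := exists_quot 𝒜 X.gr (LinearMap.range emb)
    (range_isHomogeneous C.gr X.gr emb h1)
  exact ⟨⟨X, emb, h1, h2, h3, Q, π, h4, h5, h6⟩⟩

/-- a chosen step -/
def step (C : GrLC.GMod.{u} 𝒜) : Step 𝒜 C := (nonempty_step 𝒜 C).some

/-- the successive cokernels -/
def cokSeq (C : GrLC.GMod.{u} 𝒜) : ℕ → GrLC.GMod.{u} 𝒜
  | 0 => C
  | n + 1 => (step 𝒜 (cokSeq C n)).Q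

section Aux

variable {A B C D E : Type u} [AddCommGroup A] [Module R A] [AddCommGroup B] [Module R B]
  [AddCommGroup C] [Module R C] [AddCommGroup D] [Module R D] [AddCommGroup E] [Module R E]

theorem exact_zero_aux (emb : B →ₗ[R] C) (π : C →ₗ[R] D) (emb' : D →ₗ[R] E)
    (hker : LinearMap.ker π = LinearMap.range emb) (hinj : Function.Injective emb') :
    LinearMap.ker (emb' ∘ₗ π) = LinearMap.range emb := by
  rw [LinearMap.ker_comp_of_ker_eq_bot _ (LinearMap.ker_eq_bot.mpr hinj), hker]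

theorem exact_succ_aux (π₀ : A →ₗ[R] B) (hsurj : Function.Surjective π₀) (emb : B →ₗ[R] C)
    (π : C →ₗ[R] D) (hker : LinearMap.ker π = LinearMap.range emb) (emb' : D →ₗ[R] E)
    (hinj : Function.Injective emb') :
    LinearMap.ker (emb' ∘ₗ π) = LinearMap.range (emb ∘ₗ π₀) := by
  rw [LinearMap.ker_comp_of_ker_eq_bot _ (LinearMap.ker_eq_bot.mpr hinj), hker,
    LinearMap.range_comp_of_range_eq_top _ (LinearMap.range_eq_top.mpr hsurj)]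

end Aux

variable {M : Type u} [AddCommGroup M] [Module R M] (ℳ : ι → AddSubgroup M)
  [DirectSum.Decomposition ℳ] [SetLike.GradedSMul 𝒜 ℳ]

/-- the *injective resolution -/
def res : GrLC.StarInjRes 𝒜 ℳ where
  X n := (step 𝒜 (cokSeq 𝒜 (GrLC.GMod.of 𝒜 M ℳ) n)).X
  d n := (step 𝒜 (cokSeq 𝒜 (GrLC.GMod.of 𝒜 M ℳ) (n + 1))).emb ∘ₗ
    (step 𝒜 (cokSeq 𝒜 (GrLC.GMod.of 𝒜 M ℳ) n)).π
  ε := (step 𝒜 (cokSeq 𝒜 (GrLC.GMod.of 𝒜 M ℳ) 0)).emb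
  d_grHom n := fun i x hx =>
    (step 𝒜 (cokSeq 𝒜 (GrLC.GMod.of 𝒜 M ℳ) (n + 1))).emb_gr i _
      ((step 𝒜 (cokSeq 𝒜 (GrLC.GMod.of 𝒜 M ℳ) n)).π_gr i x hx)
  ε_grHom := (step 𝒜 (cokSeq 𝒜 (GrLC.GMod.of 𝒜 M ℳ) 0)).emb_gr
  ε_injective := (step 𝒜 (cokSeq 𝒜 (GrLC.GMod.of 𝒜 M ℳ) 0)).emb_inj
  exact_zero := exact_zero_aux _ _ _ (step 𝒜 (cokSeq 𝒜 (GrLC.GMod.of 𝒜 M ℳ) 0)).π_ker
    (step 𝒜 (cokSeq 𝒜 (GrLC.GMod.of 𝒜 M ℳ) (0 + 1))).emb_inj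
  exact_succ n := exact_succ_aux _ (step 𝒜 (cokSeq 𝒜 (GrLC.GMod.of 𝒜 M ℳ) n)).π_surj _ _
    (step 𝒜 (cokSeq 𝒜 (GrLC.GMod.of 𝒜 M ℳ) (n + 1))).π_ker _
    (step 𝒜 (cokSeq 𝒜 (GrLC.GMod.of 𝒜 M ℳ) (n + 1 + 1))).emb_inj
  starInj n := (step 𝒜 (cokSeq 𝒜 (GrLC.GMod.of 𝒜 M ℳ) n)).starInj

end Groth.Agent.H98.GrStar

end
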