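import Groth.Agent.H98.GrStar.GrLES3
import Groth.Agent.H98.GrStar.LCVanish
import Groth.Agent.H98.GrStar.Res

set_option autoImplicit false
set_option linter.unusedSectionVars false
universe u

/-!
# Graded local cohomology of `M / xM` for a homogeneous `x` whose annihilator in `M` is torsion
-/

namespace Groth.Agent.H98.GrStar

open DirectSum CategoryTheory

variable {ι : Type} [AddCommGroup ι] [DecidableEq ι]
variable {R : Type u} [CommRing R] [IsNoetherianRing R]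
  {σ : Type u} [SetLike σ R] [AddSubgroupClass σ R]
  {𝒜 : ι → σ} [GradedRing 𝒜]
variable {M : Type u} [AddCommGroup M] [Module R M] {ℳ : ι → AddSubgroup M}
  [DirectSum.Decomposition ℳ] [SetLike.GradedSMul 𝒜 ℳ]
variable {N : Type u} [AddCommGroup N] [Module R N] {𝒩 : ι → AddSubgroup N}
  [DirectSum.Decomposition 𝒩] [SetLike.GradedSMul 𝒜 𝒩]

omit [IsNoetherianRing R] in
/-- the `x`-torsion of a graded module is homogeneous, for homogeneous `x` -/
theorem torsionBy_isHomogeneous {x : R} {e : ι} (hx : x ∈ 𝒜 e) :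
    (Submodule.torsionBy R M x).IsHomogeneous ℳ := by
  intro i m hm
  rw [Submodule.mem_torsionBy_iff] at hm ⊢
  have h := decompose_smul_homog 𝒜 ℳ hx m i
  rw [hm, DirectSum.decompose_zero] at h
  exact h.symm

section Main

variable (a : HomogeneousIdeal 𝒜) (x : R) {e : ι} (hx : x ∈ 𝒜 e)
  (hK : ∀ m ∈ Submodule.torsionBy R M x, m ∈ GrLC.gam a.toIdeal M)
  (π : M →ₗ[R] N) (hπ : Function.Surjective π) (hπg : GrLC.IsGrHom ℳ 𝒩 π)
  (hker : LinearMap.ker π = LinearMap.range (x • (LinearMap.id : M →ₗ[R] M)))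

/-- the graded module `(0 :_M x)` -/
noncomputable abbrev Kg (hx : x ∈ 𝒜 e) : GrLC.GMod.{u} 𝒜 :=
  subGMod 𝒜 ℳ (Submodule.torsionBy R M x).subtype (Submodule.injective_subtype _) (by
    rw [Submodule.range_subtype]
    exact torsionBy_isHomogeneous hx)

/-- the graded module `M / (0 :_M x)` -/
noncomputable abbrev Mbar (hx : x ∈ 𝒜 e) : GrLC.GMod.{u} 𝒜 :=
  quotGMod 𝒜 ℳ (Submodule.torsionBy R M x).mkQ (Submodule.mkQ_surjective _) (by
    rw [Submodule.ker_mkQ]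
    exact torsionBy_isHomogeneous hx)

/-- `0 → (0 :_M x) → M → M / (0 :_M x) → 0` -/
noncomputable def sesA (hx : x ∈ 𝒜 e) :
    GrSES (R := R) (Kg (ℳ := ℳ) x hx).gr ℳ (Mbar (ℳ := ℳ) x hx).gr where
  u := (Submodule.torsionBy R M x).subtype
  v := (Submodule.torsionBy R M x).mkQ
  u_gr := subGMod_isGrHom 𝒜 ℳ _ _ _
  v_gr := quotGMod_isGrHom 𝒜 ℳ _ _ _
  inj := Submodule.injective_subtype _
  surj := Submodule.mkQ_surjective _
  exact := LinearMap.exact_subtype_mkQ _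

/-- multiplication by `x` as an injective map `M / (0 :_M x) → M` -/
noncomputable def xbar : (M ⧸ Submodule.torsionBy R M x) →ₗ[R] M :=
  (Submodule.torsionBy R M x).liftQ (x • (LinearMap.id : M →ₗ[R] M)) (fun m hm => by
    rw [LinearMap.mem_ker]
    exact (Submodule.mem_torsionBy_iff _ _).1 hm)

omit [IsNoetherianRing R] [AddCommGroup ι] [DecidableEq ι] in
theorem xbar_mkQ (m : M) : xbar (M := M) x ((Submodule.torsionBy R M x).mkQ m) = x • m := rfl

omit [IsNoetherianRing R] [AddCommGroup ι] [DecidableEq ι] in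
theorem xbar_injective : Function.Injective (xbar (M := M) x) := by
  rw [← LinearMap.ker_eq_bot]
  apply Submodule.ker_liftQ_eq_bot
  intro m hm
  exact (Submodule.mem_torsionBy_iff _ _).2 hm

/-- `0 → (M / (0 :_M x))(-e) --x--> M → N → 0` -/
noncomputable def sesB (hx : x ∈ 𝒜 e) (π : M →ₗ[R] N) (hπ : Function.Surjective π)
    (hπg : GrLC.IsGrHom ℳ 𝒩 π)
    (hker : LinearMap.ker π = LinearMap.range (x • (LinearMap.id : M →ₗ[R] M))) :
    GrSES (R := R) (shM 𝒜 (Mbar (ℳ := ℳ) x hx).gr e).gr ℳ 𝒩 where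
  u := xbar x
  v := π
  u_gr := fun k q hq => by
    obtain ⟨m, hm, rfl⟩ := hq
    exact smul_mem_of_mem_shift (M := M) (ℳ := ℳ) hx k m hm
  v_gr := hπg
  inj := xbar_injective x
  surj := hπ
  exact := fun y => by
    rw [← LinearMap.mem_ker, hker]
    constructor
    · rintro ⟨m, rfl⟩
      exact ⟨(Submodule.torsionBy R M x).mkQ m, rfl⟩
    · rintro ⟨q, rfl⟩
      obtain ⟨m, rfl⟩ := Submodule.mkQ_surjective _ q
      exact ⟨m, rfl⟩

include hK in
theorem gam_Kg_eq_top (hx : x ∈ 𝒜 e) :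
    GrLC.gam a.toIdeal (Kg (ℳ := ℳ) x hx).carrier = ⊤ := by
  rw [eq_top_iff]
  intro y _
  obtain ⟨k, hk⟩ := hK y.1 y.2
  exact ⟨k, fun r hr => Subtype.ext (hk r hr)⟩

include hK in
/-- vanishing passes from `M` to `M / (0 :_M x)` -/
theorem Hgr_Mbar_eq_bot (hx : x ∈ 𝒜 e) (E : GrLC.StarInjRes 𝒜 ℳ)
    (Eb : GrLC.StarInjRes 𝒜 (Mbar (ℳ := ℳ) x hx).gr) (i : ℕ) (n : ι) (h1 : E.Hgr a i n = ⊥) :
    Eb.Hgr a i n = ⊥ := by
  rw [eq_bot_iff]
  intro y hy
  let EK := res 𝒜 (Kg (ℳ := ℳ) x hx).gr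
  have hsub : Subsingleton (EK.H a (i + 1)) :=
    H_subsingleton_of_gam_eq_top EK a (gam_Kg_eq_top a x hK hx) (i + 1) (by omega)
  have h0 : (sesA x hx).Hδ a EK Eb i y = 0 := Subsingleton.elim _ _
  obtain ⟨w, hw, hwy⟩ := (sesA x hx).exact_right_deg a EK E Eb i n y hy h0
  rw [h1] at hw
  have hw0 : w = 0 := hw
  rw [← hwy, hw0, map_zero]
  exact zero_mem _

include hK hx hπ hπg hker in
/-- **graded local cohomology of `M/xM`** from that of `M` -/
theorem Hgr_quot_eq_bot (E : GrLC.StarInjRes 𝒜 ℳ) (F : GrLC.StarInjRes 𝒜 𝒩) (i : ℕ) (n : ι)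
    (h1 : E.Hgr a i n = ⊥) (h2 : E.Hgr a (i + 1) (n - e) = ⊥) : F.Hgr a i n = ⊥ := by
  rw [eq_bot_iff]
  intro y hy
  let Eb := res 𝒜 (Mbar (ℳ := ℳ) x hx).gr
  have h3 : Eb.Hgr a (i + 1) (n - e) = ⊥ := Hgr_Mbar_eq_bot a x hK hx E Eb (i + 1) (n - e) h2
  have h4 : (sesB x hx π hπ hπg hker).Hδ a (shiftDeg Eb e) F i y ∈
      (shiftDeg Eb e).Hgr a (i + 1) n :=
    (sesB x hx π hπ hπg hker).Hδ_isGrHom a (shiftDeg Eb e) F i n y hy
  rw [shiftDeg_Hgr, h3] at h4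
  have h0 : (sesB x hx π hπ hπg hker).Hδ a (shiftDeg Eb e) F i y = 0 := h4
  obtain ⟨w, hw, hwy⟩ := (sesB x hx π hπ hπg hker).exact_right_deg a (shiftDeg Eb e) E F i n y hy h0
  rw [h1] at hw
  have hw0 : w = 0 := hw
  rw [← hwy, hw0, map_zero]
  exact zero_mem _

end Main

end Groth.Agent.H98.GrStar
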