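import Groth.Agent.H98.GrStar.Shift
import Groth.Agent.H98.GrStar.Ess

set_option autoImplicit false
universe u

/-!
# `R` as a graded module over itself, and the graded module `R ⧸ p`
-/

noncomputable section

namespace Groth.Agent.H98.GrStar

open DirectSum

variable {ι : Type} [AddCommGroup ι] [DecidableEq ι]
variable {R : Type u} [CommRing R] {σ : Type u} [SetLike σ R] [AddSubgroupClass σ R]
  (𝒜 : ι → σ) [GradedRing 𝒜]

/-- the grading of `R` as a family of additive subgroups -/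
def selfGr : ι → AddSubgroup R := fun g => AddSubgroup.ofClass (𝒜 g)

omit [AddCommGroup ι] [DecidableEq ι] [GradedRing 𝒜] in
theorem mem_selfGr {g : ι} {x : R} : x ∈ selfGr 𝒜 g ↔ x ∈ 𝒜 g := Iff.rfl

instance selfGrDecomposition : DirectSum.Decomposition (selfGr 𝒜) where
  decompose' := fun x => (DirectSum.decompose 𝒜 x : DirectSum ι fun i => 𝒜 i)
  left_inv := DirectSum.Decomposition.left_inv (ℳ := 𝒜)
  right_inv := DirectSum.Decomposition.right_inv (ℳ := 𝒜)

theorem decompose_selfGr (x : R) (g : ι) :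
    ((DirectSum.decompose (selfGr 𝒜) x g : selfGr 𝒜 g) : R) = (DirectSum.decompose 𝒜 x g : R) := rfl

instance selfGrGradedSMul : SetLike.GradedSMul 𝒜 (selfGr 𝒜) where
  smul_mem := by
    intro i j a b ha hb
    exact SetLike.GradedMul.mul_mem (A := 𝒜) ha hb

theorem isHomogeneous_selfGr (I : Ideal R) (hI : I.IsHomogeneous 𝒜) :
    Submodule.IsHomogeneous I (selfGr 𝒜) := by
  intro g x hx
  rw [decompose_selfGr]
  exact hI g hx

/-- the quotient map `R → R ⧸ p` as a linear map -/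
def quotMap (p : HomogeneousIdeal 𝒜) : R →ₗ[R] (R ⧸ p.toIdeal) := Submodule.mkQ p.toIdeal

theorem quotMap_apply (p : HomogeneousIdeal 𝒜) (x : R) :
    quotMap 𝒜 p x = Ideal.Quotient.mk p.toIdeal x := rfl

theorem quotGr_eq (p : HomogeneousIdeal 𝒜) :
    GrLC.quotGr 𝒜 p = imGr (selfGr 𝒜) (quotMap 𝒜 p) := rfl

theorem quotMap_ker (p : HomogeneousIdeal 𝒜) : LinearMap.ker (quotMap 𝒜 p) = p.toIdeal :=
  Submodule.ker_mkQ _

theorem quotMap_surjective (p : HomogeneousIdeal 𝒜) : Function.Surjective (quotMap 𝒜 p) :=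
  Submodule.mkQ_surjective _

theorem quotMap_ker_isHomogeneous (p : HomogeneousIdeal 𝒜) :
    (LinearMap.ker (quotMap 𝒜 p)).IsHomogeneous (selfGr 𝒜) := by
  rw [quotMap_ker]
  exact isHomogeneous_selfGr 𝒜 p.toIdeal p.isHomogeneous

/-- `R ⧸ p` as a bundled graded module, with pieces `GrLC.quotGr 𝒜 p` -/
def quotIdealGMod (p : HomogeneousIdeal 𝒜) : GrLC.GMod.{u} 𝒜 :=
  quotGMod 𝒜 (selfGr 𝒜) (quotMap 𝒜 p) (quotMap_surjective 𝒜 p) (quotMap_ker_isHomogeneous 𝒜 p)

theorem quotIdealGMod_gr (p : HomogeneousIdeal 𝒜) : (quotIdealGMod 𝒜 p).gr = GrLC.quotGr 𝒜 p := rfl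

theorem mem_quotGr (p : HomogeneousIdeal 𝒜) (g : ι) (y : R ⧸ p.toIdeal) :
    y ∈ GrLC.quotGr 𝒜 p g ↔ ∃ s ∈ 𝒜 g, Ideal.Quotient.mk p.toIdeal s = y := Iff.rfl

end Groth.Agent.H98.GrStar

end
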