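import Groth.Agent.H98.GrStar.Irrel

set_option autoImplicit false
universe u

/-!
# Graded Nakayama for finitely generated graded modules over positively `ℤ`-graded rings
-/

namespace Groth.Agent.H98.GrStar

open DirectSum

variable {R : Type u} [CommRing R] {σ : Type u} [SetLike σ R] [AddSubgroupClass σ R]
  (𝒜 : ℤ → σ) [GradedRing 𝒜] (hpos : ∀ n : ℤ, n < 0 → ∀ r ∈ 𝒜 n, r = 0)
variable {M : Type u} [AddCommGroup M] [Module R M] (ℳ : ℤ → AddSubgroup M)
  [DirectSum.Decomposition ℳ] [SetLike.GradedSMul 𝒜 ℳ]

include hpos in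
/-- a finitely generated graded module over a positively graded ring vanishes in low degrees -/
theorem exists_lower_bound [Module.Finite R M] :
    ∃ e₀ : ℤ, ∀ n : ℤ, n < e₀ → ∀ x ∈ ℳ n, x = 0 := by
  classical
  obtain ⟨T, hT, hspan⟩ := exists_homogeneous_generators (R := R) ℳ
  obtain ⟨e₀, he₀⟩ := (T.image Prod.fst).bddBelow
  refine ⟨e₀, fun n hn x hx => ?_⟩
  have key : ∀ y ∈ Submodule.span R ((fun t : ℤ × M => t.2) '' (T : Set (ℤ × M))),
      ∀ n : ℤ, n < e₀ → (decompose ℳ y n : M) = 0 := by
    intro y hy
    induction hy using Submodule.span_induction with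
    | mem y hy =>
      obtain ⟨t, ht, rfl⟩ := hy
      intro n hn
      have h1 : e₀ ≤ t.1 := he₀ (Finset.mem_coe.2 (Finset.mem_image_of_mem _ ht))
      exact DirectSum.decompose_of_mem_ne ℳ (hT t ht) (by omega)
    | zero =>
      intro n _
      rw [DirectSum.decompose_zero]
      rfl
    | add y z _ _ hy hz =>
      intro n hn
      rw [DirectSum.decompose_add, DirectSum.add_apply, AddMemClass.coe_add, hy n hn, hz n hn,
        add_zero]
    | smul c y _ hy =>
      intro n hn
      exact decompose_smul_eq_zero_of_forall 𝒜 ℳ c y n 0 e₀ (by omega)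
        (fun e he => decompose_eq_zero_of_neg 𝒜 hpos c he) hy
  have h2 := key x (by rw [hspan]; trivial) n hn
  rwa [DirectSum.decompose_of_mem_same ℳ hx] at h2

variable (a : Ideal R) (ha : a = Ideal.span (⋃ n ∈ Set.Ioi (0 : ℤ), (𝒜 n : Set R)))

include hpos ha in
/-- **Graded Nakayama**: a homogeneous submodule `K` with `K + R_+ M = M` is all of `M` -/
theorem eq_top_of_sup_smul_eq_top [Module.Finite R M] (K : Submodule R M)
    (hK : K.IsHomogeneous ℳ) (h : K ⊔ a • (⊤ : Submodule R M) = ⊤) : K = ⊤ := by
  classical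
  obtain ⟨e₀, he₀⟩ := exists_lower_bound 𝒜 hpos ℳ
  have claim : ∀ j : ℕ, ∀ n : ℤ, n < e₀ + j → ∀ x ∈ ℳ n, x ∈ K := by
    intro j
    induction j with
    | zero =>
      intro n hn x hx
      rw [Nat.cast_zero, add_zero] at hn
      rw [he₀ n hn x hx]
      exact Submodule.zero_mem _
    | succ j ih =>
      intro n hn x hx
      have hx' : x ∈ K ⊔ a • (⊤ : Submodule R M) := by rw [h]; trivial
      obtain ⟨k, hk, w, hw, rfl⟩ := Submodule.mem_sup.1 hx'
      have hwn : ∀ w ∈ a • (⊤ : Submodule R M), (decompose ℳ w n : M) ∈ K := by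
        intro w hw
        refine Submodule.smul_induction_on hw ?_ ?_
        · intro r hr m _
          rw [decompose_smul_eq_sum 𝒜 ℳ r m n]
          refine Submodule.sum_mem _ (fun e _ => ?_)
          by_cases he : e < 1
          · rw [irrel_le_geIdeal_one 𝒜 hpos a ha hr e he, zero_smul]
            exact Submodule.zero_mem _
          · apply Submodule.smul_mem
            apply ih (n - e) _ _ (SetLike.coe_mem _)
            push_cast at hn
            omega
        · intro y z hy hz
          rw [DirectSum.decompose_add, DirectSum.add_apply, AddMemClass.coe_add]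
          exact Submodule.add_mem _ hy hz
      have h3 : (decompose ℳ (k + w) n : M) = k + w := DirectSum.decompose_of_mem_same ℳ hx
      rw [← h3, DirectSum.decompose_add, DirectSum.add_apply, AddMemClass.coe_add]
      exact Submodule.add_mem _ (hK n hk) (hwn w hw)
  rw [eq_top_iff]
  intro x _
  rw [← DirectSum.sum_support_decompose ℳ x]
  refine Submodule.sum_mem _ (fun n _ => ?_)
  apply claim (n - e₀ + 1).toNat n _ _ (SetLike.coe_mem _)
  have := Int.self_le_toNat (n - e₀ + 1)
  omega

end Groth.Agent.H98.GrStar
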