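import Groth.Agent.H98.GrStar.Hull2

set_option autoImplicit false
universe u

/-!
# Graded local cohomology computed from a *injective resolution is graded
-/

namespace Groth.Agent.H98.GrStar

open DirectSum

variable {ι : Type} [AddCommGroup ι] [DecidableEq ι]
variable {R : Type u} [CommRing R] {σ : Type u} [SetLike σ R] [AddSubgroupClass σ R]
  (𝒜 : ι → σ) [GradedRing 𝒜]
variable {M : Type u} [AddCommGroup M] [Module R M] (ℳ : ι → AddSubgroup M)
  [DirectSum.Decomposition ℳ] [SetLike.GradedSMul 𝒜 ℳ]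

theorem pow_isHomogeneous (a : Ideal R) (ha : a.IsHomogeneous 𝒜) (n : ℕ) :
    (a ^ n).IsHomogeneous 𝒜 := by
  induction n with
  | zero =>
    rw [pow_zero, Ideal.one_eq_top]
    exact Ideal.IsHomogeneous.top 𝒜
  | succ n ih =>
    rw [pow_succ]
    exact ih.mul ha

/-- the `a`-torsion submodule of a graded module is homogeneous, for a homogeneous ideal `a` -/
theorem gam_isHomogeneous (a : HomogeneousIdeal 𝒜) :
    (GrLC.gam a.toIdeal M).IsHomogeneous ℳ := by
  classical
  rintro j x ⟨n, hn⟩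
  refine ⟨n, fun r hr => ?_⟩
  have hpow := pow_isHomogeneous 𝒜 a.toIdeal a.isHomogeneous n
  rw [← DirectSum.sum_support_decompose 𝒜 r, Finset.sum_smul]
  apply Finset.sum_eq_zero
  intro d _
  have h1 : ((DirectSum.decompose 𝒜 r d : 𝒜 d) : R) ∈ a.toIdeal ^ n := hpow d hr
  have h2 := decompose_smul_homog 𝒜 ℳ (SetLike.coe_mem (DirectSum.decompose 𝒜 r d)) x j
  rw [hn _ h1] at h2
  rw [← h2]
  simp

variable (E : GrLC.StarInjRes 𝒜 ℳ) (a : HomogeneousIdeal 𝒜)

theorem cocyc_isHomogeneous (i : ℕ) : (E.cocyc a i).IsHomogeneous (E.X i).gr :=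
  inf_isHomogeneous (E.X i).gr _ _ (gam_isHomogeneous 𝒜 (E.X i).gr a)
    (ker_isHomogeneous (E.X i).gr (E.X (i + 1)).gr (E.d i) (E.d_grHom i))

theorem cobdy_isHomogeneous (i : ℕ) : (E.cobdy a i).IsHomogeneous (E.X i).gr := by
  cases i with
  | zero => exact bot_isHomogeneous (E.X 0).gr
  | succ n =>
    exact map_isHomogeneous (E.X n).gr (E.X (n + 1)).gr (E.d n) (E.d_grHom n) _
      (gam_isHomogeneous 𝒜 (E.X n).gr a)

/-- S13225 -/
theorem Hgr_isInternal (i : ℕ) : DirectSum.IsInternal (E.Hgr a i) := by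
  have hrange : (LinearMap.range (E.cocyc a i).subtype).IsHomogeneous (E.X i).gr := by
    rw [Submodule.range_subtype]
    exact cocyc_isHomogeneous 𝒜 ℳ E a i
  have hint := preGr_isInternal (E.X i).gr (E.cocyc a i).subtype
    (Submodule.injective_subtype _) hrange
  letI : DirectSum.Decomposition (preGr (E.X i).gr (E.cocyc a i).subtype) :=
    hint.chooseDecomposition
  have hgr : GrLC.IsGrHom (preGr (E.X i).gr (E.cocyc a i).subtype) (E.X i).gr
      (E.cocyc a i).subtype := fun _ _ h => h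
  have hB : ((E.cobdy a i).comap (E.cocyc a i).subtype).IsHomogeneous
      (preGr (E.X i).gr (E.cocyc a i).subtype) :=
    comap_isHomogeneous _ (E.X i).gr (E.cocyc a i).subtype hgr _ (cobdy_isHomogeneous 𝒜 ℳ E a i)
  have hker : (LinearMap.ker (E.toH a i)).IsHomogeneous
      (preGr (E.X i).gr (E.cocyc a i).subtype) := by
    rw [Submodule.ker_mkQ]
    exact hB
  have := imGr_isInternal (preGr (E.X i).gr (E.cocyc a i).subtype) (E.toH a i)
    (Submodule.mkQ_surjective _) hker
  have heq : E.Hgr a i = imGr (preGr (E.X i).gr (E.cocyc a i).subtype) (E.toH a i) := by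
    funext g
    ext x
    constructor
    · rintro ⟨z, hz, rfl⟩
      exact ⟨z, hz, rfl⟩
    · rintro ⟨z, hz, rfl⟩
      exact ⟨z, hz, rfl⟩
  rw [heq]
  exact this

end Groth.Agent.H98.GrStar
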