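import Groth.Agent.H98.GrStar.HomComp
import Groth.Agent.H98.GrStar.LocCohGr

set_option autoImplicit false
universe u

/-!
# Positively `ℤ`-graded rings: the irrelevant ideal, degree filtration, graded Nakayama
-/

namespace Groth.Agent.H98.GrStar

open DirectSum

section General

variable {R : Type u} [CommRing R] {σ : Type u} [SetLike σ R] [AddSubgroupClass σ R]
  (𝒜 : ℤ → σ) [GradedRing 𝒜]
variable {M : Type u} [AddCommGroup M] [Module R M] (ℳ : ℤ → AddSubgroup M)
  [DirectSum.Decomposition ℳ] [SetLike.GradedSMul 𝒜 ℳ]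

open Classical in
/-- components of a scalar multiple -/
theorem decompose_smul_eq_sum (c : R) (x : M) (d : ℤ) :
    (decompose ℳ (c • x) d : M) =
      ∑ e ∈ (decompose 𝒜 c).support, (decompose 𝒜 c e : R) • (decompose ℳ x (d - e) : M) := by
  conv_lhs => rw [← DirectSum.sum_support_decompose 𝒜 c, Finset.sum_smul]
  rw [DirectSum.decompose_sum, DFinsupp.finsetSum_apply, AddSubmonoidClass.coe_finsetSum]
  refine Finset.sum_congr rfl (fun e _ => ?_)
  have := decompose_smul_homog 𝒜 ℳ (SetLike.coe_mem (decompose 𝒜 c e)) x (d - e)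
  rwa [add_sub_cancel] at this

/-- components of a multiple of a homogeneous element -/
theorem decompose_smul_of_right_mem (c : R) {x : M} {d₀ : ℤ} (hx : x ∈ ℳ d₀) (e : ℤ) :
    (decompose ℳ (c • x) (e + d₀) : M) = (decompose 𝒜 c e : R) • x := by
  classical
  rw [decompose_smul_eq_sum 𝒜 ℳ c x (e + d₀)]
  rw [Finset.sum_eq_single e]
  · rw [add_sub_cancel_left, DirectSum.decompose_of_mem_same ℳ hx]
  · intro e' _ hne
    have h1 : d₀ ≠ e + d₀ - e' := by
      intro h
      apply hne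
      omega
    rw [DirectSum.decompose_of_mem_ne ℳ hx h1, smul_zero]
  · intro he
    rw [DFinsupp.notMem_support_iff] at he
    rw [he]
    simp

end General

section Positive

variable {R : Type u} [CommRing R] {σ : Type u} [SetLike σ R] [AddSubgroupClass σ R]
  (𝒜 : ℤ → σ) [GradedRing 𝒜] (hpos : ∀ n : ℤ, n < 0 → ∀ r ∈ 𝒜 n, r = 0)
variable {M : Type u} [AddCommGroup M] [Module R M] (ℳ : ℤ → AddSubgroup M)
  [DirectSum.Decomposition ℳ] [SetLike.GradedSMul 𝒜 ℳ]

include hpos in
theorem decompose_eq_zero_of_neg (c : R) {n : ℤ} (hn : n < 0) : (decompose 𝒜 c n : R) = 0 :=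
  hpos n hn _ (SetLike.coe_mem _)

omit hpos in
/-- a component of `c • x` vanishes when the components of `c`, `x` start high enough -/
theorem decompose_smul_eq_zero_of_forall (c : R) (x : M) (d k l : ℤ) (hkl : d < k + l)
    (hc : ∀ e, e < k → (decompose 𝒜 c e : R) = 0)
    (hx : ∀ j, j < l → (decompose ℳ x j : M) = 0) :
    (decompose ℳ (c • x) d : M) = 0 := by
  classical
  rw [decompose_smul_eq_sum 𝒜 ℳ c x d]
  refine Finset.sum_eq_zero (fun e _ => ?_)
  by_cases he : e < k
  · rw [hc e he, zero_smul]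
  · rw [hx (d - e) (by omega), smul_zero]

/-- the ideal of elements with no components in degrees `< k` -/
def geIdeal (k : ℤ) : Ideal R where
  carrier := {r | ∀ d : ℤ, d < k → (decompose 𝒜 r d : R) = 0}
  zero_mem' := by
    intro d _
    rw [DirectSum.decompose_zero]
    rfl
  add_mem' := by
    intro a b ha hb d hd
    rw [DirectSum.decompose_add, DirectSum.add_apply, AddMemClass.coe_add, ha d hd, hb d hd,
      add_zero]
  smul_mem' := by
    intro c r hr d hd
    have := decompose_smul_eq_zero_of_forall 𝒜 (selfGr 𝒜) c r d 0 k (by omega)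
      (fun e he => decompose_eq_zero_of_neg 𝒜 hpos c he) (fun j hj => hr j hj)
    exact this

theorem mem_geIdeal {k : ℤ} {r : R} :
    r ∈ geIdeal 𝒜 hpos k ↔ ∀ d : ℤ, d < k → (decompose 𝒜 r d : R) = 0 := Iff.rfl

theorem geIdeal_mul_le (k l : ℤ) :
    geIdeal 𝒜 hpos k * geIdeal 𝒜 hpos l ≤ geIdeal 𝒜 hpos (k + l) := by
  rw [Ideal.mul_le]
  intro a ha b hb d hd
  exact decompose_smul_eq_zero_of_forall 𝒜 (selfGr 𝒜) a b d k l hd ha hb

theorem geIdeal_zero : geIdeal 𝒜 hpos 0 = ⊤ := by
  rw [eq_top_iff]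
  intro r _ d hd
  exact decompose_eq_zero_of_neg 𝒜 hpos r hd

variable (a : Ideal R) (ha : a = Ideal.span (⋃ n ∈ Set.Ioi (0 : ℤ), (𝒜 n : Set R)))

include ha in
theorem irrel_le_geIdeal_one : a ≤ geIdeal 𝒜 hpos 1 := by
  rw [ha, Ideal.span_le]
  intro y hy
  simp only [Set.mem_iUnion, Set.mem_Ioi, SetLike.mem_coe, exists_prop] at hy
  obtain ⟨n, hn, hyn⟩ := hy
  intro d hd
  exact DirectSum.decompose_of_mem_ne 𝒜 hyn (by omega)

include ha in
theorem pow_le_geIdeal (k : ℕ) : a ^ k ≤ geIdeal 𝒜 hpos (k : ℤ) := by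
  induction k with
  | zero =>
    rw [pow_zero, Ideal.one_eq_top, Nat.cast_zero, geIdeal_zero]
  | succ k ih =>
    rw [pow_succ, Nat.cast_succ]
    exact (Ideal.mul_mono ih (irrel_le_geIdeal_one 𝒜 hpos a ha)).trans (geIdeal_mul_le 𝒜 hpos _ _)

include ha in
omit [AddSubgroupClass σ R] [GradedRing 𝒜] in
theorem mem_irrel_of_mem_pos {n : ℤ} (hn : 0 < n) {r : R} (hr : r ∈ 𝒜 n) : r ∈ a := by
  rw [ha]
  apply Ideal.subset_span
  simp only [Set.mem_iUnion, Set.mem_Ioi, SetLike.mem_coe, exists_prop]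
  exact ⟨n, hn, hr⟩

include ha hpos in
/-- if `M` vanishes in degrees `≥ n₀` then powers of the irrelevant ideal kill homogeneous elements -/
theorem smul_eq_zero_of_mem_pow (n₀ : ℤ) (hM : ∀ n : ℤ, n₀ ≤ n → ∀ x ∈ ℳ n, x = 0)
    {e : ℤ} {x : M} (hx : x ∈ ℳ e) (k : ℕ) (hk : n₀ - e ≤ k) {r : R} (hr : r ∈ a ^ k) :
    r • x = 0 := by
  classical
  apply eq_zero_of_decompose_eq_zero ℳ
  intro j
  have h1 := decompose_smul_of_right_mem 𝒜 ℳ r hx (j - e)
  rw [sub_add_cancel] at h1
  rw [h1]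
  by_cases hj : j - e < k
  · rw [pow_le_geIdeal 𝒜 hpos a ha k hr (j - e) hj, zero_smul]
  · apply hM j (by omega)
    have h2 := SetLike.GradedSMul.smul_mem (A := 𝒜) (B := ℳ)
      (SetLike.coe_mem (decompose 𝒜 r (j - e))) hx
    rwa [vadd_eq_add, sub_add_cancel] at h2

include ha hpos in
/-- a graded module vanishing in large degrees is torsion for the irrelevant ideal -/
theorem gam_eq_top_of_bounded (n₀ : ℤ) (hM : ∀ n : ℤ, n₀ ≤ n → ∀ x ∈ ℳ n, x = 0) :
    GrLC.gam a M = ⊤ := by
  classical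
  rw [eq_top_iff]
  intro x _
  rw [← DirectSum.sum_support_decompose ℳ x]
  refine Submodule.sum_mem _ (fun e _ => ?_)
  refine ⟨(n₀ - e).toNat, fun r hr => ?_⟩
  exact smul_eq_zero_of_mem_pow 𝒜 hpos ℳ a ha n₀ hM (SetLike.coe_mem _) _ (Int.self_le_toNat _) hr

variable (hhom : a = Ideal.span ((𝒜 1 : σ) : Set R))

include ha hhom in
/-- in a standard graded ring `R_e ⊆ (R_+)^e` -/
theorem piece_le_pow (e : ℕ) : ∀ r ∈ 𝒜 (e : ℤ), r ∈ a ^ e := by
  induction e with
  | zero =>
    intro r _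
    rw [pow_zero, Ideal.one_eq_top]
    trivial
  | succ e ih =>
    intro r hr
    have hra : r ∈ a := mem_irrel_of_mem_pos 𝒜 a ha (by positivity) hr
    have key : ∀ y ∈ Ideal.span ((𝒜 1 : σ) : Set R), ∀ s : R,
        (decompose 𝒜 (s * y) ((e : ℤ) + 1) : R) ∈ a ^ (e + 1) := by
      intro y hy
      induction hy using Submodule.span_induction with
      | mem y hy =>
        intro s
        rw [DirectSum.coe_decompose_mul_add_of_right_mem 𝒜 hy, pow_succ]
        exact Ideal.mul_mem_mul (ih _ (SetLike.coe_mem _))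
          (mem_irrel_of_mem_pos 𝒜 a ha one_pos hy)
      | zero =>
        intro s
        rw [mul_zero, DirectSum.decompose_zero]
        exact Submodule.zero_mem _
      | add y z _ _ hy hz =>
        intro s
        rw [mul_add, DirectSum.decompose_add, DirectSum.add_apply, AddMemClass.coe_add]
        exact Submodule.add_mem _ (hy s) (hz s)
      | smul c y _ hy =>
        intro s
        rw [smul_eq_mul, ← mul_assoc]
        exact hy (s * c)
    rw [hhom] at hra
    have h1 := key r hra 1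
    rw [one_mul] at h1
    have h2 : (decompose 𝒜 r ((e : ℤ) + 1) : R) = r := by
      apply DirectSum.decompose_of_mem_same
      rwa [Nat.cast_succ] at hr
    rwa [h2] at h1

end Positive

end Groth.Agent.H98.GrStar
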