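import Groth.Agent.H98.GrStar.Devissage
import Groth.Agent.H98.GrStar.Irrel
import Groth.Agent.H98.GrStar.LCVanish
import Groth.Agent.H98.GrStar.Res
import Groth.Agent.H58.LCCd
import Groth.Agent.H58.LCArith

set_option autoImplicit false
set_option linter.unusedSectionVars false
universe u

/-!
# Vanishing in high degrees of graded local cohomology (positively `ℤ`-graded Noetherian rings)
-/

namespace Groth.Agent.H98.GrStar

open DirectSum CategoryTheory Groth.Agent.H98.LCRes Groth.Agent.H58.LC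

section H0

variable {ι : Type} [AddCommGroup ι] [DecidableEq ι]
variable {R : Type u} [CommRing R]
  {σ : Type u} [SetLike σ R] [AddSubgroupClass σ R]
  {𝒜 : ι → σ} [GradedRing 𝒜]
variable {M : Type u} [AddCommGroup M] [Module R M] {ℳ : ι → AddSubgroup M}
  [DirectSum.Decomposition ℳ] [SetLike.GradedSMul 𝒜 ℳ]
variable (E : GrLC.StarInjRes 𝒜 ℳ) (a : HomogeneousIdeal 𝒜)

theorem ε_mem_cocyc (m : M) (hm : m ∈ GrLC.gam a.toIdeal M) : E.ε m ∈ E.cocyc a 0 := by
  refine ⟨?_, ?_⟩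
  · obtain ⟨k, hk⟩ := hm
    exact ⟨k, fun r hr => by rw [← map_smul, hk r hr, map_zero]⟩
  · change E.ε m ∈ LinearMap.ker (E.d 0)
    rw [E.exact_zero]
    exact ⟨m, rfl⟩

/-- homogeneous elements of `*H^0_a(M)` come from homogeneous elements of `Γ_a(M)` -/
theorem exists_of_mem_Hgr_zero (g : ι) (x : E.H a 0) (hx : x ∈ E.Hgr a 0 g) :
    ∃ (m : M) (hm : m ∈ GrLC.gam a.toIdeal M), m ∈ ℳ g ∧
      E.toH a 0 ⟨E.ε m, ε_mem_cocyc E a m hm⟩ = x := by
  obtain ⟨z, hz, rfl⟩ := hx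
  have hz2 : (z : (E.X 0).carrier) ∈ LinearMap.ker (E.d 0) := z.2.2
  rw [E.exact_zero] at hz2
  obtain ⟨m, hm⟩ := hz2
  have hmg : m ∈ ℳ g := by
    have h1 := decompose_grHom ℳ (E.X 0).gr E.ε E.ε_grHom m g
    rw [hm, DirectSum.decompose_of_mem_same (E.X 0).gr hz, ← hm] at h1
    have h2 := E.ε_injective h1
    rw [h2]
    exact SetLike.coe_mem _
  have hmgam : m ∈ GrLC.gam a.toIdeal M := by
    obtain ⟨k, hk⟩ := z.2.1
    refine ⟨k, fun r hr => ?_⟩
    apply E.ε_injective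
    rw [map_smul, hm, hk r hr, map_zero]
  refine ⟨m, hmgam, hmg, ?_⟩
  congr 1
  exact Subtype.ext hm

theorem toH_ε_mem_Hgr (g : ι) (m : M) (hm : m ∈ GrLC.gam a.toIdeal M) (hmg : m ∈ ℳ g) :
    E.toH a 0 ⟨E.ε m, ε_mem_cocyc E a m hm⟩ ∈ E.Hgr a 0 g :=
  ⟨⟨E.ε m, ε_mem_cocyc E a m hm⟩, E.ε_grHom g m hmg, rfl⟩

/-- if `Γ_a(M)` has no nonzero element of degree `g`, then `*H^0_a(M)_g = 0` -/
theorem Hgr_zero_eq_zero (g : ι) (h : ∀ m ∈ ℳ g, m ∈ GrLC.gam a.toIdeal M → m = 0)
    (x : E.H a 0) (hx : x ∈ E.Hgr a 0 g) : x = 0 := by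
  obtain ⟨m, hm, hmg, rfl⟩ := exists_of_mem_Hgr_zero E a g x hx
  have h0 := h m hmg hm
  subst h0
  have : (⟨E.ε 0, ε_mem_cocyc E a 0 hm⟩ : E.cocyc a 0) = 0 := Subtype.ext (map_zero _)
  rw [this, map_zero]

/-- the part of degree `g` of `Γ_a(M)`, as a module over the degree-zero subring -/
def gamComp (ℳ : ι → AddSubgroup M) [DirectSum.Decomposition ℳ] [SetLike.GradedSMul 𝒜 ℳ]
    (g : ι) : Submodule (GrLC.deg0 𝒜) M :=
  GrLC.comp 𝒜 ℳ g ⊓ (GrLC.gam a.toIdeal M).restrictScalars (GrLC.deg0 𝒜)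

/-- the `R_0`-linear surjection `Γ_a(M)_g → *H^0_a(M)_g` -/
noncomputable def η0 (g : ι) : gamComp a ℳ g →ₗ[GrLC.deg0 𝒜] E.Hcomp a 0 g where
  toFun m := ⟨E.toH a 0 ⟨E.ε m.1, ε_mem_cocyc E a m.1 m.2.2⟩, toH_ε_mem_Hgr E a g m.1 m.2.2 m.2.1⟩
  map_add' m m' := by
    apply Subtype.ext
    change E.toH a 0 _ = E.toH a 0 _ + E.toH a 0 _
    rw [← map_add]
    congr 1
    exact Subtype.ext (map_add E.ε _ _)
  map_smul' r m := by
    apply Subtype.ext
    change E.toH a 0 _ = (r : R) • E.toH a 0 _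
    rw [← map_smul]
    congr 1
    exact Subtype.ext (map_smul E.ε (r : R) m.1)

theorem η0_surjective (g : ι) : Function.Surjective (η0 E a g) := by
  rintro ⟨x, hx⟩
  obtain ⟨m, hm, hmg, rfl⟩ := exists_of_mem_Hgr_zero E a g x hx
  exact ⟨⟨m, hmg, hm⟩, Subtype.ext rfl⟩

end H0

section Cyclic

variable {ι : Type} [AddCommGroup ι] [DecidableEq ι]
variable {R : Type u} [CommRing R]
  {σ : Type u} [SetLike σ R] [AddSubgroupClass σ R]
  (𝒜 : ι → σ) [GradedRing 𝒜]
variable {M : Type u} [AddCommGroup M] [Module R M] (ℳ : ι → AddSubgroup M)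
  [DirectSum.Decomposition ℳ] [SetLike.GradedSMul 𝒜 ℳ]

/-- a cyclic module with prime annihilator `p`: elements outside `p` are regular -/
theorem isSMulRegular_of_cyclic {p : Ideal R} [p.IsPrime] {m₀ : M}
    (hspan : Submodule.span R {m₀} = ⊤) (hann : (Submodule.span R {m₀}).annihilator = p)
    {x : R} (hx : x ∉ p) : IsSMulRegular M x := by
  intro y y' hyy
  have h1 : y - y' ∈ Submodule.span R {m₀} := by rw [hspan]; trivial
  obtain ⟨r, hr⟩ := Submodule.mem_span_singleton.mp h1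
  have h2 : x • (y - y') = 0 := by
    rw [smul_sub]
    exact sub_eq_zero.mpr hyy
  rw [← hr, smul_smul] at h2
  have h3 : x * r ∈ p := by
    rw [← hann, Submodule.mem_annihilator_span_singleton]
    exact h2
  have h4 : r ∈ p := (Ideal.IsPrime.mem_or_mem inferInstance h3).resolve_left hx
  rw [← hann, Submodule.mem_annihilator_span_singleton] at h4
  rw [h4] at hr
  exact sub_eq_zero.mp hr.symm

/-- a cyclic module with annihilator `p`: elements of `p` kill it -/
theorem smul_eq_zero_of_cyclic {p : Ideal R} {m₀ : M}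
    (hspan : Submodule.span R {m₀} = ⊤) (hann : (Submodule.span R {m₀}).annihilator = p)
    {x : R} (hx : x ∈ p) (y : M) : x • y = 0 := by
  have h1 : y ∈ Submodule.span R {m₀} := by rw [hspan]; trivial
  obtain ⟨r, rfl⟩ := Submodule.mem_span_singleton.mp h1
  rw [← hann, Submodule.mem_annihilator_span_singleton] at hx
  rw [smul_comm, hx, smul_zero]

/-- a homogeneous ideal not contained in `p` has a homogeneous element outside `p` -/
theorem exists_homogeneous_not_mem (a : HomogeneousIdeal 𝒜) (p : Ideal R) (h : ¬ a.toIdeal ≤ p) :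
    ∃ (e : ι) (x : R), x ∈ 𝒜 e ∧ x ∈ a.toIdeal ∧ x ∉ p := by
  classical
  by_contra hcon
  push Not at hcon
  apply h
  intro r hr
  rw [← DirectSum.sum_support_decompose 𝒜 r]
  refine Ideal.sum_mem _ (fun e _ => ?_)
  exact hcon e _ (SetLike.coe_mem _) (a.isHomogeneous e hr)

/-- `x M` is a homogeneous submodule for homogeneous `x` -/
theorem range_smul_isHomogeneous {x : R} {e : ι} (hx : x ∈ 𝒜 e) :
    (LinearMap.range (x • (LinearMap.id : M →ₗ[R] M))).IsHomogeneous ℳ := by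
  rintro j _ ⟨m, rfl⟩
  have h1 := decompose_smul_homog 𝒜 ℳ hx m (j - e)
  rw [add_sub_cancel] at h1
  change (DirectSum.decompose ℳ (x • m) j : M) ∈ _
  rw [h1]
  exact ⟨_, rfl⟩

end Cyclic

section Tors

variable {ι : Type} [AddCommGroup ι] [DecidableEq ι]
variable {R : Type u} [CommRing R] [IsNoetherianRing R]
  {σ : Type u} [SetLike σ R] [AddSubgroupClass σ R]
  {𝒜 : ι → σ} [GradedRing 𝒜]
variable {M : Type u} [AddCommGroup M] [Module R M] {ℳ : ι → AddSubgroup M}
  [DirectSum.Decomposition ℳ] [SetLike.GradedSMul 𝒜 ℳ]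
variable (E : GrLC.StarInjRes 𝒜 ℳ) (a : HomogeneousIdeal 𝒜)

omit [IsNoetherianRing R] in
theorem smul_mem_Hgr {d n : ι} {r : R} (hr : r ∈ 𝒜 d) (i : ℕ) (z : E.H a i)
    (hz : z ∈ E.Hgr a i n) : r • z ∈ E.Hgr a i (d + n) := by
  obtain ⟨w, hw, rfl⟩ := hz
  refine ⟨r • w, ?_, map_smul _ _ _⟩
  have := SetLike.GradedSMul.smul_mem (A := 𝒜) (B := (E.X i).gr) hr hw
  rwa [vadd_eq_add] at this

/-- every class of graded local cohomology is killed by a power of `a` -/
theorem exists_pow_smul_eq_zero (i : ℕ) (z : E.H a i) :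
    ∃ k : ℕ, ∀ r ∈ a.toIdeal ^ k, r • z = 0 := by
  obtain ⟨k, hk⟩ := isTors_H a.toIdeal i (ModuleCat.of R M) (θ E a i z)
  refine ⟨k, fun r hr => ?_⟩
  apply (θ E a i).injective
  rw [map_smul, map_zero]
  exact hk r hr

end Tors

section Main

variable {R : Type u} [CommRing R] [IsNoetherianRing R]
  {σ : Type u} [SetLike σ R] [AddSubgroupClass σ R]
  (𝒜 : ℤ → σ) [GradedRing 𝒜] (hpos : ∀ n : ℤ, n < 0 → ∀ r ∈ 𝒜 n, r = 0)
  (a : HomogeneousIdeal 𝒜) (hirr : ∀ n : ℤ, 0 < n → ∀ r ∈ 𝒜 n, r ∈ a.toIdeal)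

/-- `*H^i_a(X)` vanishes in all large degrees (for every *injective resolution) -/
def VanishHigh (i : ℕ) (X : GrLC.GMod.{u} 𝒜) : Prop :=
  ∀ E : GrLC.StarInjRes 𝒜 X.gr, ∃ N : ℤ, ∀ n : ℤ, N ≤ n → ∀ x ∈ E.Hgr a i n, x = 0

theorem vanishHigh_of_ses (i : ℕ) (X' X X'' : GrLC.GMod.{u} 𝒜)
    (T : GrSES (R := R) X'.gr X.gr X''.gr)
    (h' : VanishHigh 𝒜 a i X') (h'' : VanishHigh 𝒜 a i X'') : VanishHigh 𝒜 a i X := by
  intro E
  obtain ⟨N', hN'⟩ := h' (res 𝒜 X'.gr)
  obtain ⟨N'', hN''⟩ := h'' (res 𝒜 X''.gr)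
  refine ⟨max N' N'', fun n hn x hx => ?_⟩
  have h1 := Hmap_isGrHom a T.v T.v_gr E (res 𝒜 X''.gr) i n x hx
  have h2 := hN'' n (le_trans (le_max_right _ _) hn) _ h1
  obtain ⟨y, hy, rfl⟩ := T.exact_mid_deg a (res 𝒜 X'.gr) E (res 𝒜 X''.gr) i n x hx h2
  rw [hN' n (le_trans (le_max_left _ _) hn) y hy, map_zero]

theorem vanishHigh_of_subsingleton (i : ℕ) (X : GrLC.GMod.{u} 𝒜) (hX : Subsingleton X.carrier) :
    VanishHigh 𝒜 a i X := by
  intro E
  refine ⟨0, fun n _ x _ => ?_⟩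
  have : Subsingleton ((localCohomology a.toIdeal i).obj (ModuleCat.of R X.carrier)) :=
    subsingleton_H_of_subsingleton (I := a.toIdeal) (ModuleCat.of R X.carrier) i
  exact (θ E a i).injective (Subsingleton.elim _ _)

include hpos hirr in
theorem vanishHigh_cyclic (i : ℕ)
    (ih : ∀ j < i, ∀ (Y : GrLC.GMod.{u} 𝒜) [Module.Finite R Y.carrier], VanishHigh 𝒜 a j Y)
    (X : GrLC.GMod.{u} 𝒜) [Module.Finite R X.carrier] (p : HomogeneousIdeal 𝒜) (g : ℤ)
    (m₀ : X.carrier) (hp : p.toIdeal.IsPrime) (hm₀ : m₀ ∈ X.gr g)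
    (hspan : Submodule.span R {m₀} = ⊤)
    (hann : (Submodule.span R {m₀}).annihilator = p.toIdeal) : VanishHigh 𝒜 a i X := by
  intro E
  by_cases hap : a.toIdeal ≤ p.toIdeal
  · -- `X` is killed by `a`
    have hkill : ∀ r ∈ a.toIdeal, ∀ y : X.carrier, r • y = 0 := fun r hr y =>
      smul_eq_zero_of_cyclic hspan hann (hap hr) y
    have hgam : GrLC.gam a.toIdeal X.carrier = ⊤ := by
      rw [eq_top_iff]
      intro y _
      exact ⟨1, fun r hr => hkill r (by rwa [pow_one] at hr) y⟩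
    cases i with
    | zero =>
      refine ⟨g + 1, fun n hn x hx => ?_⟩
      refine Hgr_zero_eq_zero E a n (fun m hm _ => ?_) x hx
      have hmem : m ∈ Submodule.span R {m₀} := by rw [hspan]; trivial
      obtain ⟨r, hr, rfl⟩ := exists_homog_smul_eq 𝒜 X.gr hm₀ hm hmem
      exact hkill r (hirr (n - g) (by omega) r hr) m₀
    | succ j =>
      refine ⟨0, fun n _ x _ => ?_⟩
      have := H_subsingleton_of_gam_eq_top E a hgam (j + 1) (by omega)
      exact Subsingleton.elim _ _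
  · obtain ⟨e, x, hxe, hxa, hxp⟩ := exists_homogeneous_not_mem 𝒜 a p.toIdeal hap
    have hreg : IsSMulRegular X.carrier x := isSMulRegular_of_cyclic hspan hann hxp
    have he : 0 ≤ e := by
      by_contra hcon
      push Not at hcon
      apply hxp
      rw [hpos e hcon x hxe]
      exact zero_mem _
    cases i with
    | zero =>
      refine ⟨0, fun n _ z hz => ?_⟩
      refine Hgr_zero_eq_zero E a n (fun m _ hmgam => ?_) z hz
      obtain ⟨k, hk⟩ := hmgam
      have h1 : x ^ k • m = 0 := hk _ (Ideal.pow_mem_pow hxa k)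
      exact (hreg.pow k) (show x ^ k • m = x ^ k • (0 : X.carrier) by rw [h1, smul_zero])
    | succ j =>
      -- the graded quotient `Y = X / x X`
      let π : X.carrier →ₗ[R] (X.carrier ⧸ LinearMap.range (x • (LinearMap.id : X.carrier →ₗ[R] X.carrier))) :=
        Submodule.mkQ _
      have hπ : Function.Surjective π := Submodule.mkQ_surjective _
      have hker : LinearMap.ker π = LinearMap.range (x • (LinearMap.id : X.carrier →ₗ[R] X.carrier)) :=
        Submodule.ker_mkQ _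
      have hkerh : (LinearMap.ker π).IsHomogeneous X.gr := by
        rw [hker]
        exact range_smul_isHomogeneous 𝒜 X.gr hxe
      let Y : GrLC.GMod.{u} 𝒜 := quotGMod 𝒜 X.gr π hπ hkerh
      have hYfin : Module.Finite R Y.carrier :=
        inferInstanceAs (Module.Finite R (X.carrier ⧸ LinearMap.range (x • (LinearMap.id : X.carrier →ₗ[R] X.carrier))))
      have hπg : GrLC.IsGrHom X.gr Y.gr π := quotGMod_isGrHom 𝒜 X.gr π hπ hkerh
      let F : GrLC.StarInjRes 𝒜 Y.gr := res 𝒜 Y.gr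
      obtain ⟨N₀, hN₀⟩ := ih j (by omega) Y F
      let T : GrSES (R := R) (shM 𝒜 X.gr e).gr X.gr Y.gr := mulSES x hxe hreg π hπ hπg hker
      -- multiplication by `x` is injective on `*H^{j+1}` in degrees `≥ N₀`
      have hinj : ∀ n : ℤ, N₀ ≤ n → ∀ z ∈ E.Hgr a (j + 1) n, x • z = 0 → z = 0 := by
        intro n hn z hz hxz
        have hz' : z ∈ (shiftDeg E e).Hgr a (j + 1) (n + e) := by
          change z ∈ E.Hgr a (j + 1) (n + e - e)
          rwa [add_sub_cancel_right]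
        have h0 : Hmap a T.u (shiftDeg E e) E (j + 1) z = 0 := by
          rw [Hmap_shiftDeg_smul a E x e T.u (fun m => rfl) (j + 1) z]
          exact hxz
        obtain ⟨y, hy, hyz⟩ := T.exact_left_deg a (shiftDeg E e) E F j (n + e) z hz' h0
        rw [hN₀ (n + e) (by omega) y hy, map_zero] at hyz
        exact hyz.symm
      have hpow : ∀ k : ℕ, ∀ n : ℤ, N₀ ≤ n → ∀ z ∈ E.Hgr a (j + 1) n, x ^ k • z = 0 → z = 0 := by
        intro k
        induction k with
        | zero =>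
          intro n _ z _ h
          rwa [pow_zero, one_smul] at h
        | succ k ihk =>
          intro n hn z hz h
          have h1 : x • z ∈ E.Hgr a (j + 1) (e + n) := smul_mem_Hgr E a hxe (j + 1) z hz
          have h2 : x ^ k • (x • z) = 0 := by rwa [smul_smul, ← pow_succ]
          have h3 := ihk (e + n) (by omega) _ h1 h2
          exact hinj n hn z hz h3
      refine ⟨N₀, fun n hn z hz => ?_⟩
      obtain ⟨k, hk⟩ := exists_pow_smul_eq_zero E a (j + 1) z
      exact hpow k n hn z hz (hk _ (Ideal.pow_mem_pow hxa k))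

include hpos hirr in
/-- graded local cohomology of a finitely generated graded module vanishes in high degrees -/
theorem vanishHigh (i : ℕ) : ∀ (X : GrLC.GMod.{u} 𝒜) [Module.Finite R X.carrier],
    VanishHigh 𝒜 a i X := by
  induction i using Nat.strong_induction_on with
  | _ i ih =>
    intro X _
    exact devissage 𝒜 (VanishHigh 𝒜 a i)
      (fun X' X X'' T h' h'' => vanishHigh_of_ses 𝒜 a i X' X X'' T h' h'')
      (fun X hX => vanishHigh_of_subsingleton 𝒜 a i X hX)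
      (fun X p g m₀ hp hm₀ hspan hann => by
        have hfin : Module.Finite R X.carrier :=
          ⟨⟨{m₀}, by rw [Finset.coe_singleton]; exact hspan⟩⟩
        exact vanishHigh_cyclic 𝒜 hpos a hirr i (fun j hj Y _ => ih j hj Y) X p g m₀ hp hm₀
          hspan hann)
      X

end Main

end Groth.Agent.H98.GrStar
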