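import Groth.Agent.H98.GrStar.CofreeAdj
import Mathlib.Algebra.Category.ModuleCat.EnoughInjectives
import Mathlib.Algebra.Category.ModuleCat.Injective

set_option autoImplicit false
universe u

noncomputable section

namespace Groth.Agent.H98.GrStar

open DirectSum CategoryTheory

variable {ι : Type} [AddCommGroup ι] [DecidableEq ι]
variable {R : Type u} [CommRing R] {σ : Type u} [SetLike σ R] [AddSubgroupClass σ R]
  (𝒜 : ι → σ) [GradedRing 𝒜]
variable {M : Type u} [AddCommGroup M] [Module R M] (ℳ : ι → AddSubgroup M)
  [DirectSum.Decomposition ℳ] [SetLike.GradedSMul 𝒜 ℳ]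

/-- every module embeds into an injective module (unbundled form) -/
theorem exists_injective_embedding (M : Type u) [AddCommGroup M] [Module R M] :
    ∃ (I : Type u) (_ : AddCommGroup I) (_ : Module R I) (_ : Module.Injective R I)
      (e : M →ₗ[R] I), Function.Injective e := by
  let J := Injective.under (ModuleCat.of R M)
  haveI : CategoryTheory.Injective (ModuleCat.of R J) := by
    change CategoryTheory.Injective J
    infer_instance
  refine ⟨J, inferInstance, inferInstance, Module.injective_module_of_injective_object R J,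
    (Injective.ι (ModuleCat.of R M)).hom, ?_⟩
  exact (ModuleCat.mono_iff_injective _).mp inferInstance

/-- the graded category has enough *injectives -/
theorem exists_starInj_embedding :
    ∃ (E : GrLC.GMod.{u} 𝒜) (f : M →ₗ[R] E.carrier),
      GrLC.IsGrHom ℳ E.gr f ∧ Function.Injective f ∧ GrLC.IsStarInj 𝒜 E.gr := by
  obtain ⟨I, _, _, _, e, he⟩ := exists_injective_embedding (R := R) M
  exact ⟨Cof.gmod 𝒜 I, Cof.coind 𝒜 ℳ e, Cof.coind_isGrHom 𝒜 ℳ e, Cof.coind_injective 𝒜 ℳ e he,
    Cof.isStarInj 𝒜 I⟩

end Groth.Agent.H98.GrStar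

end
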