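import Groth.Agent.H98.GrStar.SubQuot
import Groth.Agent.H98.GrStar.Enough

set_option autoImplicit false
universe u

/-!
# *essential extensions, retracts, and Zorn arguments for homogeneous submodules
-/

namespace Groth.Agent.H98.GrStar

open DirectSum

section Mod

variable {ι : Type} [AddCommGroup ι] [DecidableEq ι]
variable {R : Type u} [CommRing R] {σ : Type u} [SetLike σ R] [AddSubgroupClass σ R]
  (𝒜 : ι → σ) [GradedRing 𝒜]
variable {M : Type u} [AddCommGroup M] [Module R M] (ℳ : ι → AddSubgroup M)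
  [DirectSum.Decomposition ℳ] [SetLike.GradedSMul 𝒜 ℳ]
variable {N : Type u} [AddCommGroup N] [Module R N] (𝒩 : ι → AddSubgroup N)
  [DirectSum.Decomposition 𝒩] [SetLike.GradedSMul 𝒜 𝒩]
variable {L : Type u} [AddCommGroup L] [Module R L] (𝓛 : ι → AddSubgroup L)
  [DirectSum.Decomposition 𝓛] [SetLike.GradedSMul 𝒜 𝓛]

omit [SetLike.GradedSMul 𝒜 ℳ] [SetLike.GradedSMul 𝒜 𝒩] in
theorem comap_isHomogeneous (f : M →ₗ[R] N) (hf : GrLC.IsGrHom ℳ 𝒩 f) (P : Submodule R N)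
    (hP : P.IsHomogeneous 𝒩) : (P.comap f).IsHomogeneous ℳ := by
  intro i x hx
  rw [Submodule.mem_comap] at hx ⊢
  rw [← decompose_grHom ℳ 𝒩 f hf x i]
  exact hP i hx

omit [SetLike.GradedSMul 𝒜 ℳ] [SetLike.GradedSMul 𝒜 𝒩] in
theorem map_isHomogeneous (f : M →ₗ[R] N) (hf : GrLC.IsGrHom ℳ 𝒩 f) (P : Submodule R M)
    (hP : P.IsHomogeneous ℳ) : (P.map f).IsHomogeneous 𝒩 := by
  rintro i _ ⟨x, hx, rfl⟩
  rw [decompose_grHom ℳ 𝒩 f hf x i]
  exact ⟨_, hP i hx, rfl⟩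

omit [AddCommGroup ι] in
theorem inf_isHomogeneous (P Q : Submodule R M) (hP : P.IsHomogeneous ℳ) (hQ : Q.IsHomogeneous ℳ) :
    (P ⊓ Q).IsHomogeneous ℳ :=
  fun i _ hx => ⟨hP i hx.1, hQ i hx.2⟩

omit [AddCommGroup ι] in
theorem bot_isHomogeneous : (⊥ : Submodule R M).IsHomogeneous ℳ := by
  intro i x hx
  rw [Submodule.mem_bot] at hx
  subst hx
  simp

omit [AddCommGroup ι] in
theorem sSup_isHomogeneous_of_chain (c : Set (Submodule R M)) (hne : c.Nonempty)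
    (hc : IsChain (· ≤ ·) c) (h : ∀ P ∈ c, P.IsHomogeneous ℳ) : (sSup c).IsHomogeneous ℳ := by
  intro i x hx
  rw [Submodule.mem_sSup_of_directed hne hc.directedOn] at hx ⊢
  obtain ⟨P, hP, hxP⟩ := hx
  exact ⟨P, hP, h P hP i hxP⟩

omit [SetLike.GradedSMul 𝒜 ℳ] [SetLike.GradedSMul 𝒜 𝒩] [SetLike.GradedSMul 𝒜 𝓛] [DirectSum.Decomposition ℳ] in
/-- kernel lemma: a graded map out of a *essential extension which is injective on the
base is injective -/
theorem injective_of_comp_injective (f : M →ₗ[R] N) (hf : GrLC.IsStarEss ℳ 𝒩 f)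
    (g : N →ₗ[R] L) (hg : GrLC.IsGrHom 𝒩 𝓛 g) (h : Function.Injective (g ∘ₗ f)) :
    Function.Injective g := by
  rw [← LinearMap.ker_eq_bot]
  by_contra hne
  have := hf.essential (LinearMap.ker g) (ker_isHomogeneous 𝒩 𝓛 g hg) hne
  apply this
  rw [eq_bot_iff]
  rintro x ⟨hx1, m, rfl⟩
  have : (g ∘ₗ f) m = (g ∘ₗ f) 0 := by
    rw [map_zero]; exact hx1
  rw [h this, map_zero]
  exact Submodule.zero_mem _

omit [SetLike.GradedSMul 𝒜 ℳ] [SetLike.GradedSMul 𝒜 𝒩] in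
/-- the inverse of a graded isomorphism is graded -/
theorem symm_isGrHom (e : M ≃ₗ[R] N) (he : GrLC.IsGrHom ℳ 𝒩 e.toLinearMap) :
    GrLC.IsGrHom 𝒩 ℳ e.symm.toLinearMap := by
  intro i y hy
  have h1 := decompose_grHom ℳ 𝒩 e.toLinearMap he (e.symm y) i
  have h2 : e.toLinearMap (e.symm y) = y := e.apply_symm_apply y
  rw [h2, DirectSum.decompose_of_mem_same 𝒩 hy] at h1
  have h3 : e.symm y = (DirectSum.decompose ℳ (e.symm y) i : M) := by
    apply e.injective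
    rw [e.apply_symm_apply]
    exact h1
  change e.symm y ∈ ℳ i
  rw [h3]
  exact SetLike.coe_mem _

/-- a *injective module has no proper *essential extension -/
theorem surjective_of_isStarInj (hM : GrLC.IsStarInj 𝒜 ℳ) (f : M →ₗ[R] N)
    (hf : GrLC.IsStarEss ℳ 𝒩 f) : Function.Surjective f := by
  obtain ⟨h, hh, hhf⟩ : ∃ h : N →ₗ[R] M, GrLC.IsGrHom 𝒩 ℳ h ∧ h ∘ₗ f = LinearMap.id :=
    hM (GrLC.GMod.of 𝒜 M ℳ) (GrLC.GMod.of 𝒜 N 𝒩) f hf.grHom hf.injective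
      LinearMap.id (fun _ _ hm => hm)
  have hinj : Function.Injective h := by
    apply injective_of_comp_injective ℳ 𝒩 ℳ f hf h hh
    rw [hhf]
    exact Function.injective_id
  intro n
  refine ⟨h n, ?_⟩
  apply hinj
  exact LinearMap.congr_fun hhf (h n)

/-- a graded retract of a *injective module is *injective -/
theorem isStarInj_of_retract (hN : GrLC.IsStarInj 𝒜 𝒩) (Φ : M →ₗ[R] N)
    (hΦ : GrLC.IsGrHom ℳ 𝒩 Φ) (ρ : N →ₗ[R] M) (hρ : GrLC.IsGrHom 𝒩 ℳ ρ)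
    (h : ρ ∘ₗ Φ = LinearMap.id) : GrLC.IsStarInj 𝒜 ℳ := by
  intro A B f hf hfinj g hg
  obtain ⟨h', hh', hh'f⟩ := hN A B f hf hfinj (Φ ∘ₗ g) (fun i a ha => hΦ i _ (hg i a ha))
  refine ⟨ρ ∘ₗ h', fun i b hb => hρ i _ (hh' i b hb), ?_⟩
  rw [LinearMap.comp_assoc, hh'f, ← LinearMap.comp_assoc, h, LinearMap.id_comp]

omit [AddCommGroup ι] in
/-- Zorn: a maximal homogeneous submodule meeting `F` trivially -/
theorem exists_maximal_compl (F : Submodule R M) :
    ∃ C : Submodule R M, C.IsHomogeneous ℳ ∧ C ⊓ F = ⊥ ∧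
      ∀ C' : Submodule R M, C'.IsHomogeneous ℳ → C' ⊓ F = ⊥ → C ≤ C' → C' = C := by
  obtain ⟨C, hC⟩ := zorn_le₀ {C : Submodule R M | C.IsHomogeneous ℳ ∧ C ⊓ F = ⊥} (by
    intro c hcs hc
    rcases c.eq_empty_or_nonempty with rfl | hne
    · exact ⟨⊥, ⟨bot_isHomogeneous ℳ, bot_inf_eq _⟩, fun z hz => (Set.notMem_empty z hz).elim⟩
    · refine ⟨sSup c, ⟨sSup_isHomogeneous_of_chain ℳ c hne hc (fun P hP => (hcs hP).1), ?_⟩,
        fun z hz => le_sSup hz⟩
      rw [eq_bot_iff]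
      rintro x ⟨hx1, hx2⟩
      rw [SetLike.mem_coe, Submodule.mem_sSup_of_directed hne hc.directedOn] at hx1
      obtain ⟨P, hP, hxP⟩ := hx1
      rw [← (hcs hP).2]
      exact ⟨hxP, hx2⟩)
  refine ⟨C, hC.prop.1, hC.prop.2, fun C' h1 h2 h3 => le_antisymm (hC.le_of_ge ⟨h1, h2⟩ h3) h3⟩

/-- the condition "`F ⊆ E'` is *essential" for homogeneous submodules of `M` -/
def EssIn (F E' : Submodule R M) : Prop :=
  ∀ P : Submodule R M, P.IsHomogeneous ℳ → P ≤ E' → P ≠ ⊥ → P ⊓ F ≠ ⊥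

include 𝒜 in
/-- Zorn: a maximal homogeneous submodule in which `F` is *essential -/
theorem exists_maximal_ess (F : Submodule R M) (hF : F.IsHomogeneous ℳ) :
    ∃ E' : Submodule R M, E'.IsHomogeneous ℳ ∧ F ≤ E' ∧ EssIn ℳ F E' ∧
      ∀ E'' : Submodule R M, E''.IsHomogeneous ℳ → F ≤ E'' → EssIn ℳ F E'' → E' ≤ E'' →
        E'' = E' := by
  have hFmem : F ∈ {E' : Submodule R M | E'.IsHomogeneous ℳ ∧ F ≤ E' ∧ EssIn ℳ F E'} := by
    refine ⟨hF, le_rfl, fun P _ hPF hne => ?_⟩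
    rwa [inf_eq_left.mpr hPF]
  obtain ⟨E', hE'⟩ := zorn_le₀ {E' : Submodule R M | E'.IsHomogeneous ℳ ∧ F ≤ E' ∧ EssIn ℳ F E'} (by
    intro c hcs hc
    rcases c.eq_empty_or_nonempty with rfl | hne
    · exact ⟨F, hFmem, fun z hz => (Set.notMem_empty z hz).elim⟩
    · refine ⟨sSup c, ⟨sSup_isHomogeneous_of_chain ℳ c hne hc (fun P hP => (hcs hP).1), ?_, ?_⟩,
        fun z hz => le_sSup hz⟩
      · obtain ⟨P, hP⟩ := hne
        exact (hcs hP).2.1.trans (le_sSup hP)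
      · intro P hPh hPle hPne
        obtain ⟨i, x, hxP, hxi, hx0⟩ := exists_homogeneous_ne_zero ℳ P hPh hPne
        have hx1 : x ∈ sSup c := hPle hxP
        rw [Submodule.mem_sSup_of_directed hne hc.directedOn] at hx1
        obtain ⟨Q, hQ, hxQ⟩ := hx1
        have hspan : (Submodule.span R {x}) ⊓ F ≠ ⊥ := by
          apply (hcs hQ).2.2 _ (span_singleton_isHomogeneous 𝒜 ℳ hxi)
          · rw [Submodule.span_le]
            exact Set.singleton_subset_iff.mpr hxQ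
          · intro h0
            apply hx0
            have : x ∈ Submodule.span R {x} := Submodule.mem_span_singleton_self x
            rw [h0] at this
            exact (Submodule.mem_bot R).mp this
        intro h0
        apply hspan
        rw [eq_bot_iff, ← h0]
        apply inf_le_inf_right
        rw [Submodule.span_le]
        exact Set.singleton_subset_iff.mpr hxP)
  refine ⟨E', hE'.prop.1, hE'.prop.2.1, hE'.prop.2.2, fun E'' h1 h2 h3 h4 =>
    le_antisymm (hE'.le_of_ge ⟨h1, h2, h3⟩ h4) h4⟩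

end Mod

end Groth.Agent.H98.GrStar
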