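import Groth.Agent.H98.GrStar.Pi

set_option autoImplicit false
universe u

/-!
# Homogeneous components of a linear map out of a finitely generated graded module;
extension of arbitrary linear maps into a *injective module
-/

noncomputable section

namespace Groth.Agent.H98.GrStar

open DirectSum

section Proj

variable {ι : Type} [DecidableEq ι]
variable {I : Type*} [AddCommGroup I] (ℐ : ι → AddSubgroup I) [DirectSum.Decomposition ℐ]

/-- the graded projection onto the piece of degree `j`, as an additive endomorphism -/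
def gproj (j : ι) : I →+ I where
  toFun x := ((DirectSum.decompose ℐ x j : ℐ j) : I)
  map_zero' := by simp
  map_add' x y := by simp

theorem gproj_apply (j : ι) (x : I) : gproj ℐ j x = ((DirectSum.decompose ℐ x j : ℐ j) : I) := rfl

theorem gproj_mem (j : ι) (x : I) : gproj ℐ j x ∈ ℐ j := SetLike.coe_mem _

end Proj

section Comp

variable {ι : Type} [AddCommGroup ι] [DecidableEq ι]
variable {R : Type u} [CommRing R] {σ : Type u} [SetLike σ R] [AddSubgroupClass σ R]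
  (𝒜 : ι → σ) [GradedRing 𝒜]
variable {K : Type u} [AddCommGroup K] [Module R K] (𝒦 : ι → AddSubgroup K)
  [DirectSum.Decomposition 𝒦] [SetLike.GradedSMul 𝒜 𝒦]
variable {I : Type u} [AddCommGroup I] [Module R I] (ℐ : ι → AddSubgroup I)
  [DirectSum.Decomposition ℐ] [SetLike.GradedSMul 𝒜 ℐ]

/-- the component of degree `d` of a linear map, as an additive map -/
def compAdd (φ : K →ₗ[R] I) (d : ι) : K →+ I :=
  (DirectSum.toAddMonoid (fun i => (gproj ℐ (i + d)).comp
    (φ.toAddMonoidHom.comp (𝒦 i).subtype))).comp (DirectSum.decomposeAddEquiv 𝒦).toAddMonoidHom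

omit [SetLike.GradedSMul 𝒜 𝒦] [SetLike.GradedSMul 𝒜 ℐ] in
theorem compAdd_of_mem (φ : K →ₗ[R] I) (d : ι) {i : ι} {x : K} (hx : x ∈ 𝒦 i) :
    compAdd 𝒦 ℐ φ d x = gproj ℐ (i + d) (φ x) := by
  change DirectSum.toAddMonoid _ (DirectSum.decompose 𝒦 x) = _
  rw [DirectSum.decompose_of_mem 𝒦 hx, DirectSum.toAddMonoid_of]
  rfl

include 𝒜 in
theorem compAdd_smul (φ : K →ₗ[R] I) (d : ι) (r : R) (x : K) :
    compAdd 𝒦 ℐ φ d (r • x) = r • compAdd 𝒦 ℐ φ d x := by
  induction r using DirectSum.Decomposition.inductionOn 𝒜 with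
  | zero => simp
  | @homogeneous e r =>
    induction x using DirectSum.Decomposition.inductionOn 𝒦 with
    | zero => simp
    | @homogeneous i x =>
      have hmem : (r : R) • (x : K) ∈ 𝒦 (e + i) := by
        have := SetLike.GradedSMul.smul_mem (A := 𝒜) (B := 𝒦) r.2 x.2
        rwa [vadd_eq_add] at this
      rw [compAdd_of_mem 𝒦 ℐ φ d hmem, compAdd_of_mem 𝒦 ℐ φ d x.2, map_smul, gproj_apply,
        gproj_apply, add_assoc]
      exact decompose_smul_homog 𝒜 ℐ r.2 (φ x) (i + d)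
    | add a b ha hb => rw [smul_add, map_add, map_add, ha, hb, smul_add]
  | add a b ha hb => rw [add_smul, map_add, ha, hb, add_smul]

/-- the component of degree `d` of a linear map -/
def comp (φ : K →ₗ[R] I) (d : ι) : K →ₗ[R] I where
  toFun := compAdd 𝒦 ℐ φ d
  map_add' := map_add _
  map_smul' := compAdd_smul 𝒜 𝒦 ℐ φ d

theorem comp_of_mem (φ : K →ₗ[R] I) (d : ι) {i : ι} {x : K} (hx : x ∈ 𝒦 i) :
    comp 𝒜 𝒦 ℐ φ d x = gproj ℐ (i + d) (φ x) := compAdd_of_mem 𝒦 ℐ φ d hx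

theorem comp_mem (φ : K →ₗ[R] I) (d : ι) {i : ι} {x : K} (hx : x ∈ 𝒦 i) :
    comp 𝒜 𝒦 ℐ φ d x ∈ ℐ (i + d) := by
  rw [comp_of_mem 𝒜 𝒦 ℐ φ d hx]
  exact gproj_mem ℐ _ _

/-- on a homogeneous element, a linear map is the sum of its components over any finite set of
degrees containing the (shifted) support -/
theorem sum_comp_of_mem (φ : K →ₗ[R] I) {i : ι} {x : K} (hx : x ∈ 𝒦 i) (D : Finset ι)
    (hD : ∀ j, gproj ℐ j (φ x) ≠ 0 → j - i ∈ D) :
    ∑ d ∈ D, comp 𝒜 𝒦 ℐ φ d x = φ x := by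
  classical
  have h1 : ∑ d ∈ D, comp 𝒜 𝒦 ℐ φ d x = ∑ d ∈ D, gproj ℐ (i + d) (φ x) :=
    Finset.sum_congr rfl (fun d _ => comp_of_mem 𝒜 𝒦 ℐ φ d hx)
  rw [h1]
  have h2 : ∑ d ∈ D, gproj ℐ (i + d) (φ x) = ∑ j ∈ D.image (fun d => i + d), gproj ℐ j (φ x) := by
    rw [Finset.sum_image]
    intro a _ b _ hab
    exact add_left_cancel hab
  rw [h2]
  have hsub : (DirectSum.decompose ℐ (φ x)).support ⊆ D.image (fun d => i + d) := by
    intro j hj
    rw [DFinsupp.mem_support_iff] at hj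
    have hj' : gproj ℐ j (φ x) ≠ 0 := fun h0 => hj (Subtype.ext h0)
    exact Finset.mem_image.mpr ⟨j - i, hD j hj', by abel⟩
  rw [← Finset.sum_subset hsub]
  · exact DirectSum.sum_support_decompose ℐ (φ x)
  · intro j _ hj
    rw [DFinsupp.notMem_support_iff] at hj
    rw [gproj_apply, hj]
    rfl

/-- a finitely generated graded module has a finite set of homogeneous generators -/
theorem exists_homogeneous_generators [Module.Finite R K] :
    ∃ T : Finset (ι × K), (∀ t ∈ T, t.2 ∈ 𝒦 t.1) ∧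
      Submodule.span R ((fun t : ι × K => t.2) '' (T : Set (ι × K))) = ⊤ := by
  classical
  obtain ⟨s, hs⟩ := (Module.Finite.fg_top : (⊤ : Submodule R K).FG)
  let T : Finset (ι × K) := s.biUnion (fun x =>
    (DirectSum.decompose 𝒦 x).support.image (fun i => (i, ((DirectSum.decompose 𝒦 x i : 𝒦 i) : K))))
  refine ⟨T, ?_, ?_⟩
  · intro t ht
    obtain ⟨x, _, hx⟩ := Finset.mem_biUnion.mp ht
    obtain ⟨i, _, rfl⟩ := Finset.mem_image.mp hx
    exact SetLike.coe_mem _
  · rw [eq_top_iff, ← hs, Submodule.span_le]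
    intro x hx
    rw [SetLike.mem_coe, ← DirectSum.sum_support_decompose 𝒦 x]
    refine Submodule.sum_mem _ (fun i hi => Submodule.subset_span ?_)
    have hmem : (i, ((DirectSum.decompose 𝒦 x i : 𝒦 i) : K)) ∈ T :=
      Finset.mem_biUnion.mpr ⟨x, hx, Finset.mem_image.mpr ⟨i, hi, rfl⟩⟩
    exact ⟨_, hmem, rfl⟩

end Comp

section Extend

variable {ι : Type} [AddCommGroup ι] [DecidableEq ι]
variable {R : Type u} [CommRing R] {σ : Type u} [SetLike σ R] [AddSubgroupClass σ R]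
  (𝒜 : ι → σ) [GradedRing 𝒜]
variable {I : Type u} [AddCommGroup I] [Module R I] (ℐ : ι → AddSubgroup I)
  [DirectSum.Decomposition ℐ] [SetLike.GradedSMul 𝒜 ℐ]

/-- graded Baer-type extension: an arbitrary linear map from a finitely generated graded submodule
into a *injective module extends -/
theorem exists_extension (hI : GrLC.IsStarInj 𝒜 ℐ) (F Kg : GrLC.GMod.{u} 𝒜)
    [Module.Finite R Kg.carrier] (incl : Kg.carrier →ₗ[R] F.carrier)
    (hincl : GrLC.IsGrHom Kg.gr F.gr incl) (hinj : Function.Injective incl)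
    (φ : Kg.carrier →ₗ[R] I) : ∃ ψ : F.carrier →ₗ[R] I, ψ ∘ₗ incl = φ := by
  classical
  obtain ⟨T, hT, hspan⟩ := exists_homogeneous_generators (R := R) Kg.gr
  let D : Finset ι := T.biUnion (fun t =>
    (DirectSum.decompose ℐ (φ t.2)).support.image (fun j => j - t.1))
  have hsum : ∑ d ∈ D, comp 𝒜 Kg.gr ℐ φ d = φ := by
    apply LinearMap.ext_on hspan
    rintro _ ⟨t, ht, rfl⟩
    rw [LinearMap.sum_apply]
    apply sum_comp_of_mem 𝒜 Kg.gr ℐ φ (hT t ht) D
    intro j hj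
    have hj' : j ∈ (DirectSum.decompose ℐ (φ t.2)).support := by
      rw [DFinsupp.mem_support_iff]
      intro h0
      apply hj
      rw [gproj_apply, h0]
      rfl
    exact Finset.mem_biUnion.mpr ⟨t, ht, Finset.mem_image.mpr ⟨j, hj', rfl⟩⟩
  have hext : ∀ d : ι, ∃ ψ : F.carrier →ₗ[R] I, ψ ∘ₗ incl = comp 𝒜 Kg.gr ℐ φ d := by
    intro d
    obtain ⟨Y, eY, hY⟩ := exists_shift' 𝒜 ℐ (-d)
    have hYinj : GrLC.IsStarInj 𝒜 Y.gr := isStarInj_of_shift_equiv 𝒜 ℐ hI Y (-d) eY hY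
    have hg : GrLC.IsGrHom Kg.gr Y.gr (eY.symm.toLinearMap ∘ₗ comp 𝒜 Kg.gr ℐ φ d) := by
      intro k x hx
      rw [hY]
      change eY (eY.symm (comp 𝒜 Kg.gr ℐ φ d x)) ∈ _
      rw [eY.apply_symm_apply, sub_neg_eq_add]
      exact comp_mem 𝒜 Kg.gr ℐ φ d hx
    obtain ⟨h, _, hhf⟩ := hYinj Kg F incl hincl hinj _ hg
    refine ⟨eY.toLinearMap ∘ₗ h, ?_⟩
    rw [LinearMap.comp_assoc, hhf, ← LinearMap.comp_assoc]
    ext x
    change eY (eY.symm (comp 𝒜 Kg.gr ℐ φ d x)) = _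
    rw [eY.apply_symm_apply]
  choose ψ hψ using hext
  refine ⟨∑ d ∈ D, ψ d, ?_⟩
  rw [← hsum]
  ext x
  rw [LinearMap.comp_apply, LinearMap.sum_apply, LinearMap.sum_apply]
  refine Finset.sum_congr rfl (fun d _ => ?_)
  exact LinearMap.congr_fun (hψ d) x

end Extend

end Groth.Agent.H98.GrStar

end
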