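import Groth.Prelude.Def_GrLC
import Mathlib.Algebra.DirectSum.Decomposition
import Mathlib.Algebra.Module.GradedModule
import Mathlib.RingTheory.GradedAlgebra.Homogeneous.Submodule

set_option autoImplicit false
universe u

/-!
# Graded modules over a `ι`-graded ring: basic lemmas (general grading group `ι`)
-/

namespace Groth.Agent.H98.GrStar

open DirectSum

section Shift

variable {ι : Type} [AddCommGroup ι] [DecidableEq ι]
variable {M M' : Type*} [AddCommGroup M] [AddCommGroup M']
  {τ τ' : Type*} [SetLike τ M] [AddSubgroupClass τ M] [SetLike τ' M'] [AddSubgroupClass τ' M']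
  (ℳ : ι → τ) (ℳ' : ι → τ') [DirectSum.Decomposition ℳ] [DirectSum.Decomposition ℳ']

/-- an additive map shifting degrees by `c` commutes with taking components -/
theorem decompose_map_shift (h : M →+ M') (c : ι) (hh : ∀ i, ∀ x ∈ ℳ i, h x ∈ ℳ' (c + i))
    (z : M) (i : ι) :
    (DirectSum.decompose ℳ' (h z) (c + i) : M') = h (DirectSum.decompose ℳ z i : M) := by
  induction z using DirectSum.Decomposition.inductionOn ℳ with
  | zero => simp
  | @homogeneous j m =>
    have hm : h (m : M) ∈ ℳ' (c + j) := hh j m m.2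
    by_cases hji : j = i
    · subst hji
      rw [DirectSum.decompose_of_mem_same ℳ' hm, DirectSum.decompose_coe, DirectSum.of_eq_same]
    · have hne : c + j ≠ c + i := fun h' => hji (add_left_cancel h')
      rw [DirectSum.decompose_of_mem_ne ℳ' hm hne, DirectSum.decompose_coe,
        DirectSum.of_eq_of_ne _ _ _ (Ne.symm hji)]
      simp
  | add m m' hm hm' =>
    simp only [map_add, DirectSum.decompose_add, DirectSum.add_apply, AddMemClass.coe_add, hm, hm']

/-- a degree-preserving additive map commutes with taking components -/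
theorem decompose_map (h : M →+ M') (hh : ∀ i, ∀ x ∈ ℳ i, h x ∈ ℳ' i) (z : M) (i : ι) :
    (DirectSum.decompose ℳ' (h z) i : M') = h (DirectSum.decompose ℳ z i : M) := by
  have := decompose_map_shift ℳ ℳ' h 0 (fun i x hx => by rw [zero_add]; exact hh i x hx) z i
  rwa [zero_add] at this

/-- an element all of whose components vanish is zero -/
theorem eq_zero_of_decompose_eq_zero (z : M) (h : ∀ i, (DirectSum.decompose ℳ z i : M) = 0) :
    z = 0 := by
  classical
  rw [← DirectSum.sum_support_decompose ℳ z]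
  exact Finset.sum_eq_zero (fun i _ => h i)

end Shift

section Mod

variable {ι : Type} [AddCommGroup ι] [DecidableEq ι]
variable {R : Type u} [CommRing R] {σ : Type u} [SetLike σ R] [AddSubgroupClass σ R]
  (𝒜 : ι → σ) [GradedRing 𝒜]
variable {M : Type u} [AddCommGroup M] [Module R M] (ℳ : ι → AddSubgroup M)
  [DirectSum.Decomposition ℳ] [SetLike.GradedSMul 𝒜 ℳ]
variable {N : Type u} [AddCommGroup N] [Module R N] (𝒩 : ι → AddSubgroup N)
  [DirectSum.Decomposition 𝒩] [SetLike.GradedSMul 𝒜 𝒩]

/-- components of a homogeneous multiple -/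
theorem decompose_smul_homog {d : ι} {r : R} (hr : r ∈ 𝒜 d) (x : M) (i : ι) :
    (DirectSum.decompose ℳ (r • x) (d + i) : M) = r • (DirectSum.decompose ℳ x i : M) :=
  decompose_map_shift ℳ ℳ (DistribSMul.toAddMonoidHom M r) d
    (fun j w hw => by
      have := SetLike.GradedSMul.smul_mem (A := 𝒜) (B := ℳ) hr hw
      rwa [vadd_eq_add] at this) x i

omit [SetLike.GradedSMul 𝒜 ℳ] [SetLike.GradedSMul 𝒜 𝒩] in
/-- graded maps commute with components -/
theorem decompose_grHom (f : M →ₗ[R] N) (hf : GrLC.IsGrHom ℳ 𝒩 f) (x : M) (i : ι) :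
    (DirectSum.decompose 𝒩 (f x) i : N) = f (DirectSum.decompose ℳ x i : M) :=
  decompose_map ℳ 𝒩 f.toAddMonoidHom (fun i x hx => hf i x hx) x i

omit [SetLike.GradedSMul 𝒜 ℳ] [SetLike.GradedSMul 𝒜 𝒩] in
/-- the kernel of a graded map is a homogeneous submodule -/
theorem ker_isHomogeneous (f : M →ₗ[R] N) (hf : GrLC.IsGrHom ℳ 𝒩 f) :
    (LinearMap.ker f).IsHomogeneous ℳ := by
  intro i x hx
  rw [LinearMap.mem_ker] at hx ⊢
  rw [← decompose_grHom ℳ 𝒩 f hf x i, hx]
  simp

omit [SetLike.GradedSMul 𝒜 ℳ] [SetLike.GradedSMul 𝒜 𝒩] in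
/-- the range of a graded map is a homogeneous submodule -/
theorem range_isHomogeneous (f : M →ₗ[R] N) (hf : GrLC.IsGrHom ℳ 𝒩 f) :
    (LinearMap.range f).IsHomogeneous 𝒩 := by
  rintro i _ ⟨x, rfl⟩
  rw [decompose_grHom ℳ 𝒩 f hf x i]
  exact ⟨_, rfl⟩

/-- a nonzero homogeneous submodule contains a nonzero homogeneous element -/
theorem exists_homogeneous_ne_zero (P : Submodule R M) (hP : P.IsHomogeneous ℳ) (hne : P ≠ ⊥) :
    ∃ (i : ι) (x : M), x ∈ P ∧ x ∈ ℳ i ∧ x ≠ 0 := by
  obtain ⟨p, hpP, hp0⟩ := (Submodule.ne_bot_iff P).mp hne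
  by_contra hcon
  push Not at hcon
  apply hp0
  apply eq_zero_of_decompose_eq_zero ℳ
  intro i
  exact hcon i _ (hP i hpP) (SetLike.coe_mem _)

include 𝒜 in
/-- the span of one homogeneous element is a homogeneous submodule -/
theorem span_singleton_isHomogeneous {i : ι} {x : M} (hx : x ∈ ℳ i) :
    (Submodule.span R {x}).IsHomogeneous ℳ := by
  intro j y hy
  obtain ⟨r, rfl⟩ := Submodule.mem_span_singleton.mp hy
  clear hy
  induction r using DirectSum.Decomposition.inductionOn 𝒜 with
  | zero => simp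
  | @homogeneous d r =>
    have hmem : (r : R) • x ∈ ℳ (d + i) := by
      have := SetLike.GradedSMul.smul_mem (A := 𝒜) (B := ℳ) r.2 hx
      rwa [vadd_eq_add] at this
    by_cases hj : d + i = j
    · subst hj
      rw [DirectSum.decompose_of_mem_same ℳ hmem]
      exact Submodule.smul_mem _ _ (Submodule.mem_span_singleton_self x)
    · rw [DirectSum.decompose_of_mem_ne ℳ hmem hj]
      exact Submodule.zero_mem _
  | add a b ha hb =>
    rw [add_smul, DirectSum.decompose_add, DirectSum.add_apply, AddSubgroup.coe_add]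
    exact Submodule.add_mem _ ha hb

end Mod

end Groth.Agent.H98.GrStar
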