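import Groth.Agent.H98.GrStar.Basic

set_option autoImplicit false
universe u

noncomputable section

namespace Groth.Agent.H98.GrStar

open DirectSum

section Transfer

variable {ι : Type} [DecidableEq ι]
variable {M M' : Type*} [AddCommGroup M] [AddCommGroup M']
  (ℳ : ι → AddSubgroup M) (ℳ' : ι → AddSubgroup M')

/-- compatibility of the canonical maps `⨁ ℳ i → M` with a componentwise map -/
theorem coe_map (g : M →+ M') (f : ∀ i, ℳ i →+ ℳ' i) (hf : ∀ i (y : ℳ i), ((f i y : ℳ' i) : M') = g y)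
    (X : ⨁ i, ℳ i) :
    DirectSum.coeAddMonoidHom ℳ' (DirectSum.map f X) = g (DirectSum.coeAddMonoidHom ℳ X) := by
  induction X using DirectSum.induction_on with
  | zero => simp
  | of i y => rw [DirectSum.map_of, DirectSum.coeAddMonoidHom_of, DirectSum.coeAddMonoidHom_of, hf]
  | add a b ha hb => rw [map_add, map_add, ha, hb, map_add, map_add]

end Transfer

section Quot

variable {ι : Type} [AddCommGroup ι] [DecidableEq ι]
variable {R : Type u} [CommRing R] {σ : Type u} [SetLike σ R] [AddSubgroupClass σ R]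
  (𝒜 : ι → σ) [GradedRing 𝒜]
variable {M : Type u} [AddCommGroup M] [Module R M] (ℳ : ι → AddSubgroup M)
  [DirectSum.Decomposition ℳ] [SetLike.GradedSMul 𝒜 ℳ]
variable {Q : Type u} [AddCommGroup Q] [Module R Q]

/-- image grading -/
def imGr (π : M →ₗ[R] Q) (h : ι) : AddSubgroup Q := (ℳ h).map π.toAddMonoidHom

/-- the restriction of `π` to pieces -/
def imGrHom (π : M →ₗ[R] Q) (h : ι) : ℳ h →+ imGr ℳ π h :=
  (π.toAddMonoidHom.comp (ℳ h).subtype).codRestrict (imGr ℳ π h) (fun y => ⟨y, y.2, rfl⟩)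

omit [AddCommGroup ι] [DecidableEq ι] [DirectSum.Decomposition ℳ] in
theorem imGrHom_coe (π : M →ₗ[R] Q) (h : ι) (y : ℳ h) : ((imGrHom ℳ π h y : imGr ℳ π h) : Q) = π y :=
  rfl

omit [AddCommGroup ι] [DecidableEq ι] [DirectSum.Decomposition ℳ] in
theorem imGrHom_surjective (π : M →ₗ[R] Q) (h : ι) : Function.Surjective (imGrHom ℳ π h) := by
  rintro ⟨q, y, hy, rfl⟩
  exact ⟨⟨y, hy⟩, rfl⟩

omit [AddCommGroup ι] in
theorem imGr_isInternal (π : M →ₗ[R] Q) (hπ : Function.Surjective π)
    (hker : (LinearMap.ker π).IsHomogeneous ℳ) : DirectSum.IsInternal (imGr ℳ π) := by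
  have hcomm := coe_map ℳ (imGr ℳ π) π.toAddMonoidHom (imGrHom ℳ π) (imGrHom_coe ℳ π)
  constructor
  · rw [injective_iff_map_eq_zero]
    intro x hx
    obtain ⟨X, rfl⟩ := (DirectSum.map_surjective (imGrHom ℳ π)).mpr (imGrHom_surjective ℳ π) x
    rw [hcomm] at hx
    have hmem : DirectSum.coeAddMonoidHom ℳ X ∈ LinearMap.ker π := hx
    ext h
    rw [DirectSum.map_apply, DirectSum.zero_apply, imGrHom_coe, ZeroMemClass.coe_zero]
    have h1 := hker h hmem
    have h2 : DirectSum.decompose ℳ (DirectSum.coeAddMonoidHom ℳ X) = X :=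
      (DirectSum.decomposeAddEquiv ℳ).apply_symm_apply X
    rw [h2] at h1
    exact h1
  · intro q
    obtain ⟨m, rfl⟩ := hπ q
    refine ⟨DirectSum.map (imGrHom ℳ π) (DirectSum.decompose ℳ m), ?_⟩
    rw [hcomm]
    have : DirectSum.coeAddMonoidHom ℳ (DirectSum.decompose ℳ m) = m :=
      (DirectSum.decomposeAddEquiv ℳ).symm_apply_apply m
    rw [this]
    rfl

/-- the quotient graded module -/
def quotGMod (π : M →ₗ[R] Q) (hπ : Function.Surjective π)
    (hker : (LinearMap.ker π).IsHomogeneous ℳ) : GrLC.GMod.{u} 𝒜 where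
  carrier := Q
  gr := imGr ℳ π
  dec := (imGr_isInternal ℳ π hπ hker).chooseDecomposition
  gsmul := ⟨by
    rintro d h r q hr ⟨y, hy, rfl⟩
    rw [vadd_eq_add]
    refine ⟨r • y, ?_, ?_⟩
    · have := SetLike.GradedSMul.smul_mem (A := 𝒜) (B := ℳ) hr hy
      rwa [vadd_eq_add] at this
    · exact map_smul π r y⟩

theorem quotGMod_isGrHom (π : M →ₗ[R] Q) (hπ : Function.Surjective π)
    (hker : (LinearMap.ker π).IsHomogeneous ℳ) :
    GrLC.IsGrHom ℳ (quotGMod 𝒜 ℳ π hπ hker).gr π := by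
  intro h m hm
  exact ⟨m, hm, rfl⟩

end Quot

section Sub

variable {ι : Type} [AddCommGroup ι] [DecidableEq ι]
variable {R : Type u} [CommRing R] {σ : Type u} [SetLike σ R] [AddSubgroupClass σ R]
  (𝒜 : ι → σ) [GradedRing 𝒜]
variable {M : Type u} [AddCommGroup M] [Module R M] (ℳ : ι → AddSubgroup M)
  [DirectSum.Decomposition ℳ] [SetLike.GradedSMul 𝒜 ℳ]
variable {N : Type u} [AddCommGroup N] [Module R N]

/-- preimage grading -/
def preGr (j : N →ₗ[R] M) (h : ι) : AddSubgroup N := (ℳ h).comap j.toAddMonoidHom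

/-- the restriction of `j` to pieces -/
def preGrHom (j : N →ₗ[R] M) (h : ι) : preGr ℳ j h →+ ℳ h :=
  (j.toAddMonoidHom.comp (preGr ℳ j h).subtype).codRestrict (ℳ h) (fun y => y.2)

omit [AddCommGroup ι] [DecidableEq ι] [DirectSum.Decomposition ℳ] in
theorem preGrHom_coe (j : N →ₗ[R] M) (h : ι) (y : preGr ℳ j h) :
    ((preGrHom ℳ j h y : ℳ h) : M) = j y := rfl

omit [AddCommGroup ι] [DecidableEq ι] [DirectSum.Decomposition ℳ] in
theorem preGrHom_injective (j : N →ₗ[R] M) (hj : Function.Injective j) (h : ι) :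
    Function.Injective (preGrHom ℳ j h) := by
  intro a b hab
  apply Subtype.ext
  apply hj
  exact congrArg Subtype.val hab

omit [AddCommGroup ι] in
theorem preGr_isInternal (j : N →ₗ[R] M) (hj : Function.Injective j)
    (hrange : (LinearMap.range j).IsHomogeneous ℳ) : DirectSum.IsInternal (preGr ℳ j) := by
  classical
  have hcomm := coe_map (preGr ℳ j) ℳ j.toAddMonoidHom (preGrHom ℳ j) (preGrHom_coe ℳ j)
  constructor
  · rw [injective_iff_map_eq_zero]
    intro x hx
    have h1 : DirectSum.coeAddMonoidHom ℳ (DirectSum.map (preGrHom ℳ j) x) = 0 := by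
      rw [hcomm, hx, map_zero]
    have h2 : DirectSum.map (preGrHom ℳ j) x = 0 := by
      have := (DirectSum.decomposeAddEquiv ℳ).apply_symm_apply (DirectSum.map (preGrHom ℳ j) x)
      rw [← this]
      change DirectSum.decompose ℳ (DirectSum.coeAddMonoidHom ℳ _) = 0
      rw [h1, DirectSum.decompose_zero]
    exact (DirectSum.map_injective (preGrHom ℳ j)).mpr (preGrHom_injective ℳ j hj)
      (h2.trans (map_zero _).symm)
  · intro x
    have hx : ∀ h, ∃ y : N, j y = (DirectSum.decompose ℳ (j x) h : M) :=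
      fun h => hrange h ⟨x, rfl⟩
    choose y hy using hx
    have hymem : ∀ h, y h ∈ preGr ℳ j h := by
      intro h
      change j (y h) ∈ ℳ h
      rw [hy]; exact SetLike.coe_mem _
    refine ⟨∑ h ∈ (DirectSum.decompose ℳ (j x)).support,
      DirectSum.of (fun h => preGr ℳ j h) h ⟨y h, hymem h⟩, ?_⟩
    apply hj
    rw [map_sum]
    have : ∀ h, DirectSum.coeAddMonoidHom (preGr ℳ j)
        (DirectSum.of (fun h => preGr ℳ j h) h ⟨y h, hymem h⟩) = y h := by
      intro h; rw [DirectSum.coeAddMonoidHom_of]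
    simp_rw [this]
    rw [map_sum]
    simp_rw [hy]
    exact DirectSum.sum_support_decompose ℳ (j x)

/-- the graded submodule -/
def subGMod (j : N →ₗ[R] M) (hj : Function.Injective j)
    (hrange : (LinearMap.range j).IsHomogeneous ℳ) : GrLC.GMod.{u} 𝒜 where
  carrier := N
  gr := preGr ℳ j
  dec := (preGr_isInternal ℳ j hj hrange).chooseDecomposition
  gsmul := ⟨by
    intro d h r y hr hy
    rw [vadd_eq_add]
    change j (r • y) ∈ ℳ (d + h)
    rw [map_smul]
    have := SetLike.GradedSMul.smul_mem (A := 𝒜) (B := ℳ) hr hy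
    rwa [vadd_eq_add] at this⟩

theorem subGMod_isGrHom (j : N →ₗ[R] M) (hj : Function.Injective j)
    (hrange : (LinearMap.range j).IsHomogeneous ℳ) :
    GrLC.IsGrHom (subGMod 𝒜 ℳ j hj hrange).gr ℳ j := by
  intro h y hy
  exact hy

end Sub

end Groth.Agent.H98.GrStar

end
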