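import Groth.Agent.H98.GrStar.Summand

set_option autoImplicit false
universe u

/-!
# *indecomposable *injective modules are shifted *injective hulls of `R ⧸ q`
-/

namespace Groth.Agent.H98.GrStar

open DirectSum

variable {ι : Type} [AddCommGroup ι] [DecidableEq ι] [Module.Free ℤ ι] [Module.Finite ℤ ι]
variable {R : Type u} [CommRing R] [IsNoetherianRing R]
  {σ : Type u} [SetLike σ R] [AddSubgroupClass σ R]
  (𝒜 : ι → σ) [GradedRing 𝒜]
variable {I : Type u} [AddCommGroup I] [Module R I] (ℐ : ι → AddSubgroup I)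
  [DirectSum.Decomposition ℐ] [SetLike.GradedSMul 𝒜 ℐ]

omit [Module.Free ℤ ι] [Module.Finite ℤ ι] [IsNoetherianRing R] in
/-- the annihilator of a homogeneous element is a homogeneous ideal -/
theorem annihilator_isHomogeneous {g₀ : ι} {m : I} (hm : m ∈ ℐ g₀) :
    ((Submodule.span R {m}).annihilator).IsHomogeneous 𝒜 := by
  intro d a ha
  rw [Submodule.mem_annihilator_span_singleton] at ha ⊢
  rw [← decompose_smul_of_mem 𝒜 ℐ hm a d, ha]
  simp

/-- a nonzero graded module over a Noetherian graded ring has a homogeneous element whose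
annihilator is a (graded) prime -/
theorem exists_homogeneous_prime_annihilator [Nontrivial I] :
    ∃ (q : HomogeneousIdeal 𝒜) (g₀ : ι) (m : I), q.toIdeal.IsPrime ∧ m ∈ ℐ g₀ ∧ m ≠ 0 ∧
      (Submodule.span R {m}).annihilator = q.toIdeal := by
  classical
  let S : Set (Ideal R) :=
    {J | ∃ (g₀ : ι) (m : I), m ∈ ℐ g₀ ∧ m ≠ 0 ∧ J = (Submodule.span R {m}).annihilator}
  have hS : S.Nonempty := by
    obtain ⟨x, hx⟩ := exists_ne (0 : I)
    have : ∃ i, (DirectSum.decompose ℐ x i : I) ≠ 0 := by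
      by_contra hcon
      push Not at hcon
      exact hx (eq_zero_of_decompose_eq_zero ℐ x hcon)
    obtain ⟨i, hi⟩ := this
    exact ⟨_, i, _, SetLike.coe_mem _, hi, rfl⟩
  obtain ⟨J, ⟨g₀, m, hm, hm0, rfl⟩, hmax⟩ :=
    (set_has_maximal_iff_noetherian (R := R) (M := R)).mpr inferInstance S hS
  have hJh := annihilator_isHomogeneous 𝒜 ℐ hm
  have hne : (Submodule.span R {m}).annihilator ≠ ⊤ := by
    intro h
    apply hm0
    have : (1 : R) ∈ (Submodule.span R {m}).annihilator := by rw [h]; exact Submodule.mem_top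
    rw [Submodule.mem_annihilator_span_singleton, one_smul] at this
    exact this
  have hprime : ((Submodule.span R {m}).annihilator).IsPrime := by
    apply isPrime_of_homogeneous 𝒜 _ hJh hne
    intro a b ha hb hab
    by_contra hcon
    rw [not_or] at hcon
    obtain ⟨d, hd⟩ := hb
    have hbm : b • m ≠ 0 := by
      intro h0
      exact hcon.2 ((Submodule.mem_annihilator_span_singleton m b).mpr h0)
    have hbmem : b • m ∈ ℐ (d + g₀) := by
      have := SetLike.GradedSMul.smul_mem (A := 𝒜) (B := ℐ) hd hm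
      rwa [vadd_eq_add] at this
    have hle : (Submodule.span R {m}).annihilator ≤ (Submodule.span R {b • m}).annihilator := by
      intro r hr
      rw [Submodule.mem_annihilator_span_singleton] at hr ⊢
      rw [smul_comm, hr, smul_zero]
    have hmem : (Submodule.span R {b • m}).annihilator ∈ S := ⟨_, _, hbmem, hbm, rfl⟩
    have heq : (Submodule.span R {m}).annihilator = (Submodule.span R {b • m}).annihilator := by
      by_contra hneq
      exact hmax _ hmem (lt_of_le_of_ne hle hneq)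
    apply hcon.1
    rw [heq, Submodule.mem_annihilator_span_singleton, smul_smul]
    exact (Submodule.mem_annihilator_span_singleton m (a * b)).mp hab
  exact ⟨⟨_, hJh⟩, g₀, m, hprime, hm, hm0, rfl⟩

/-- S13222 -/
theorem exists_hull_of_indec (hI : GrLC.IsStarInj 𝒜 ℐ) (hind : GrLC.IsStarIndec R ℐ) :
    ∃ (q : HomogeneousIdeal 𝒜) (g₀ : ι) (f : (R ⧸ q.toIdeal) →ₗ[R] I), q.toIdeal.IsPrime ∧
      GrLC.IsStarInjHull 𝒜 (fun j : ι => GrLC.quotGr 𝒜 q (j - g₀)) ℐ f := by
  have := hind.1
  obtain ⟨q, g₀, m, hq, hm, hm0, hann⟩ := exists_homogeneous_prime_annihilator 𝒜 ℐ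
  obtain ⟨X, f, ψ, Q, hf, hψinj, hψ, hψm, hQ, hcompl⟩ := exists_summand 𝒜 ℐ hI q g₀ m hm hann
  have hrange := range_isHomogeneous X.gr ℐ ψ hψ
  have hQbot : Q = ⊥ := by
    rcases hind.2 _ _ hrange hQ hcompl with h | h
    · exfalso
      apply hm0
      have : m ∈ LinearMap.range ψ := ⟨f 1, hψm⟩
      rw [h] at this
      exact (Submodule.mem_bot R).mp this
    · exact h
  have hψsurj : Function.Surjective ψ := by
    rw [← LinearMap.range_eq_top]
    have := hcompl.sup_eq_top
    rwa [hQbot, sup_bot_eq] at this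
  refine ⟨q, g₀, ψ ∘ₗ f, hq, ⟨⟨hψinj.comp hf.injective, ?_, ?_⟩, hI⟩⟩
  · intro j y hy
    exact hψ j _ (hf.grHom j y hy)
  · intro P hP hPne
    have hP'h := comap_isHomogeneous X.gr ℐ ψ hψ P hP
    have hP'ne : P.comap ψ ≠ ⊥ := by
      intro h0
      obtain ⟨x, hxP, hx0⟩ := (Submodule.ne_bot_iff P).mp hPne
      obtain ⟨y, rfl⟩ := hψsurj x
      have : y ∈ P.comap ψ := hxP
      rw [h0, Submodule.mem_bot] at this
      apply hx0
      rw [this, map_zero]
    obtain ⟨x, ⟨hxP, s, hsx⟩, hx0⟩ := (Submodule.ne_bot_iff _).mp (hf.essential _ hP'h hP'ne)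
    rw [Submodule.ne_bot_iff]
    refine ⟨ψ x, ⟨hxP, s, ?_⟩, ?_⟩
    · change ψ (f s) = ψ x
      rw [hsx]
    · intro h0
      apply hx0
      exact hψinj (h0.trans (map_zero ψ).symm)

end Groth.Agent.H98.GrStar
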