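import Groth.Agent.H98.GrStar.PrimeHull
import Mathlib.Algebra.Order.Group.PiLex
import Mathlib.Algebra.Order.Monoid.Basic
import Mathlib.LinearAlgebra.FreeModule.Finite.Basic
import Mathlib.LinearAlgebra.Basis.Basic
import Mathlib.RingTheory.GradedAlgebra.Radical

set_option autoImplicit false
universe u

/-!
# *indecomposable *injective modules are shifted *injective hulls of `R ⧸ q`
-/

namespace Groth.Agent.H98.GrStar

open DirectSum

section Factor

variable {R : Type*} [CommRing R] {A B C : Type*} [AddCommGroup A] [Module R A]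
  [AddCommGroup B] [Module R B] [AddCommGroup C] [Module R C]

/-- factoring a map through an injective map containing its range -/
theorem exists_factor (j : B →ₗ[R] C) (hj : Function.Injective j) (μ : A →ₗ[R] C)
    (h : LinearMap.range μ ≤ LinearMap.range j) : ∃ μ' : A →ₗ[R] B, j ∘ₗ μ' = μ := by
  have hmem : ∀ a, μ a ∈ LinearMap.range j := fun a => h ⟨a, rfl⟩
  refine ⟨(LinearEquiv.ofInjective j hj).symm.toLinearMap ∘ₗ
    (μ.codRestrict (LinearMap.range j) hmem), ?_⟩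
  ext a
  have := (LinearEquiv.ofInjective j hj).apply_symm_apply (μ.codRestrict (LinearMap.range j) hmem a)
  exact congrArg Subtype.val this

end Factor

section Prime

variable {ι : Type} [AddCommGroup ι] [DecidableEq ι] [Module.Free ℤ ι] [Module.Finite ℤ ι]
variable {R : Type u} [CommRing R] {σ : Type u} [SetLike σ R] [AddSubgroupClass σ R]
  (𝒜 : ι → σ) [GradedRing 𝒜]

/-- over a finitely generated free grading group, primality of a homogeneous ideal can be
tested on homogeneous elements -/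
theorem isPrime_of_homogeneous (I : Ideal R) (hI : I.IsHomogeneous 𝒜) (hne : I ≠ ⊤)
    (h : ∀ {x y : R}, SetLike.IsHomogeneousElem 𝒜 x → SetLike.IsHomogeneousElem 𝒜 y →
      x * y ∈ I → x ∈ I ∨ y ∈ I) : I.IsPrime := by
  rename_i instAdd instDec instFree instFin instR instS instSub instGr
  let b := Module.Free.chooseBasis ℤ ι
  let n := Fintype.card (Module.Free.ChooseBasisIndex ℤ ι)
  let e0 : ι ≃ₗ[ℤ] (Fin n → ℤ) :=
    b.equivFun.trans (LinearEquiv.funCongrLeft ℤ ℤ
      (Fintype.equivFin (Module.Free.ChooseBasisIndex ℤ ι)).symm)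
  let φ : ι → Lex (Fin n → ℤ) := fun x => toLex (e0 x)
  have hφ : Function.Injective φ := fun x y h => e0.injective (toLex.injective h)
  let lo : LinearOrder ι := LinearOrder.lift' φ hφ
  have hadd : ∀ x y, φ (x + y) = φ x + φ y := fun x y => by
    show toLex (e0 (x + y)) = toLex (e0 x) + toLex (e0 y)
    rw [map_add]; rfl
  have : IsOrderedCancelAddMonoid ι :=
    Function.Injective.isOrderedCancelAddMonoid φ hadd Iff.rfl
  obtain rfl : instDec = lo.toDecidableEq := Subsingleton.elim _ _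
  exact Ideal.IsHomogeneous.isPrime_of_homogeneous_mem_or_mem (𝒜 := 𝒜) hI hne h

end Prime

section Summand

variable {ι : Type} [AddCommGroup ι] [DecidableEq ι]
variable {R : Type u} [CommRing R] {σ : Type u} [SetLike σ R] [AddSubgroupClass σ R]
  (𝒜 : ι → σ) [GradedRing 𝒜]
variable {I : Type u} [AddCommGroup I] [Module R I] (ℐ : ι → AddSubgroup I)
  [DirectSum.Decomposition ℐ] [SetLike.GradedSMul 𝒜 ℐ]

/-- S13223 -/
theorem exists_summand (hI : GrLC.IsStarInj 𝒜 ℐ) (q : HomogeneousIdeal 𝒜) (g₀ : ι) (m : I)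
    (hm : m ∈ ℐ g₀) (hann : (Submodule.span R {m}).annihilator = q.toIdeal) :
    ∃ (X : GrLC.GMod.{u} 𝒜) (f : (R ⧸ q.toIdeal) →ₗ[R] X.carrier) (ψ : X.carrier →ₗ[R] I)
      (Q : Submodule R I),
      GrLC.IsStarInjHull 𝒜 (fun j : ι => GrLC.quotGr 𝒜 q (j - g₀)) X.gr f ∧
        Function.Injective ψ ∧ GrLC.IsGrHom X.gr ℐ ψ ∧ ψ (f 1) = m ∧ Q.IsHomogeneous ℐ ∧
        IsCompl (LinearMap.range ψ) Q := by
  have hker : LinearMap.ker (LinearMap.toSpanSingleton R I m) = q.toIdeal := by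
    ext r
    rw [← hann, Submodule.mem_annihilator_span_singleton, LinearMap.mem_ker,
      LinearMap.toSpanSingleton_apply]
  let μ : (R ⧸ q.toIdeal) →ₗ[R] I :=
    Submodule.liftQ q.toIdeal (LinearMap.toSpanSingleton R I m) (le_of_eq hker.symm)
  have hμ : ∀ s : R, μ (Ideal.Quotient.mk q.toIdeal s) = s • m := fun s => rfl
  have hμinj : Function.Injective μ := by
    rw [← LinearMap.ker_eq_bot]
    exact Submodule.ker_liftQ_eq_bot _ _ _ (le_of_eq hker)
  have hμgr : ∀ (j : ι) (y : R ⧸ q.toIdeal), y ∈ GrLC.quotGr 𝒜 q (j - g₀) → μ y ∈ ℐ j := by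
    rintro j y ⟨s, hs, rfl⟩
    have h1 : μ (Ideal.Quotient.mk q.toIdeal s) = s • m := hμ s
    have h2 := SetLike.GradedSMul.smul_mem (A := 𝒜) (B := ℐ) hs hm
    rw [vadd_eq_add, sub_add_cancel] at h2
    change μ (Ideal.Quotient.mk q.toIdeal s) ∈ ℐ j
    rw [h1]
    exact h2
  have hrange : LinearMap.range μ = Submodule.span R {m} := by
    rw [Submodule.range_liftQ, LinearMap.range_toSpanSingleton]
  have hhom : (LinearMap.range μ).IsHomogeneous ℐ := by
    rw [hrange]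
    exact span_singleton_isHomogeneous 𝒜 ℐ hm
  obtain ⟨S, jS, hjS, hjSinj, hjSrange, hjSgr⟩ := exists_sub 𝒜 ℐ (LinearMap.range μ) hhom
  obtain ⟨μ', hμ'⟩ := exists_factor jS hjSinj μ (le_of_eq hjSrange.symm)
  have hμ'app : ∀ y, jS (μ' y) = μ y := fun y => LinearMap.congr_fun hμ' y
  have hμ'inj : Function.Injective μ' := by
    intro a b hab
    apply hμinj
    rw [← hμ'app, ← hμ'app, hab]
  have hμ'surj : Function.Surjective μ' := by
    intro z
    have : jS z ∈ LinearMap.range μ := by rw [← hjSrange]; exact ⟨z, rfl⟩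
    obtain ⟨y, hy⟩ := this
    refine ⟨y, ?_⟩
    apply hjSinj
    rw [hμ'app, hy]
  obtain ⟨X, f₀, hf₀⟩ := exists_isStarInjHull 𝒜 S.gr
  obtain ⟨ψ, hψ, hψf⟩ := hI S X f₀ hf₀.grHom hf₀.injective jS hjS
  have hψinj : Function.Injective ψ := by
    apply injective_of_comp_injective S.gr X.gr ℐ f₀ hf₀.toIsStarEss ψ hψ
    rw [hψf]
    exact hjSinj
  obtain ⟨ρ, hρ, hρψ⟩ : ∃ ρ : I →ₗ[R] X.carrier, GrLC.IsGrHom ℐ X.gr ρ ∧ ρ ∘ₗ ψ = LinearMap.id :=
    hf₀.starInj X (GrLC.GMod.of 𝒜 I ℐ) ψ hψ hψinj LinearMap.id (fun _ _ h => h)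
  have hρψ' : ∀ x, ρ (ψ x) = x := fun x => LinearMap.congr_fun hρψ x
  refine ⟨X, f₀ ∘ₗ μ', ψ, LinearMap.ker ρ, ⟨⟨?_, ?_, ?_⟩, hf₀.starInj⟩, hψinj, hψ, ?_,
    ker_isHomogeneous ℐ X.gr ρ hρ, ?_⟩
  · exact hf₀.injective.comp hμ'inj
  · intro j y hy
    apply hf₀.grHom
    rw [hjSgr, hμ'app]
    exact hμgr j y hy
  · intro P hP hPne
    have := hf₀.essential P hP hPne
    intro h0
    apply this
    rw [eq_bot_iff, ← h0]
    apply inf_le_inf_left
    rintro _ ⟨z, rfl⟩
    obtain ⟨y, rfl⟩ := hμ'surj z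
    exact ⟨y, rfl⟩
  · change ψ (f₀ (μ' 1)) = m
    have h1 : ψ (f₀ (μ' 1)) = jS (μ' 1) := LinearMap.congr_fun hψf (μ' 1)
    rw [h1, hμ'app]
    have h2 : μ (Ideal.Quotient.mk q.toIdeal 1) = (1 : R) • m := hμ 1
    rw [one_smul] at h2
    exact h2
  · constructor
    · rw [Submodule.disjoint_def]
      rintro x ⟨y, rfl⟩ hx
      rw [LinearMap.mem_ker, hρψ'] at hx
      rw [hx, map_zero]
    · rw [Submodule.codisjoint_iff_exists_add_eq]
      intro z
      refine ⟨ψ (ρ z), z - ψ (ρ z), ⟨ρ z, rfl⟩, ?_, by abel⟩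
      rw [LinearMap.mem_ker, map_sub, hρψ', sub_self]

end Summand

end Groth.Agent.H98.GrStar
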