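import Groth.Agent.H98.GrStar.LCAcyc
import Groth.Agent.H98.LCRes.Acyclic

set_option autoImplicit false
universe u

/-!
# Graded local cohomology from a *injective resolution is ordinary local cohomology
-/

namespace Groth.Agent.H98.GrStar

open DirectSum CategoryTheory Groth.Agent.H98.LCRes

variable {ι : Type} [AddCommGroup ι] [DecidableEq ι]
variable {R : Type u} [CommRing R] [IsNoetherianRing R]
  {σ : Type u} [SetLike σ R] [AddSubgroupClass σ R]
  {𝒜 : ι → σ} [GradedRing 𝒜]
variable {M : Type u} [AddCommGroup M] [Module R M] {ℳ : ι → AddSubgroup M}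
  [DirectSum.Decomposition ℳ] [SetLike.GradedSMul 𝒜 ℳ]

/-- a *injective resolution is a resolution by `Γ_a`-acyclic modules -/
def toAcycRes (E : GrLC.StarInjRes 𝒜 ℳ) (a : HomogeneousIdeal 𝒜) : AcycRes a.toIdeal M where
  X n := (E.X n).carrier
  d := E.d
  ε := E.ε
  ε_injective := E.ε_injective
  exact_zero := E.exact_zero
  exact_succ := E.exact_succ
  acyclic n j := locCoh_subsingleton_of_isStarInj 𝒜 (E.X n).gr a (E.starInj n) (j + 1) (by omega)

theorem toAcycRes_H (E : GrLC.StarInjRes 𝒜 ℳ) (a : HomogeneousIdeal 𝒜) (i : ℕ) :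
    (toAcycRes E a).H i = E.H a i := by
  cases i <;> rfl

/-- `*H^i_a(M)` computed from a *injective resolution is `H^i_a(M)` -/
theorem nonempty_H_equiv_locCoh (E : GrLC.StarInjRes 𝒜 ℳ) (a : HomogeneousIdeal 𝒜) (i : ℕ) :
    Nonempty (E.H a i ≃ₗ[R] LocCoh.H a.toIdeal i M) := by
  cases i with
  | zero => exact (toAcycRes E a).nonempty_equiv a.toIdeal 0
  | succ k => exact (toAcycRes E a).nonempty_equiv a.toIdeal (k + 1)

end Groth.Agent.H98.GrStar
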