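import Groth.Agent.H98.GrStar.SubQuot
import Groth.Agent.H98.GrStar.Hull1

set_option autoImplicit false
universe u

/-!
# Lifting homogeneous maps to *injective resolutions
-/

namespace Groth.Agent.H98.GrStar

open DirectSum

variable {ι : Type} [AddCommGroup ι] [DecidableEq ι]
variable {R : Type u} [CommRing R] {σ : Type u} [SetLike σ R] [AddSubgroupClass σ R]
  (𝒜 : ι → σ) [GradedRing 𝒜]

section Desc

variable {A B C : Type u} [AddCommGroup A] [Module R A] [AddCommGroup B] [Module R B]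
  [AddCommGroup C] [Module R C]
  (𝒜A : ι → AddSubgroup A) [DirectSum.Decomposition 𝒜A]
  (ℬ : ι → AddSubgroup B) [DirectSum.Decomposition ℬ] (𝒞 : ι → AddSubgroup C)

/-- a homogeneous map factors through a homogeneous surjection killing less -/
theorem exists_desc (v : A →ₗ[R] B) (hv : GrLC.IsGrHom 𝒜A ℬ v) (hsurj : Function.Surjective v)
    (g : A →ₗ[R] C) (hg : GrLC.IsGrHom 𝒜A 𝒞 g) (hker : LinearMap.ker v ≤ LinearMap.ker g) :
    ∃ τ : B →ₗ[R] C, GrLC.IsGrHom ℬ 𝒞 τ ∧ τ ∘ₗ v = g := by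
  let τ : B →ₗ[R] C :=
    (LinearMap.ker v).liftQ g hker ∘ₗ (v.quotKerEquivOfSurjective hsurj).symm.toLinearMap
  have hτ : ∀ a, τ (v a) = g a := by
    intro a
    have h1 : (v.quotKerEquivOfSurjective hsurj).symm (v a) = Submodule.Quotient.mk a := by
      rw [LinearEquiv.symm_apply_eq]
      rfl
    change (LinearMap.ker v).liftQ g hker ((v.quotKerEquivOfSurjective hsurj).symm (v a)) = g a
    rw [h1]
    rfl
  refine ⟨τ, ?_, LinearMap.ext hτ⟩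
  intro i y hy
  obtain ⟨a, rfl⟩ := hsurj y
  have h2 : v (DirectSum.decompose 𝒜A a i : A) = v a := by
    rw [← decompose_grHom 𝒜A ℬ v hv a i, DirectSum.decompose_of_mem_same ℬ hy]
  rw [← h2, hτ]
  exact hg i _ (SetLike.coe_mem _)

end Desc

section Ext

variable {I : Type u} [AddCommGroup I] [Module R I] (ℐ : ι → AddSubgroup I)
  [DirectSum.Decomposition ℐ] [SetLike.GradedSMul 𝒜 ℐ]

/-- extension along a homogeneous map, given the kernel condition -/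
theorem exists_ext_of_ker_le (hI : GrLC.IsStarInj 𝒜 ℐ) (A B : GrLC.GMod.{u} 𝒜)
    (u : A.carrier →ₗ[R] B.carrier) (hu : GrLC.IsGrHom A.gr B.gr u)
    (g : A.carrier →ₗ[R] I) (hg : GrLC.IsGrHom A.gr ℐ g)
    (hker : LinearMap.ker u ≤ LinearMap.ker g) :
    ∃ h : B.carrier →ₗ[R] I, GrLC.IsGrHom B.gr ℐ h ∧ h ∘ₗ u = g := by
  have hrange : (LinearMap.range (LinearMap.range u).subtype).IsHomogeneous B.gr := by
    rw [Submodule.range_subtype]
    exact range_isHomogeneous A.gr B.gr u hu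
  let Pg : GrLC.GMod.{u} 𝒜 := subGMod 𝒜 B.gr (LinearMap.range u).subtype
    (Submodule.injective_subtype _) hrange
  have hu' : GrLC.IsGrHom A.gr Pg.gr u.rangeRestrict := fun i a ha => hu i a ha
  have hker' : LinearMap.ker u.rangeRestrict ≤ LinearMap.ker g := by
    rw [LinearMap.ker_rangeRestrict]
    exact hker
  obtain ⟨τ, hτ, hτu⟩ := exists_desc A.gr Pg.gr ℐ u.rangeRestrict hu'
    u.surjective_rangeRestrict g hg hker'
  obtain ⟨h, hh, hhτ⟩ := hI Pg B (LinearMap.range u).subtype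
    (subGMod_isGrHom 𝒜 B.gr _ _ hrange) (Submodule.injective_subtype _) τ hτ
  refine ⟨h, hh, ?_⟩
  rw [← hτu, ← hhτ]
  rfl

end Ext

section Lift

variable {M : Type u} [AddCommGroup M] [Module R M] {ℳ : ι → AddSubgroup M}
  [DirectSum.Decomposition ℳ] [SetLike.GradedSMul 𝒜 ℳ]
variable {N : Type u} [AddCommGroup N] [Module R N] {𝒩 : ι → AddSubgroup N}
  [DirectSum.Decomposition 𝒩] [SetLike.GradedSMul 𝒜 𝒩]

variable {𝒜}

/-- the invariant of the lifting recursion -/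
def LiftInv (E : GrLC.StarInjRes 𝒜 ℳ) (F : GrLC.StarInjRes 𝒜 𝒩) (n : ℕ)
    (φ : (E.X n).carrier →ₗ[R] (F.X n).carrier) : Prop :=
  GrLC.IsGrHom (E.X n).gr (F.X n).gr φ ∧ LinearMap.ker (E.d n) ≤ LinearMap.ker (F.d n ∘ₗ φ)

theorem StarInjRes.d_comp_d (F : GrLC.StarInjRes 𝒜 𝒩) (n : ℕ) (x : (F.X n).carrier) :
    F.d (n + 1) (F.d n x) = 0 := by
  have : F.d n x ∈ LinearMap.ker (F.d (n + 1)) := by
    rw [F.exact_succ n]; exact ⟨x, rfl⟩
  exact this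

theorem StarInjRes.d_comp_ε (F : GrLC.StarInjRes 𝒜 𝒩) (x : N) : F.d 0 (F.ε x) = 0 := by
  have : F.ε x ∈ LinearMap.ker (F.d 0) := by
    rw [F.exact_zero]; exact ⟨x, rfl⟩
  exact this

theorem exists_lift_zero (E : GrLC.StarInjRes 𝒜 ℳ) (F : GrLC.StarInjRes 𝒜 𝒩) (f : M →ₗ[R] N)
    (hf : GrLC.IsGrHom ℳ 𝒩 f) :
    ∃ φ : (E.X 0).carrier →ₗ[R] (F.X 0).carrier, LiftInv E F 0 φ ∧ ∀ m, φ (E.ε m) = F.ε (f m) := by
  obtain ⟨φ, hφ, hφε⟩ := exists_ext_of_ker_le 𝒜 (F.X 0).gr (F.starInj 0) (GrLC.GMod.of 𝒜 M ℳ) (E.X 0)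
    E.ε E.ε_grHom (F.ε ∘ₗ f) (fun i m hm => F.ε_grHom i _ (hf i m hm)) (by
      intro x hx
      have hx0 : E.ε x = 0 := hx
      have hx1 : x = 0 := E.ε_injective (hx0.trans (map_zero E.ε).symm)
      rw [hx1]
      exact Submodule.zero_mem _)
  have hcomm : ∀ m, φ (E.ε m) = F.ε (f m) := fun m => LinearMap.congr_fun hφε m
  refine ⟨φ, ⟨hφ, ?_⟩, hcomm⟩
  rw [E.exact_zero]
  rintro _ ⟨m, rfl⟩
  change F.d 0 (φ (E.ε m)) = 0
  rw [hcomm, StarInjRes.d_comp_ε]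

theorem exists_lift_succ (E : GrLC.StarInjRes 𝒜 ℳ) (F : GrLC.StarInjRes 𝒜 𝒩) (n : ℕ)
    (φ : (E.X n).carrier →ₗ[R] (F.X n).carrier) (hφ : LiftInv E F n φ) :
    ∃ ψ : (E.X (n + 1)).carrier →ₗ[R] (F.X (n + 1)).carrier,
      LiftInv E F (n + 1) ψ ∧ ∀ x, ψ (E.d n x) = F.d n (φ x) := by
  obtain ⟨ψ, hψ, hψd⟩ := exists_ext_of_ker_le 𝒜 (F.X (n + 1)).gr (F.starInj (n + 1)) (E.X n)
    (E.X (n + 1)) (E.d n) (E.d_grHom n) (F.d n ∘ₗ φ)
    (fun i x hx => F.d_grHom n i _ (hφ.1 i x hx)) hφ.2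
  have hcomm : ∀ x, ψ (E.d n x) = F.d n (φ x) := fun x => LinearMap.congr_fun hψd x
  refine ⟨ψ, ⟨hψ, ?_⟩, hcomm⟩
  rw [E.exact_succ n]
  rintro _ ⟨x, rfl⟩
  change F.d (n + 1) (ψ (E.d n x)) = 0
  rw [hcomm, StarInjRes.d_comp_d]

/-- the sequence of lifts -/
noncomputable def liftSeq (E : GrLC.StarInjRes 𝒜 ℳ) (F : GrLC.StarInjRes 𝒜 𝒩) (f : M →ₗ[R] N)
    (hf : GrLC.IsGrHom ℳ 𝒩 f) :
    ∀ n : ℕ, {φ : (E.X n).carrier →ₗ[R] (F.X n).carrier // LiftInv E F n φ}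
  | 0 => ⟨(exists_lift_zero E F f hf).choose, (exists_lift_zero E F f hf).choose_spec.1⟩
  | n + 1 => ⟨(exists_lift_succ E F n (liftSeq E F f hf n).1 (liftSeq E F f hf n).2).choose,
      (exists_lift_succ E F n (liftSeq E F f hf n).1 (liftSeq E F f hf n).2).choose_spec.1⟩

/-- **Lifting lemma**: a homogeneous map lifts to a homogeneous map of *injective resolutions -/
theorem exists_lift (E : GrLC.StarInjRes 𝒜 ℳ) (F : GrLC.StarInjRes 𝒜 𝒩) (f : M →ₗ[R] N)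
    (hf : GrLC.IsGrHom ℳ 𝒩 f) :
    ∃ φ : ∀ n, (E.X n).carrier →ₗ[R] (F.X n).carrier,
      (∀ n, GrLC.IsGrHom (E.X n).gr (F.X n).gr (φ n)) ∧ (∀ m, φ 0 (E.ε m) = F.ε (f m)) ∧
        ∀ n x, φ (n + 1) (E.d n x) = F.d n (φ n x) :=
  ⟨fun n => (liftSeq E F f hf n).1, fun n => (liftSeq E F f hf n).2.1,
    (exists_lift_zero E F f hf).choose_spec.2,
    fun n => (exists_lift_succ E F n (liftSeq E F f hf n).1 (liftSeq E F f hf n).2).choose_spec.2⟩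

end Lift

end Groth.Agent.H98.GrStar
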