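import Groth.Agent.H98.GrStar.Hull2

set_option autoImplicit false
universe u

/-!
# Shifts of graded modules
-/

noncomputable section

namespace Groth.Agent.H98.GrStar

open DirectSum

section ShiftGr

variable {ι : Type} [AddCommGroup ι] [DecidableEq ι]
variable {M : Type*} [AddCommGroup M] (ℳ : ι → AddSubgroup M) (g : ι)

/-- the shifted family of pieces `k ↦ ℳ (k - g)` -/
def shiftGr : ι → AddSubgroup M := fun k => ℳ (k - g)

omit [DecidableEq ι] in
theorem mem_shiftGr {k : ι} {x : M} : x ∈ shiftGr ℳ g k ↔ x ∈ ℳ (k - g) := Iff.rfl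

/-- reading a family of shifted components as a family of components -/
def unshift : (⨁ k, shiftGr ℳ g k) →+ ⨁ i, ℳ i :=
  DirectSum.toAddMonoid (fun k => (DirectSum.of (fun i => ℳ i) (k - g) : ℳ (k - g) →+ ⨁ i, ℳ i))

theorem unshift_of (k : ι) (y : shiftGr ℳ g k) :
    unshift ℳ g (DirectSum.of (fun k => shiftGr ℳ g k) k y) =
      DirectSum.of (fun i => ℳ i) (k - g) (y : ℳ (k - g)) := by
  unfold unshift
  exact DirectSum.toAddMonoid_of
    (fun k => (DirectSum.of (fun i => ℳ i) (k - g) : ℳ (k - g) →+ ⨁ i, ℳ i)) k y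

theorem coe_unshift (X : ⨁ k, shiftGr ℳ g k) :
    DirectSum.coeAddMonoidHom ℳ (unshift ℳ g X) = DirectSum.coeAddMonoidHom (shiftGr ℳ g) X := by
  induction X using DirectSum.induction_on with
  | zero => simp
  | of k y =>
    rw [unshift_of, DirectSum.coeAddMonoidHom_of, DirectSum.coeAddMonoidHom_of]
  | add a b ha hb => rw [map_add, map_add, ha, hb, map_add]

theorem unshift_apply (X : ⨁ k, shiftGr ℳ g k) (k : ι) :
    ((unshift ℳ g X (k - g) : ℳ (k - g)) : M) = (X k : M) := by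
  induction X using DirectSum.induction_on with
  | zero => simp
  | of k' y =>
    rw [unshift_of]
    by_cases h : k' = k
    · subst h
      rw [DirectSum.of_eq_same, DirectSum.of_eq_same]
    · have hne : k' - g ≠ k - g := fun h' => h (sub_left_injective h')
      rw [DirectSum.of_eq_of_ne _ _ _ (Ne.symm hne), DirectSum.of_eq_of_ne _ _ _ (Ne.symm h)]
      simp
  | add a b ha hb =>
    rw [map_add, DirectSum.add_apply, DirectSum.add_apply, AddSubgroup.coe_add, AddSubgroup.coe_add,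
      ha, hb]

theorem shiftGr_isInternal [DirectSum.Decomposition ℳ] : DirectSum.IsInternal (shiftGr ℳ g) := by
  classical
  constructor
  · rw [injective_iff_map_eq_zero]
    intro X hX
    have h1 : DirectSum.coeAddMonoidHom ℳ (unshift ℳ g X) = 0 := by rw [coe_unshift, hX]
    have h2 : unshift ℳ g X = 0 := by
      have := (DirectSum.decomposeAddEquiv ℳ).apply_symm_apply (unshift ℳ g X)
      rw [← this]
      change DirectSum.decompose ℳ (DirectSum.coeAddMonoidHom ℳ _) = 0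
      rw [h1, DirectSum.decompose_zero]
    ext k
    rw [← unshift_apply, h2]
    simp
  · intro x
    have hmem : ∀ i, (DirectSum.decompose ℳ x i : M) ∈ shiftGr ℳ g (i + g) := by
      intro i
      rw [mem_shiftGr, add_sub_cancel_right]
      exact SetLike.coe_mem _
    refine ⟨∑ i ∈ (DirectSum.decompose ℳ x).support,
      DirectSum.of (fun k => shiftGr ℳ g k) (i + g) ⟨(DirectSum.decompose ℳ x i : M), hmem i⟩, ?_⟩
    rw [map_sum]
    simp_rw [DirectSum.coeAddMonoidHom_of]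
    exact DirectSum.sum_support_decompose ℳ x

end ShiftGr

section ShiftMod

variable {ι : Type} [AddCommGroup ι] [DecidableEq ι]
variable {R : Type u} [CommRing R] {σ : Type u} [SetLike σ R] [AddSubgroupClass σ R]
  (𝒜 : ι → σ) [GradedRing 𝒜]

/-- the shifted graded module `X(-g)`: same carrier, pieces `k ↦ X_{k-g}` -/
def shiftGMod (X : GrLC.GMod.{u} 𝒜) (g : ι) : GrLC.GMod.{u} 𝒜 where
  carrier := X.carrier
  gr := shiftGr X.gr g
  dec := (shiftGr_isInternal X.gr g).chooseDecomposition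
  gsmul := ⟨by
    intro d k r y hr hy
    rw [vadd_eq_add, mem_shiftGr, add_sub_assoc]
    have := SetLike.GradedSMul.smul_mem (A := 𝒜) (B := X.gr) hr hy
    rwa [vadd_eq_add] at this⟩

theorem exists_shift (X : GrLC.GMod.{u} 𝒜) (g : ι) :
    ∃ (Y : GrLC.GMod.{u} 𝒜) (e : Y.carrier ≃ₗ[R] X.carrier),
      ∀ k y, y ∈ Y.gr k ↔ e y ∈ X.gr (k - g) :=
  ⟨shiftGMod 𝒜 X g, LinearEquiv.refl R X.carrier, fun _ _ => Iff.rfl⟩

variable {M : Type u} [AddCommGroup M] [Module R M] (ℳ : ι → AddSubgroup M)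
  [DirectSum.Decomposition ℳ] [SetLike.GradedSMul 𝒜 ℳ]

theorem exists_shift' (g : ι) :
    ∃ (Y : GrLC.GMod.{u} 𝒜) (e : Y.carrier ≃ₗ[R] M),
      ∀ k y, y ∈ Y.gr k ↔ e y ∈ ℳ (k - g) :=
  exists_shift 𝒜 (GrLC.GMod.of 𝒜 M ℳ) g

/-- *injectivity transfers along degree-shifting isomorphisms -/
theorem isStarInj_of_shift_equiv (hM : GrLC.IsStarInj 𝒜 ℳ) (Y : GrLC.GMod.{u} 𝒜) (g : ι)
    (e : Y.carrier ≃ₗ[R] M) (he : ∀ k y, y ∈ Y.gr k ↔ e y ∈ ℳ (k - g)) :
    GrLC.IsStarInj 𝒜 Y.gr := by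
  intro A B f hf hfinj φ hφ
  obtain ⟨A', eA, hA'⟩ := exists_shift 𝒜 A (-g)
  obtain ⟨B', eB, hB'⟩ := exists_shift 𝒜 B (-g)
  let f' : A'.carrier →ₗ[R] B'.carrier := eB.symm.toLinearMap ∘ₗ f ∘ₗ eA.toLinearMap
  have hf' : GrLC.IsGrHom A'.gr B'.gr f' := by
    intro k a ha
    rw [hB']
    change eB (eB.symm (f (eA a))) ∈ _
    rw [eB.apply_symm_apply]
    exact hf _ _ ((hA' k a).mp ha)
  have hf'inj : Function.Injective f' := by
    intro a b hab
    apply eA.injective
    apply hfinj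
    exact eB.symm.injective hab
  let φ' : A'.carrier →ₗ[R] M := e.toLinearMap ∘ₗ φ ∘ₗ eA.toLinearMap
  have hφ' : GrLC.IsGrHom A'.gr ℳ φ' := by
    intro k a ha
    have h1 : eA a ∈ A.gr (k - -g) := (hA' k a).mp ha
    have h2 : φ (eA a) ∈ Y.gr (k - -g) := hφ _ _ h1
    have h3 := (he _ _).mp h2
    rw [sub_neg_eq_add, add_sub_cancel_right] at h3
    exact h3
  obtain ⟨h, hh, hhf⟩ := hM A' B' f' hf' hf'inj φ' hφ'
  refine ⟨e.symm.toLinearMap ∘ₗ h ∘ₗ eB.symm.toLinearMap, ?_, ?_⟩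
  · intro k b hb
    rw [he]
    change e (e.symm (h (eB.symm b))) ∈ _
    rw [e.apply_symm_apply]
    apply hh
    rw [hB', eB.apply_symm_apply, sub_neg_eq_add, sub_add_cancel]
    exact hb
  · ext a
    have := LinearMap.congr_fun hhf (eA.symm a)
    change h (eB.symm (f (eA (eA.symm a)))) = e (φ (eA (eA.symm a))) at this
    rw [eA.apply_symm_apply] at this
    change e.symm (h (eB.symm (f a))) = φ a
    rw [this, e.symm_apply_apply]

end ShiftMod

end Groth.Agent.H98.GrStar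

end
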