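import Groth.Agent.H98.GrStar.GrLES2
import Groth.Agent.H98.GrStar.Shift

set_option autoImplicit false
set_option linter.unusedSectionVars false
universe u

/-!
# Degree shifts of *injective resolutions, multiplication sequences, degreewise exactness
-/

namespace Groth.Agent.H98.GrStar

open DirectSum CategoryTheory Groth.Agent.H98.LCRes Groth.Agent.H58.LC

variable {ι : Type} [AddCommGroup ι] [DecidableEq ι]
variable {R : Type u} [CommRing R] [IsNoetherianRing R]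
  {σ : Type u} [SetLike σ R] [AddSubgroupClass σ R]
  {𝒜 : ι → σ} [GradedRing 𝒜]

section Degreewise

variable {A B : Type u} [AddCommGroup A] [Module R A] [AddCommGroup B] [Module R B]

omit [IsNoetherianRing R] in
/-- a preimage of a homogeneous element under a homogeneous map can be chosen homogeneous -/
theorem exists_homog_preimage (𝒜A : ι → AddSubgroup A) (ℬ : ι → AddSubgroup B)
    (hA : DirectSum.IsInternal 𝒜A) (hB : DirectSum.IsInternal ℬ) (α : A →ₗ[R] B)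
    (hα : GrLC.IsGrHom 𝒜A ℬ α) {g : ι} {b : B} (hb : b ∈ ℬ g) (a₀ : A) (ha₀ : α a₀ = b) :
    ∃ a ∈ 𝒜A g, α a = b := by
  let _ := hA.chooseDecomposition
  let _ := hB.chooseDecomposition
  refine ⟨(DirectSum.decompose 𝒜A a₀ g : A), SetLike.coe_mem _, ?_⟩
  rw [← decompose_grHom 𝒜A ℬ α hα a₀ g, ha₀, DirectSum.decompose_of_mem_same ℬ hb]

end Degreewise

section ShiftDeg

variable {M : Type u} [AddCommGroup M] [Module R M] {ℳ : ι → AddSubgroup M}
  [DirectSum.Decomposition ℳ] [SetLike.GradedSMul 𝒜 ℳ]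

variable (𝒜 ℳ) in
/-- the shifted graded module `M(-g)` -/
noncomputable abbrev shM (g : ι) : GrLC.GMod.{u} 𝒜 := shiftGMod 𝒜 (GrLC.GMod.of 𝒜 M ℳ) g

/-- the degree-shifted resolution `E(-g)` of `M(-g)` -/
noncomputable def shiftDeg (E : GrLC.StarInjRes 𝒜 ℳ) (g : ι) : GrLC.StarInjRes 𝒜 (shM 𝒜 ℳ g).gr where
  X n := shiftGMod 𝒜 (E.X n) g
  d n := E.d n
  ε := E.ε
  d_grHom n := fun k x hx => E.d_grHom n (k - g) x hx
  ε_grHom := fun k x hx => E.ε_grHom (k - g) x hx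
  ε_injective := E.ε_injective
  exact_zero := E.exact_zero
  exact_succ := E.exact_succ
  starInj n := isStarInj_of_shift_equiv 𝒜 (E.X n).gr (E.starInj n) (shiftGMod 𝒜 (E.X n) g) g
    (LinearEquiv.refl R _) (fun _ _ => Iff.rfl)

theorem toAcycRes_shiftDeg (E : GrLC.StarInjRes 𝒜 ℳ) (g : ι) (a : HomogeneousIdeal 𝒜) :
    toAcycRes (shiftDeg E g) a = toAcycRes E a := rfl

theorem shiftDeg_Hgr (E : GrLC.StarInjRes 𝒜 ℳ) (g : ι) (a : HomogeneousIdeal 𝒜) (i : ℕ) (k : ι) :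
    (shiftDeg E g).Hgr a i k = E.Hgr a i (k - g) := rfl

end ShiftDeg


section DegLES

variable {M' : Type u} [AddCommGroup M'] [Module R M'] {ℳ' : ι → AddSubgroup M'}
  [DirectSum.Decomposition ℳ'] [SetLike.GradedSMul 𝒜 ℳ']
variable {M : Type u} [AddCommGroup M] [Module R M] {ℳ : ι → AddSubgroup M}
  [DirectSum.Decomposition ℳ] [SetLike.GradedSMul 𝒜 ℳ]
variable {M'' : Type u} [AddCommGroup M''] [Module R M''] {ℳ'' : ι → AddSubgroup M''}
  [DirectSum.Decomposition ℳ''] [SetLike.GradedSMul 𝒜 ℳ'']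
variable (T : GrSES (R := R) ℳ' ℳ ℳ'') (a : HomogeneousIdeal 𝒜)
  (E' : GrLC.StarInjRes 𝒜 ℳ') (E : GrLC.StarInjRes 𝒜 ℳ) (E'' : GrLC.StarInjRes 𝒜 ℳ'')

namespace GrSES

theorem exact_mid_deg (i : ℕ) (g : ι) (x : E.H a i) (hxg : x ∈ E.Hgr a i g)
    (hx : Hmap a T.v E E'' i x = 0) : ∃ y ∈ E'.Hgr a i g, Hmap a T.u E' E i y = x := by
  obtain ⟨y₀, hy₀⟩ := T.exact_mid a E' E E'' i x hx
  exact exists_homog_preimage (E'.Hgr a i) (E.Hgr a i) (Hgr_isInternal 𝒜 ℳ' E' a i)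
    (Hgr_isInternal 𝒜 ℳ E a i) _ (Hmap_isGrHom a T.u T.u_gr E' E i) hxg y₀ hy₀

theorem exact_right_deg (i : ℕ) (g : ι) (x : E''.H a i) (hxg : x ∈ E''.Hgr a i g)
    (hx : T.Hδ a E' E'' i x = 0) : ∃ y ∈ E.Hgr a i g, Hmap a T.v E E'' i y = x := by
  obtain ⟨y₀, hy₀⟩ := T.exact_right a E' E E'' i x hx
  exact exists_homog_preimage (E.Hgr a i) (E''.Hgr a i) (Hgr_isInternal 𝒜 ℳ E a i)
    (Hgr_isInternal 𝒜 ℳ'' E'' a i) _ (Hmap_isGrHom a T.v T.v_gr E E'' i) hxg y₀ hy₀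

theorem exact_left_deg (i : ℕ) (g : ι) (x : E'.H a (i + 1)) (hxg : x ∈ E'.Hgr a (i + 1) g)
    (hx : Hmap a T.u E' E (i + 1) x = 0) : ∃ y ∈ E''.Hgr a i g, T.Hδ a E' E'' i y = x := by
  obtain ⟨y₀, hy₀⟩ := T.exact_left a E' E E'' i x hx
  exact exists_homog_preimage (E''.Hgr a i) (E'.Hgr a (i + 1)) (Hgr_isInternal 𝒜 ℳ'' E'' a i)
    (Hgr_isInternal 𝒜 ℳ' E' a (i + 1)) _ (T.Hδ_isGrHom a E' E'' i) hxg y₀ hy₀

end GrSES

end DegLES

section MulSES

variable {M : Type u} [AddCommGroup M] [Module R M] {ℳ : ι → AddSubgroup M}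
  [DirectSum.Decomposition ℳ] [SetLike.GradedSMul 𝒜 ℳ]
variable {N : Type u} [AddCommGroup N] [Module R N] {𝒩 : ι → AddSubgroup N}
  [DirectSum.Decomposition 𝒩] [SetLike.GradedSMul 𝒜 𝒩]

omit [IsNoetherianRing R] [DirectSum.Decomposition ℳ] [DecidableEq ι] in
theorem smul_mem_of_mem_shift {x : R} {d : ι} (hx : x ∈ 𝒜 d) (k : ι) (m : M)
    (hm : m ∈ ℳ (k - d)) : x • m ∈ ℳ k := by
  have h2 := SetLike.GradedSMul.smul_mem (A := 𝒜) (B := ℳ) hx hm
  rw [vadd_eq_add, add_sub_cancel] at h2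
  exact h2

/-- `0 → M(-d) --x--> M → N → 0` for a homogeneous `M`-regular element `x` of degree `d` -/
noncomputable def mulSES (x : R) {d : ι} (hx : x ∈ 𝒜 d) (hreg : IsSMulRegular M x)
    (π : M →ₗ[R] N) (hπ : Function.Surjective π) (hπg : GrLC.IsGrHom ℳ 𝒩 π)
    (hker : LinearMap.ker π = LinearMap.range (x • (LinearMap.id : M →ₗ[R] M))) :
    GrSES (R := R) (shM 𝒜 ℳ d).gr ℳ 𝒩 where
  u := x • (LinearMap.id : M →ₗ[R] M)
  v := π
  u_gr := fun k m hm => smul_mem_of_mem_shift (M := M) (ℳ := ℳ) hx k m hm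
  v_gr := hπg
  inj := hreg
  surj := hπ
  exact := fun m => by
    rw [← LinearMap.mem_ker, hker]
    rfl

/-- on `E(-d) → E`, multiplication by `x` induces multiplication by `x` -/
theorem Hmap_shiftDeg_smul (a : HomogeneousIdeal 𝒜) (E : GrLC.StarInjRes 𝒜 ℳ) (x : R) (d : ι)
    (f : (shM 𝒜 ℳ d).carrier →ₗ[R] M) (hf : ∀ m : M, f m = x • m)
    (i : ℕ) (z : (shiftDeg E d).H a i) :
    Hmap a f (shiftDeg E d) E i z = x • (show E.H a i from z) := by
  let g : (shM 𝒜 ℳ d).carrier →ₗ[R] M :=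
    { toFun := fun m => m, map_add' := fun _ _ => rfl, map_smul' := fun _ _ => rfl }
  have hfg : f = x • g := LinearMap.ext fun m => hf m
  rw [hfg, Hmap_smul]
  congr 1
  rw [Hmap_apply, LinearEquiv.symm_apply_eq]
  change ((localCohomology a.toIdeal i).map (𝟙 (ModuleCat.of R M))).hom (θ E a i z) = θ E a i z
  rw [CategoryTheory.Functor.map_id]
  rfl

end MulSES

end Groth.Agent.H98.GrStar
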