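import Groth.Agent.H98.GrStar.ExtVanish
import Groth.Agent.H98.GrStar.Self
import Groth.Agent.H98.GrStar.LocCohGr
import Groth.Agent.H58.LCLes
import Groth.Prelude.Def_Wider

set_option autoImplicit false
universe u

/-!
# *Injective graded modules are acyclic for local cohomology with respect to a graded ideal
-/

namespace Groth.Agent.H98.GrStar

open DirectSum CategoryTheory Abelian

variable {ι : Type} [AddCommGroup ι] [DecidableEq ι]
variable {R : Type u} [CommRing R] [IsNoetherianRing R]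
  {σ : Type u} [SetLike σ R] [AddSubgroupClass σ R]
  (𝒜 : ι → σ) [GradedRing 𝒜]
variable {I : Type u} [AddCommGroup I] [Module R I] (ℐ : ι → AddSubgroup I)
  [DirectSum.Decomposition ℐ] [SetLike.GradedSMul 𝒜 ℐ]

/-- the homogeneous ideal `a ^ n` -/
def powHomIdeal (a : HomogeneousIdeal 𝒜) (n : ℕ) : HomogeneousIdeal 𝒜 :=
  ⟨a.toIdeal ^ n, pow_isHomogeneous 𝒜 a.toIdeal a.isHomogeneous n⟩

theorem locCoh_subsingleton_of_isStarInj (a : HomogeneousIdeal 𝒜) (hI : GrLC.IsStarInj 𝒜 ℐ)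
    (i : ℕ) (hi : 1 ≤ i) : Subsingleton (LocCoh.H a.toIdeal i I) := by
  refine ⟨fun x y => ?_⟩
  have key : ∀ z : LocCoh.H a.toIdeal i I, z = 0 := by
    intro z
    obtain ⟨n, e, rfl⟩ := Groth.Agent.H58.LC.exists_rep a.toIdeal i (ModuleCat.of R I) z
    have hfin : Module.Finite R (quotIdealGMod 𝒜 (powHomIdeal 𝒜 a n)).carrier :=
      inferInstanceAs (Module.Finite R (R ⧸ a.toIdeal ^ n))
    have hsub := ext_subsingleton 𝒜 ℐ hI i hi (quotIdealGMod 𝒜 (powHomIdeal 𝒜 a n)) hfin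
    have he : e = 0 := hsub.elim _ _
    rw [he, map_zero]
  rw [key x, key y]

end Groth.Agent.H98.GrStar
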