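import Groth.Agent.H98.GrStar.PieceClass

set_option autoImplicit false
set_option linter.unusedSectionVars false
universe u

/-!
# Homogeneous pieces of graded local cohomology lie in a Serre class of `R_0`-modules: main theorem
-/

namespace Groth.Agent.H98.GrStar

open DirectSum CategoryTheory Groth.Agent.H98.LCRes Groth.Agent.H58.LC

section Main

variable {R : Type u} [CommRing R] [IsNoetherianRing R]
  {σ : Type u} [SetLike σ R] [AddSubgroupClass σ R]
  (𝒜 : ℤ → σ) [GradedRing 𝒜] (hpos : ∀ n : ℤ, n < 0 → ∀ r ∈ 𝒜 n, r = 0)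
  (a : HomogeneousIdeal 𝒜) (hirr : ∀ n : ℤ, 0 < n → ∀ r ∈ 𝒜 n, r ∈ a.toIdeal)
variable (𝒞 : ∀ (H : Type u) [AddCommGroup H] [Module (GrLC.deg0 𝒜) H], Prop)
  (hS : SerreClass (GrLC.deg0 𝒜) 𝒞)

/-- all pieces of `*H^i_a(X)` lie in the class `𝒞` (for every *injective resolution) -/
def InClass (i : ℕ) (X : GrLC.GMod.{u} 𝒜) : Prop :=
  ∀ (E : GrLC.StarInjRes 𝒜 X.gr) (n : ℤ), 𝒞 ↥(E.Hcomp a i n)

include hS in
theorem inClass_of_ses (i : ℕ) (X' X X'' : GrLC.GMod.{u} 𝒜)
    (T : GrSES (R := R) X'.gr X.gr X''.gr)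
    (h' : InClass 𝒜 a 𝒞 i X') (h'' : InClass 𝒜 a 𝒞 i X'') : InClass 𝒜 a 𝒞 i X := by
  intro E n
  let E' := res 𝒜 X'.gr
  let E'' := res 𝒜 X''.gr
  let f := pieceMap E' E a i i n n (Hmap a T.u E' E i) (Hmap_isGrHom a T.u T.u_gr E' E i n)
  let g := pieceMap E E'' a i i n n (Hmap a T.v E E'' i) (Hmap_isGrHom a T.v T.v_gr E E'' i n)
  refine hS.of_exact f g ?_ (h' E' n) (h'' E'' n)
  intro y
  constructor
  · intro hy
    have h0 : Hmap a T.v E E'' i y.1 = 0 := congrArg Subtype.val hy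
    obtain ⟨z, hz, hzy⟩ := T.exact_mid_deg a E' E E'' i n y.1 y.2 h0
    exact ⟨⟨z, hz⟩, Subtype.ext hzy⟩
  · rintro ⟨z, rfl⟩
    exact Subtype.ext (T.Hmap_v_Hmap_u a E' E E'' i z.1)

include hS in
theorem inClass_of_forall_eq_zero (i : ℕ) (X : GrLC.GMod.{u} 𝒜) (E : GrLC.StarInjRes 𝒜 X.gr)
    (n : ℤ) (h : ∀ x ∈ E.Hgr a i n, x = 0) : 𝒞 ↥(E.Hcomp a i n) := by
  apply hS.zero
  exact ⟨fun x y => Subtype.ext ((h x.1 x.2).trans (h y.1 y.2).symm)⟩

include hS in
theorem inClass_of_subsingleton (i : ℕ) (X : GrLC.GMod.{u} 𝒜) (hX : Subsingleton X.carrier) :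
    InClass 𝒜 a 𝒞 i X := by
  intro E n
  have : Subsingleton ((localCohomology a.toIdeal i).obj (ModuleCat.of R X.carrier)) :=
    subsingleton_H_of_subsingleton (I := a.toIdeal) (ModuleCat.of R X.carrier) i
  exact inClass_of_forall_eq_zero 𝒜 a 𝒞 hS i X E n
    (fun x _ => (θ E a i).injective (Subsingleton.elim _ _))

/-- the hypothesis on the base case: cyclic modules killed by `a` -/
def BaseHyp : Prop :=
  ∀ (X : GrLC.GMod.{u} 𝒜) (p : HomogeneousIdeal 𝒜) (g : ℤ) (m₀ : X.carrier),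
    p.toIdeal.IsPrime → m₀ ∈ X.gr g → Submodule.span R {m₀} = ⊤ →
    (Submodule.span R {m₀}).annihilator = p.toIdeal → a.toIdeal ≤ p.toIdeal →
    𝒞 ↥(GrLC.comp 𝒜 X.gr g)

/-- Melkersson's criterion for the class `𝒞` -/
def MelkHyp : Prop :=
  ∀ (H : Type u) [AddCommGroup H] [Module (GrLC.deg0 𝒜) H] (x : GrLC.deg0 𝒜),
    (∀ h : H, ∃ k : ℕ, x ^ k • h = 0) → 𝒞 ↥(Submodule.torsionBy (GrLC.deg0 𝒜) H x) → 𝒞 H

/-- the hypothesis on regular elements: either they can be chosen of positive degree, or the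
class satisfies Melkersson's criterion -/
def ChoiceHyp : Prop :=
  (∀ p : HomogeneousIdeal 𝒜, p.toIdeal.IsPrime → ¬ a.toIdeal ≤ p.toIdeal →
      ∃ e : ℤ, 0 < e ∧ ∃ x ∈ 𝒜 e, x ∈ a.toIdeal ∧ x ∉ p.toIdeal) ∨ MelkHyp 𝒜 𝒞

include hpos hirr in
omit [IsNoetherianRing R] in
/-- a cyclic module killed by `a ⊇ R_+` generated in degree `g` lives in degree `g` only -/
theorem eq_zero_of_cyclic_of_ne (X : GrLC.GMod.{u} 𝒜) (p : HomogeneousIdeal 𝒜) (g : ℤ)
    (m₀ : X.carrier) (hm₀ : m₀ ∈ X.gr g) (hspan : Submodule.span R {m₀} = ⊤)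
    (hann : (Submodule.span R {m₀}).annihilator = p.toIdeal) (hap : a.toIdeal ≤ p.toIdeal)
    (n : ℤ) (hn : n ≠ g) (m : X.carrier) (hm : m ∈ X.gr n) : m = 0 := by
  have hmem : m ∈ Submodule.span R {m₀} := by rw [hspan]; trivial
  obtain ⟨r, hr, rfl⟩ := exists_homog_smul_eq 𝒜 X.gr hm₀ hm hmem
  rcases lt_or_gt_of_ne hn with h | h
  · rw [hpos (n - g) (by omega) r hr, zero_smul]
  · exact smul_eq_zero_of_cyclic hspan hann (hap (hirr (n - g) (by omega) r hr)) m₀

include hpos hirr hS in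
theorem inClass_cyclic (hbase : BaseHyp 𝒜 a 𝒞) (hchoice : ChoiceHyp 𝒜 a 𝒞) (i : ℕ)
    (ih : ∀ j < i, ∀ (Y : GrLC.GMod.{u} 𝒜) [Module.Finite R Y.carrier], InClass 𝒜 a 𝒞 j Y)
    (X : GrLC.GMod.{u} 𝒜) [Module.Finite R X.carrier] (p : HomogeneousIdeal 𝒜) (g : ℤ)
    (m₀ : X.carrier) (hp : p.toIdeal.IsPrime) (hm₀ : m₀ ∈ X.gr g)
    (hspan : Submodule.span R {m₀} = ⊤)
    (hann : (Submodule.span R {m₀}).annihilator = p.toIdeal) : InClass 𝒜 a 𝒞 i X := by
  intro E n
  by_cases hap : a.toIdeal ≤ p.toIdeal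
  · have hkill : ∀ r ∈ a.toIdeal, ∀ y : X.carrier, r • y = 0 := fun r hr y =>
      smul_eq_zero_of_cyclic hspan hann (hap hr) y
    have hgam : GrLC.gam a.toIdeal X.carrier = ⊤ := by
      rw [eq_top_iff]
      intro y _
      exact ⟨1, fun r hr => hkill r (by rwa [pow_one] at hr) y⟩
    cases i with
    | zero =>
      refine hS.of_surjective (η0 E a n) (η0_surjective E a n) ?_
      by_cases hn : n = g
      · subst hn
        exact hS.of_injective (Submodule.inclusion inf_le_left) (Submodule.inclusion_injective _)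
          (hbase X p n m₀ hp hm₀ hspan hann hap)
      · apply hS.zero
        refine ⟨fun y y' => Subtype.ext ?_⟩
        rw [eq_zero_of_cyclic_of_ne 𝒜 hpos a hirr X p g m₀ hm₀ hspan hann hap n hn y.1 y.2.1,
          eq_zero_of_cyclic_of_ne 𝒜 hpos a hirr X p g m₀ hm₀ hspan hann hap n hn y'.1 y'.2.1]
    | succ j =>
      have := H_subsingleton_of_gam_eq_top E a hgam (j + 1) (by omega)
      exact inClass_of_forall_eq_zero 𝒜 a 𝒞 hS (j + 1) X E n (fun x _ => Subsingleton.elim _ _)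
  · obtain ⟨e, x, hxe, hxa, hxp, hcase⟩ : ∃ (e : ℤ) (x : R), x ∈ 𝒜 e ∧ x ∈ a.toIdeal ∧
        x ∉ p.toIdeal ∧ (0 < e ∨ (e = 0 ∧ MelkHyp 𝒜 𝒞)) := by
      rcases hchoice with h | h
      · obtain ⟨e, he, x, hxe, hxa, hxp⟩ := h p hp hap
        exact ⟨e, x, hxe, hxa, hxp, Or.inl he⟩
      · obtain ⟨e, x, hxe, hxa, hxp⟩ := exists_homogeneous_not_mem 𝒜 a p.toIdeal hap
        have he : 0 ≤ e := by
          by_contra hcon
          push Not at hcon
          apply hxp
          rw [hpos e hcon x hxe]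
          exact zero_mem _
        rcases he.lt_or_eq with h1 | h1
        · exact ⟨e, x, hxe, hxa, hxp, Or.inl h1⟩
        · exact ⟨e, x, hxe, hxa, hxp, Or.inr ⟨h1.symm, h⟩⟩
    have hreg : IsSMulRegular X.carrier x := isSMulRegular_of_cyclic hspan hann hxp
    cases i with
    | zero =>
      refine inClass_of_forall_eq_zero 𝒜 a 𝒞 hS 0 X E n (fun z hz => ?_)
      refine Hgr_zero_eq_zero E a n (fun m _ hmgam => ?_) z hz
      obtain ⟨k, hk⟩ := hmgam
      have h1 : x ^ k • m = 0 := hk _ (Ideal.pow_mem_pow hxa k)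
      exact (hreg.pow k) (show x ^ k • m = x ^ k • (0 : X.carrier) by rw [h1, smul_zero])
    | succ j =>
      let F : GrLC.StarInjRes 𝒜 (quotSMul 𝒜 X hxe).gr := res 𝒜 (quotSMul 𝒜 X hxe).gr
      have hF : ∀ k : ℤ, 𝒞 ↥(F.Hcomp a j k) := fun k =>
        ih j (by omega) (quotSMul 𝒜 X hxe) F k
      rcases hcase with he | ⟨he, hmelk⟩
      · obtain ⟨N, hN⟩ := vanishHigh 𝒜 hpos a hirr (j + 1) X E
        have key : ∀ k : ℕ, ∀ n : ℤ, N - k ≤ n → 𝒞 ↥(E.Hcomp a (j + 1) n) := by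
          intro k
          induction k with
          | zero =>
            intro n hn
            exact inClass_of_forall_eq_zero 𝒜 a 𝒞 hS (j + 1) X E n
              (hN n (by simpa using hn))
          | succ k ihk =>
            intro n hn
            exact hS.of_exact (δPiece X hxe hreg a E F j rfl) (smulPiece E a (j + 1) hxe rfl)
              (exact_δPiece_smulPiece X hxe hreg a E F j rfl) (hF (e + n))
              (ihk (e + n) (by push_cast at hn ⊢; omega))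
        exact key (N - n).toNat n (by omega)
      · subst he
        have hn' : n = 0 + n := (zero_add n).symm
        have hex := exact_δPiece_smulPiece X hxe hreg a E F j hn'
        apply hmelk ↥(E.Hcomp a (j + 1) n) ⟨x, hxe⟩
        · intro h
          obtain ⟨k, hk⟩ := exists_pow_smul_eq_zero E a (j + 1) h.1
          exact ⟨k, Subtype.ext (hk _ (Ideal.pow_mem_pow hxa k))⟩
        · have hmem : ∀ y, δPiece X hxe hreg a E F j hn' y ∈
              Submodule.torsionBy (GrLC.deg0 𝒜) ↥(E.Hcomp a (j + 1) n) ⟨x, hxe⟩ := fun y => by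
            rw [Submodule.mem_torsionBy_iff]
            exact hex.apply_apply_eq_zero y
          refine hS.of_surjective ((δPiece X hxe hreg a E F j hn').codRestrict _ hmem) ?_ (hF n)
          rintro ⟨z, hz⟩
          rw [Submodule.mem_torsionBy_iff] at hz
          obtain ⟨y, hy⟩ := (hex z).mp hz
          exact ⟨y, Subtype.ext hy⟩

include hpos hirr hS in
/-- the pieces of the graded local cohomology of a finitely generated graded module lie in `𝒞` -/
theorem inClass (hbase : BaseHyp 𝒜 a 𝒞) (hchoice : ChoiceHyp 𝒜 a 𝒞) (i : ℕ) :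
    ∀ (X : GrLC.GMod.{u} 𝒜) [Module.Finite R X.carrier], InClass 𝒜 a 𝒞 i X := by
  induction i using Nat.strong_induction_on with
  | _ i ih =>
    intro X _
    exact devissage 𝒜 (InClass 𝒜 a 𝒞 i)
      (fun X' X X'' T h' h'' => inClass_of_ses 𝒜 a 𝒞 hS i X' X X'' T h' h'')
      (fun X hX => inClass_of_subsingleton 𝒜 a 𝒞 hS i X hX)
      (fun X p g m₀ hp hm₀ hspan hann => by
        have hfin : Module.Finite R X.carrier :=
          ⟨⟨{m₀}, by rw [Finset.coe_singleton]; exact hspan⟩⟩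
        exact inClass_cyclic 𝒜 hpos a hirr 𝒞 hS hbase hchoice i (fun j hj Y _ => ih j hj Y)
          X p g m₀ hp hm₀ hspan hann)
      X

end Main

end Groth.Agent.H98.GrStar
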