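import Groth.Agent.H98.GrStar.HighVanish

set_option autoImplicit false
set_option linter.unusedSectionVars false
universe u

/-!
# Positively graded *local rings: the *maximal ideal contains the irrelevant ideal
-/

namespace Groth.Agent.H98.GrStar

open DirectSum

variable {R : Type u} [CommRing R]
  {σ : Type u} [SetLike σ R] [AddSubgroupClass σ R]
  (𝒜 : ℤ → σ) [GradedRing 𝒜] (hpos : ∀ n : ℤ, n < 0 → ∀ r ∈ 𝒜 n, r = 0)

theorem geIdeal_isHomogeneous (k : ℤ) : (geIdeal 𝒜 hpos k).IsHomogeneous 𝒜 := by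
  intro d r hr d' hd'
  by_cases h : d = d'
  · subst h
    rw [DirectSum.decompose_coe, DirectSum.of_eq_same]
    exact hr d hd'
  · rw [DirectSum.decompose_coe, DirectSum.of_eq_of_ne _ _ _ (Ne.symm h)]
    rfl

theorem mem_geIdeal_one_of_mem_pos {n : ℤ} (hn : 0 < n) {r : R} (hr : r ∈ 𝒜 n) :
    r ∈ geIdeal 𝒜 hpos 1 := by
  intro d hd
  exact DirectSum.decompose_of_mem_ne 𝒜 hr (by omega)

/-- elements of `m + R_+` have degree-zero component in `m` -/
theorem decompose_zero_mem_of_mem_sup (m : HomogeneousIdeal 𝒜) {r : R}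
    (hr : r ∈ m.toIdeal ⊔ geIdeal 𝒜 hpos 1) : (decompose 𝒜 r 0 : R) ∈ m.toIdeal := by
  obtain ⟨μ, hμ, ρ, hρ, rfl⟩ := Submodule.mem_sup.mp hr
  rw [DirectSum.decompose_add, DirectSum.add_apply, AddMemClass.coe_add, hρ 0 (by omega), add_zero]
  exact m.isHomogeneous 0 hμ

include hpos in
/-- a *maximal ideal of a positively graded ring contains all elements of positive degree -/
theorem mem_of_isCoatom_of_pos (m : HomogeneousIdeal 𝒜) (hm : IsCoatom m) {n : ℤ} (hn : 0 < n)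
    {r : R} (hr : r ∈ 𝒜 n) : r ∈ m.toIdeal := by
  let G : HomogeneousIdeal 𝒜 := ⟨geIdeal 𝒜 hpos 1, geIdeal_isHomogeneous 𝒜 hpos 1⟩
  let J : HomogeneousIdeal 𝒜 := m ⊔ G
  have hJ : J.toIdeal = m.toIdeal ⊔ geIdeal 𝒜 hpos 1 := rfl
  have hle : m ≤ J := le_sup_left
  have hJtop : J ≠ ⊤ := by
    intro h
    apply hm.1
    have h1 : (1 : R) ∈ J.toIdeal := by rw [h]; trivial
    rw [hJ] at h1
    have h2 := decompose_zero_mem_of_mem_sup 𝒜 hpos m h1
    rw [DirectSum.decompose_of_mem_same 𝒜 (SetLike.GradedOne.one_mem (A := 𝒜))] at h2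
    apply HomogeneousIdeal.toIdeal_injective
    rw [HomogeneousIdeal.toIdeal_top]
    exact (Ideal.eq_top_iff_one _).mpr h2
  have hJm : J = m := by
    by_contra hne
    exact hJtop (hm.2 J (lt_of_le_of_ne hle (Ne.symm hne)))
  have h3 : r ∈ J.toIdeal := by
    rw [hJ]
    exact Submodule.mem_sup_right (mem_geIdeal_one_of_mem_pos 𝒜 hpos hn hr)
  rwa [hJm] at h3

end Groth.Agent.H98.GrStar
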