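import Groth.Agent.H98.GrStar.Indec
import Groth.Agent.H98.GrStar.GrLES3

set_option autoImplicit false
set_option linter.unusedSectionVars false
universe u

/-!
# Graded dévissage

A property of finitely generated graded modules over a Noetherian graded ring which is stable under
graded extensions, holds for zero modules and for cyclic modules `R·m` generated by a homogeneous
element with (graded) prime annihilator, holds for all finitely generated graded modules.
-/

namespace Groth.Agent.H98.GrStar

open DirectSum

variable {ι : Type} [AddCommGroup ι] [DecidableEq ι]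
variable {R : Type u} [CommRing R]
  {σ : Type u} [SetLike σ R] [AddSubgroupClass σ R]
  (𝒜 : ι → σ) [GradedRing 𝒜]

section Sup

variable {M : Type u} [AddCommGroup M] [Module R M] (ℳ : ι → AddSubgroup M)
  [DirectSum.Decomposition ℳ]

theorem sup_isHomogeneous {P Q : Submodule R M} (hP : P.IsHomogeneous ℳ) (hQ : Q.IsHomogeneous ℳ) :
    (P ⊔ Q).IsHomogeneous ℳ := by
  intro i x hx
  obtain ⟨y, hy, z, hz, rfl⟩ := Submodule.mem_sup.mp hx
  rw [DirectSum.decompose_add, DirectSum.add_apply, AddSubgroup.coe_add]
  exact Submodule.add_mem _ (Submodule.mem_sup_left (hP i hy)) (Submodule.mem_sup_right (hQ i hz))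

theorem top_isHomogeneous : (⊤ : Submodule R M).IsHomogeneous ℳ := fun _ _ _ => Submodule.mem_top

end Sup

section Dev

variable [Module.Free ℤ ι] [Module.Finite ℤ ι] [IsNoetherianRing R]

/-- the graded submodule of a graded module attached to a homogeneous submodule -/
noncomputable abbrev subOf (X : GrLC.GMod.{u} 𝒜) (N : Submodule R X.carrier)
    (hN : N.IsHomogeneous X.gr) : GrLC.GMod.{u} 𝒜 :=
  subGMod 𝒜 X.gr N.subtype N.injective_subtype (by rw [Submodule.range_subtype]; exact hN)

theorem devissage (𝒬 : GrLC.GMod.{u} 𝒜 → Prop)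
    (h_ses : ∀ (X' X X'' : GrLC.GMod.{u} 𝒜), GrSES (R := R) X'.gr X.gr X''.gr → 𝒬 X' → 𝒬 X'' → 𝒬 X)
    (h_zero : ∀ X : GrLC.GMod.{u} 𝒜, Subsingleton X.carrier → 𝒬 X)
    (h_cyc : ∀ (X : GrLC.GMod.{u} 𝒜) (p : HomogeneousIdeal 𝒜) (g : ι) (m : X.carrier),
      p.toIdeal.IsPrime → m ∈ X.gr g → Submodule.span R {m} = ⊤ →
      (Submodule.span R {m}).annihilator = p.toIdeal → 𝒬 X)
    (X : GrLC.GMod.{u} 𝒜) [Module.Finite R X.carrier] : 𝒬 X := by
  classical
  have : IsNoetherian R X.carrier := isNoetherian_of_isNoetherianRing_of_finite R X.carrier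
  let S : Set (Submodule R X.carrier) :=
    {N | ∃ hN : N.IsHomogeneous X.gr, 𝒬 (subOf 𝒜 X N hN)}
  have hS : S.Nonempty := by
    refine ⟨⊥, bot_isHomogeneous X.gr, h_zero _ ?_⟩
    change Subsingleton (⊥ : Submodule R X.carrier)
    infer_instance
  obtain ⟨N, ⟨hN, hQN⟩, hmax⟩ :=
    (set_has_maximal_iff_noetherian (R := R) (M := X.carrier)).mpr inferInstance S hS
  by_cases hNtop : N = ⊤
  · subst hNtop
    -- `0 → ⊤ → X → 0 → 0`
    let Z : GrLC.GMod.{u} 𝒜 := subOf 𝒜 X ⊥ (bot_isHomogeneous X.gr)
    have : Subsingleton Z.carrier := by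
      change Subsingleton (⊥ : Submodule R X.carrier)
      infer_instance
    refine h_ses (subOf 𝒜 X ⊤ hN) X Z ?_ hQN (h_zero Z inferInstance)
    exact
      { u := (⊤ : Submodule R X.carrier).subtype
        v := 0
        u_gr := fun h y hy => hy
        v_gr := fun h y _ => by
          rw [LinearMap.zero_apply]
          exact zero_mem _
        inj := Submodule.injective_subtype _
        surj := fun z => ⟨0, Subsingleton.elim _ _⟩
        exact := fun y => by
          constructor
          · intro _
            exact ⟨⟨y, Submodule.mem_top⟩, rfl⟩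
          · intro _
            rfl }
  · exfalso
    -- the quotient `X/N` is a nonzero graded module
    let π : X.carrier →ₗ[R] (X.carrier ⧸ N) := N.mkQ
    have hπ : Function.Surjective π := Submodule.mkQ_surjective N
    have hker : (LinearMap.ker π).IsHomogeneous X.gr := by
      rw [Submodule.ker_mkQ]; exact hN
    let Q : GrLC.GMod.{u} 𝒜 := quotGMod 𝒜 X.gr π hπ hker
    have : Nontrivial Q.carrier := by
      change Nontrivial (X.carrier ⧸ N)
      exact Submodule.Quotient.nontrivial_iff.mpr hNtop
    obtain ⟨q, g₀, mbar, hq, hmbar, hmbar0, hann⟩ :=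
      exists_homogeneous_prime_annihilator 𝒜 Q.gr
    obtain ⟨m, hm, hmm⟩ : ∃ m ∈ X.gr g₀, π m = mbar := hmbar
    have hmN : m ∉ N := by
      intro h
      apply hmbar0
      rw [← hmm]
      exact (Submodule.Quotient.mk_eq_zero N).mpr h
    let N' : Submodule R X.carrier := N ⊔ Submodule.span R {m}
    have hN' : N'.IsHomogeneous X.gr :=
      sup_isHomogeneous X.gr hN (span_singleton_isHomogeneous 𝒜 X.gr hm)
    have hlt : N < N' := by
      refine lt_of_le_of_ne le_sup_left ?_
      intro h
      apply hmN
      rw [h]
      exact Submodule.mem_sup_right (Submodule.mem_span_singleton_self m)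
    -- the cyclic graded module `C = R·mbar ⊆ X/N`
    let Csub : Submodule R Q.carrier := Submodule.span R {mbar}
    have hCsub : Csub.IsHomogeneous Q.gr := span_singleton_isHomogeneous 𝒜 Q.gr ⟨m, hm, hmm⟩
    let C : GrLC.GMod.{u} 𝒜 := subOf 𝒜 Q Csub hCsub
    have hπN' : ∀ x : N', π (x : X.carrier) ∈ Csub := by
      rintro ⟨x, hx⟩
      obtain ⟨y, hy, z, hz, rfl⟩ := Submodule.mem_sup.mp hx
      obtain ⟨r, rfl⟩ := Submodule.mem_span_singleton.mp hz
      have h1 : π y = 0 := (Submodule.Quotient.mk_eq_zero N).mpr hy
      rw [map_add, h1, zero_add, map_smul, hmm]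
      exact Submodule.smul_mem _ _ (Submodule.mem_span_singleton_self mbar)
    let v : N' →ₗ[R] Csub := (π.comp N'.subtype).codRestrict Csub hπN'
    have hQC : 𝒬 C := by
      refine h_cyc C q g₀ ⟨mbar, Submodule.mem_span_singleton_self mbar⟩ hq ?_ ?_ ?_
      · exact (show (mbar : Q.carrier) ∈ Q.gr g₀ from ⟨m, hm, hmm⟩)
      · rw [eq_top_iff]
        rintro ⟨y, hy⟩ _
        obtain ⟨r, rfl⟩ := Submodule.mem_span_singleton.mp hy
        exact Submodule.mem_span_singleton.mpr ⟨r, Subtype.ext rfl⟩
      · rw [← hann]
        ext r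
        rw [Submodule.mem_annihilator_span_singleton, Submodule.mem_annihilator_span_singleton]
        constructor
        · intro h
          exact congrArg Subtype.val h
        · intro h
          exact Subtype.ext h
    have hQN' : 𝒬 (subOf 𝒜 X N' hN') := by
      refine h_ses (subOf 𝒜 X N hN) (subOf 𝒜 X N' hN') C ?_ hQN hQC
      exact
        { u := Submodule.inclusion hlt.le
          v := v
          u_gr := fun h y hy => hy
          v_gr := fun h y hy => ⟨N'.subtype y, hy, rfl⟩
          inj := Submodule.inclusion_injective hlt.le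
          surj := by
            rintro ⟨y, hy⟩
            obtain ⟨r, rfl⟩ := Submodule.mem_span_singleton.mp hy
            refine ⟨⟨r • m, Submodule.mem_sup_right
              (Submodule.smul_mem _ _ (Submodule.mem_span_singleton_self m))⟩, Subtype.ext ?_⟩
            change π (r • m) = r • mbar
            rw [map_smul, hmm]
            rfl
          exact := fun y => by
            constructor
            · intro hy
              have h1 : π (N'.subtype y) = 0 := congrArg Subtype.val hy
              have h2 : N'.subtype y ∈ N := (Submodule.Quotient.mk_eq_zero N).mp h1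
              exact ⟨⟨N'.subtype y, h2⟩, Subtype.ext rfl⟩
            · rintro ⟨z, rfl⟩
              apply Subtype.ext
              change π (N.subtype z) = 0
              exact (Submodule.Quotient.mk_eq_zero N).mpr (show N.subtype z ∈ N from z.2) }
    exact hmax N' ⟨hN', hQN'⟩ hlt

end Dev

end Groth.Agent.H98.GrStar
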