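import Groth.Agent.H98.GrStar.GrLES

set_option autoImplicit false
set_option linter.unusedSectionVars false
universe u

/-!
# The long exact sequence of graded local cohomology, with homogeneous connecting maps
-/

namespace Groth.Agent.H98.GrStar

open DirectSum CategoryTheory Groth.Agent.H98.LCRes Groth.Agent.H58.LC

variable {ι : Type} [AddCommGroup ι] [DecidableEq ι]
variable {R : Type u} [CommRing R] [IsNoetherianRing R]
  {σ : Type u} [SetLike σ R] [AddSubgroupClass σ R]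
  {𝒜 : ι → σ} [GradedRing 𝒜]

section Shift

variable {M : Type u} [AddCommGroup M] [Module R M] {ℳ : ι → AddSubgroup M}
  [DirectSum.Decomposition ℳ] [SetLike.GradedSMul 𝒜 ℳ]

omit [IsNoetherianRing R] in
theorem range_subtype_d_isHomogeneous (E : GrLC.StarInjRes 𝒜 ℳ) :
    (LinearMap.range (LinearMap.range (E.d 0)).subtype).IsHomogeneous (E.X 1).gr := by
  rw [Submodule.range_subtype]
  exact range_isHomogeneous (E.X 0).gr (E.X 1).gr (E.d 0) (E.d_grHom 0)

/-- the graded module `im (d 0)` -/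
noncomputable abbrev Z1 (E : GrLC.StarInjRes 𝒜 ℳ) : GrLC.GMod.{u} 𝒜 :=
  subGMod 𝒜 (E.X 1).gr (LinearMap.range (E.d 0)).subtype (Submodule.injective_subtype _)
    (range_subtype_d_isHomogeneous E)

theorem mem_Z1_gr (E : GrLC.StarInjRes 𝒜 ℳ) (g : ι) (y : (Z1 E).carrier) :
    y ∈ (Z1 E).gr g ↔ (LinearMap.range (E.d 0)).subtype y ∈ (E.X 1).gr g := Iff.rfl

/-- the shifted resolution, of `im (d 0)` -/
noncomputable def shiftRes (E : GrLC.StarInjRes 𝒜 ℳ) : GrLC.StarInjRes 𝒜 (Z1 E).gr where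
  X n := E.X (n + 1)
  d n := E.d (n + 1)
  ε := (LinearMap.range (E.d 0)).subtype
  d_grHom n := E.d_grHom (n + 1)
  ε_grHom := fun _ _ h => h
  ε_injective := Subtype.val_injective
  exact_zero := (E.exact_succ 0).trans (Submodule.range_subtype _).symm
  exact_succ n := E.exact_succ (n + 1)
  starInj n := E.starInj (n + 1)

theorem toAcycRes_shiftRes (E : GrLC.StarInjRes 𝒜 ℳ) (a : HomogeneousIdeal 𝒜) :
    toAcycRes (shiftRes E) a = (toAcycRes E a).shift := rfl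

theorem θ_succ_succ (E : GrLC.StarInjRes 𝒜 ℳ) (a : HomogeneousIdeal 𝒜) (k : ℕ)
    (x : E.H a (k + 2)) :
    θ E a (k + 2) x = (toAcycRes E a).connEquiv k (θ (shiftRes E) a (k + 1) x) := rfl

omit [IsNoetherianRing R] in
theorem shiftRes_Hgr (E : GrLC.StarInjRes 𝒜 ℳ) (a : HomogeneousIdeal 𝒜) (k : ℕ) (g : ι) :
    (shiftRes E).Hgr a (k + 1) g = E.Hgr a (k + 2) g := rfl

end Shift


section SES

variable {M' : Type u} [AddCommGroup M'] [Module R M'] {ℳ' : ι → AddSubgroup M'}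
  [DirectSum.Decomposition ℳ'] [SetLike.GradedSMul 𝒜 ℳ']
variable {M : Type u} [AddCommGroup M] [Module R M] {ℳ : ι → AddSubgroup M}
  [DirectSum.Decomposition ℳ] [SetLike.GradedSMul 𝒜 ℳ]
variable {M'' : Type u} [AddCommGroup M''] [Module R M''] {ℳ'' : ι → AddSubgroup M''}
  [DirectSum.Decomposition ℳ''] [SetLike.GradedSMul 𝒜 ℳ'']

/-- a short exact sequence of graded modules and homogeneous maps -/
structure GrSES (ℳ' : ι → AddSubgroup M') (ℳ : ι → AddSubgroup M) (ℳ'' : ι → AddSubgroup M'') where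
  u : M' →ₗ[R] M
  v : M →ₗ[R] M''
  u_gr : GrLC.IsGrHom ℳ' ℳ u
  v_gr : GrLC.IsGrHom ℳ ℳ'' v
  inj : Function.Injective u
  surj : Function.Surjective v
  exact : Function.Exact u v

namespace GrSES

variable (T : GrSES (R := R) ℳ' ℳ ℳ'')

/-- the short complex in `ModuleCat` -/
noncomputable abbrev ses : ShortComplex (ModuleCat.{u} R) :=
  ShortComplex.mk (ModuleCat.ofHom T.u) (ModuleCat.ofHom T.v)
    (ModuleCat.hom_ext (LinearMap.ext fun x => T.exact.apply_apply_eq_zero x))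

omit [IsNoetherianRing R] in
theorem ses_shortExact : T.ses.ShortExact := shortExact_of T.u T.v T.inj T.surj T.exact

variable (a : HomogeneousIdeal 𝒜) (E' : GrLC.StarInjRes 𝒜 ℳ') (E : GrLC.StarInjRes 𝒜 ℳ)
  (E'' : GrLC.StarInjRes 𝒜 ℳ'')

/-- the connecting homomorphism of graded local cohomology -/
noncomputable def Hδ (i : ℕ) : E''.H a i →ₗ[R] E'.H a (i + 1) :=
  (θ E' a (i + 1)).symm.toLinearMap ∘ₗ δ a.toIdeal i T.ses_shortExact ∘ₗ (θ E'' a i).toLinearMap

theorem Hδ_apply (i : ℕ) (x : E''.H a i) :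
    T.Hδ a E' E'' i x = (θ E' a (i + 1)).symm (δ a.toIdeal i T.ses_shortExact (θ E'' a i x)) := rfl

theorem θ_Hδ (i : ℕ) (x : E''.H a i) :
    θ E' a (i + 1) (T.Hδ a E' E'' i x) = δ a.toIdeal i T.ses_shortExact (θ E'' a i x) := by
  rw [Hδ_apply, LinearEquiv.apply_symm_apply]

theorem Hmap_zero_map (i : ℕ) (x : E'.H a i) :
    Hmap a (0 : M' →ₗ[R] M'') E' E'' i x = 0 := by
  have h := Hmap_smul a (0 : R) (0 : M' →ₗ[R] M'') E' E'' i x
  rw [zero_smul, zero_smul] at h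
  exact h

theorem Hmap_v_Hmap_u (i : ℕ) (x : E'.H a i) :
    Hmap a T.v E E'' i (Hmap a T.u E' E i x) = 0 := by
  rw [← Hmap_comp]
  have : T.v ∘ₗ T.u = 0 := LinearMap.ext fun y => T.exact.apply_apply_eq_zero y
  rw [this]
  exact Hmap_zero_map a E' E'' i x

theorem exact_mid (i : ℕ) (x : E.H a i) (hx : Hmap a T.v E E'' i x = 0) :
    ∃ y : E'.H a i, Hmap a T.u E' E i y = x := by
  have h1 : ((localCohomology a.toIdeal i).map T.ses.g).hom (θ E a i x) = 0 := by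
    have := θ_Hmap a T.v E E'' i x
    rw [hx, map_zero] at this
    exact this.symm
  obtain ⟨y₁, hy₁⟩ := exact₂ a.toIdeal i T.ses_shortExact (θ E a i x) h1
  refine ⟨(θ E' a i).symm y₁, ?_⟩
  rw [Hmap_apply, LinearEquiv.apply_symm_apply, LinearEquiv.symm_apply_eq]
  exact hy₁

theorem Hδ_Hmap_v (i : ℕ) (x : E.H a i) : T.Hδ a E' E'' i (Hmap a T.v E E'' i x) = 0 := by
  rw [Hδ_apply, θ_Hmap]
  have := δ_map_g a.toIdeal i T.ses_shortExact (θ E a i x)
  rw [LinearEquiv.symm_apply_eq, map_zero]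
  exact this

theorem exact_right (i : ℕ) (x : E''.H a i) (hx : T.Hδ a E' E'' i x = 0) :
    ∃ y : E.H a i, Hmap a T.v E E'' i y = x := by
  have h1 : δ a.toIdeal i T.ses_shortExact (θ E'' a i x) = 0 := by
    have := T.θ_Hδ a E' E'' i x
    rw [hx, map_zero] at this
    exact this.symm
  obtain ⟨y₂, hy₂⟩ := exact₃ a.toIdeal i T.ses_shortExact (θ E'' a i x) h1
  refine ⟨(θ E a i).symm y₂, ?_⟩
  rw [Hmap_apply, LinearEquiv.apply_symm_apply, LinearEquiv.symm_apply_eq]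
  exact hy₂

theorem Hmap_u_Hδ (i : ℕ) (x : E''.H a i) :
    Hmap a T.u E' E (i + 1) (T.Hδ a E' E'' i x) = 0 := by
  rw [Hmap_apply, θ_Hδ, LinearEquiv.symm_apply_eq, map_zero]
  exact map_f_δ a.toIdeal i T.ses_shortExact (θ E'' a i x)

theorem exact_left (i : ℕ) (x : E'.H a (i + 1)) (hx : Hmap a T.u E' E (i + 1) x = 0) :
    ∃ y : E''.H a i, T.Hδ a E' E'' i y = x := by
  have h1 : ((localCohomology a.toIdeal (i + 1)).map T.ses.f).hom (θ E' a (i + 1) x) = 0 := by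
    have := θ_Hmap a T.u E' E (i + 1) x
    rw [hx, map_zero] at this
    exact this.symm
  obtain ⟨y₃, hy₃⟩ := exact₁ a.toIdeal i T.ses_shortExact (θ E' a (i + 1) x) h1
  refine ⟨(θ E'' a i).symm y₃, ?_⟩
  rw [Hδ_apply, LinearEquiv.apply_symm_apply, LinearEquiv.symm_apply_eq]
  exact hy₃


/-! ### homogeneity of the connecting map -/

omit [IsNoetherianRing R] in
theorem exists_σ : ∃ σ : M →ₗ[R] (E'.X 0).carrier,
    GrLC.IsGrHom ℳ (E'.X 0).gr σ ∧ ∀ m', σ (T.u m') = E'.ε m' := by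
  obtain ⟨σ, hσ, hσu⟩ := E'.starInj 0 (GrLC.GMod.of 𝒜 M' ℳ') (GrLC.GMod.of 𝒜 M ℳ) T.u T.u_gr
    T.inj E'.ε E'.ε_grHom
  exact ⟨σ, hσ, fun m' => LinearMap.congr_fun hσu m'⟩

omit [IsNoetherianRing R] in
theorem exists_τ (σ : M →ₗ[R] (E'.X 0).carrier) (hσ : GrLC.IsGrHom ℳ (E'.X 0).gr σ)
    (hσu : ∀ m', σ (T.u m') = E'.ε m') :
    ∃ τ : M'' →ₗ[R] (Z1 E').carrier, GrLC.IsGrHom ℳ'' (Z1 E').gr τ ∧
      ∀ m, τ (T.v m) = (E'.d 0).rangeRestrict (σ m) := by
  obtain ⟨τ, hτ, hτv⟩ := exists_desc ℳ ℳ'' (Z1 E').gr T.v T.v_gr T.surj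
    ((E'.d 0).rangeRestrict ∘ₗ σ)
    (fun g m hm => E'.d_grHom 0 g _ (hσ g m hm))
    (by
      intro m hm
      obtain ⟨m', rfl⟩ := (T.exact m).1 hm
      rw [LinearMap.mem_ker, LinearMap.comp_apply, hσu]
      exact Subtype.ext (StarInjRes.d_comp_ε E' m'))
  exact ⟨τ, hτ, fun m => LinearMap.congr_fun hτv m⟩

omit [IsNoetherianRing R] [SetLike.GradedSMul 𝒜 ℳ''] in
/-- an element mapping to a homogeneous element under an injective homogeneous map is homogeneous -/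
theorem mem_of_map_mem {A B : Type u} [AddCommGroup A] [Module R A] [AddCommGroup B] [Module R B]
    (𝒜A : ι → AddSubgroup A) [DirectSum.Decomposition 𝒜A] (ℬ : ι → AddSubgroup B)
    [DirectSum.Decomposition ℬ] (f : A →ₗ[R] B) (hf : GrLC.IsGrHom 𝒜A ℬ f)
    (hinj : Function.Injective f) {g : ι} {m : A} (hm : f m ∈ ℬ g) : m ∈ 𝒜A g := by
  have h1 : f (DirectSum.decompose 𝒜A m g : A) = f m := by
    rw [← decompose_grHom 𝒜A ℬ f hf m g, DirectSum.decompose_of_mem_same ℬ hm]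
  rw [← hinj h1]
  exact SetLike.coe_mem _

theorem δ_eq_conn (σ : M →ₗ[R] (E'.X 0).carrier) (hσu : ∀ m', σ (T.u m') = E'.ε m')
    (τ : M'' →ₗ[R] (Z1 E').carrier) (hτ : ∀ m, τ (T.v m) = (E'.d 0).rangeRestrict (σ m)) (i : ℕ)
    (x : (localCohomology a.toIdeal i).obj (ModuleCat.of R M'')) :
    δ a.toIdeal i T.ses_shortExact x =
      (toAcycRes E' a).conn i (((localCohomology a.toIdeal i).map (ModuleCat.ofHom τ)).hom x) := by
  let φ : T.ses ⟶ (toAcycRes E' a).ses :=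
    { τ₁ := 𝟙 _
      τ₂ := ModuleCat.ofHom σ
      τ₃ := ModuleCat.ofHom τ
      comm₁₂ := ModuleCat.hom_ext (LinearMap.ext fun m' => (hσu m').symm)
      comm₂₃ := ModuleCat.hom_ext (LinearMap.ext fun m => (hτ m).symm) }
  have h := δ_naturality a.toIdeal i T.ses_shortExact (toAcycRes E' a).ses_shortExact φ x
  have h2 : ((localCohomology a.toIdeal (i + 1)).map φ.τ₁).hom
      (δ a.toIdeal i T.ses_shortExact x) = δ a.toIdeal i T.ses_shortExact x := by
    change ((localCohomology a.toIdeal (i + 1)).map (𝟙 _)).hom _ = _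
    rw [CategoryTheory.Functor.map_id]
    rfl
  rw [h2] at h
  exact h.symm

theorem Hδ_succ_eq (τ : M'' →ₗ[R] (Z1 E').carrier)
    (hδ : ∀ (i : ℕ) (x : (localCohomology a.toIdeal i).obj (ModuleCat.of R M'')),
      δ a.toIdeal i T.ses_shortExact x =
        (toAcycRes E' a).conn i (((localCohomology a.toIdeal i).map (ModuleCat.ofHom τ)).hom x))
    (k : ℕ) (x : E''.H a (k + 1)) :
    T.Hδ a E' E'' (k + 1) x = Hmap a τ E'' (shiftRes E') (k + 1) x := by
  apply (θ E' a (k + 2)).injective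
  rw [θ_Hδ, θ_succ_succ, θ_Hmap, hδ]
  rfl

/-- **the connecting homomorphism is homogeneous** -/
theorem Hδ_isGrHom (i : ℕ) : GrLC.IsGrHom (E''.Hgr a i) (E'.Hgr a (i + 1)) (T.Hδ a E' E'' i) := by
  obtain ⟨σ, hσ, hσu⟩ := T.exists_σ E'
  obtain ⟨τ, hτ, hτv⟩ := T.exists_τ E' σ hσ hσu
  have hδ := T.δ_eq_conn a E' σ hσu τ hτv
  cases i with
  | succ k =>
    intro g x hx
    rw [T.Hδ_succ_eq a E' E'' τ hδ k x]
    exact Hmap_isGrHom a τ hτ E'' (shiftRes E') (k + 1) g x hx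
  | zero =>
    intro g x hx
    obtain ⟨z, hz, rfl⟩ := hx
    obtain ⟨m'', rfl⟩ := (toAcycRes E'' a).toCocycZero_bijective.2 z
    have hm : m''.1 ∈ ℳ'' g := mem_of_map_mem ℳ'' (E''.X 0).gr E''.ε E''.ε_grHom E''.ε_injective hz
    have hτm : (LinearMap.range (E'.d 0)).subtype (τ m''.1) ∈ (E'.X 1).gr g := hτ g _ hm
    have htors : (LinearMap.range (E'.d 0)).subtype (τ m''.1) ∈
        GrLC.gam a.toIdeal (E'.X 1).carrier :=
      DRing.map_mem_torsionSub a.toIdeal ((LinearMap.range (E'.d 0)).subtype ∘ₗ τ) m''.2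
    have hker : (LinearMap.range (E'.d 0)).subtype (τ m''.1) ∈ LinearMap.ker (E'.d 1) := by
      rw [E'.exact_succ 0]
      exact (τ m''.1).2
    let z' : (toAcycRes E' a).cocyc 1 :=
      ⟨(LinearMap.range (E'.d 0)).subtype (τ m''.1), htors, hker⟩
    refine ⟨z', hτm, ?_⟩
    apply (θ E' a 1).injective
    rw [θ_Hδ, hδ]
    change (toAcycRes E' a).equivOne ((toAcycRes E' a).toH 1 z') =
      (toAcycRes E' a).conn 0 (((localCohomology a.toIdeal 0).map (ModuleCat.ofHom τ)).hom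
        ((toAcycRes E'' a).equivZero ((toAcycRes E'' a).toH 0 ((toAcycRes E'' a).toCocycZero m''))))
    rw [AcycRes.equivOne_toH, AcycRes.equivZero_toH]
    change (toAcycRes E' a).conn 0 ((H0equiv a.toIdeal _).symm ((toAcycRes E' a).cocycOneTo z')) = _
    congr 1
    apply (H0equiv a.toIdeal
      (ModuleCat.of R (LinearMap.range ((toAcycRes E' a).d 0)))).injective
    rw [LinearEquiv.apply_symm_apply]
    apply Subtype.ext
    have h5 := H0equiv_map a.toIdeal (ModuleCat.ofHom τ)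
      ((H0equiv a.toIdeal (ModuleCat.of R M'')).symm m'')
    rw [LinearEquiv.apply_symm_apply] at h5
    exact h5.symm

end GrSES

end SES

end Groth.Agent.H98.GrStar
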