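import Groth.Agent.H98.GrStar.StarLocalPos

set_option autoImplicit false
set_option linter.unusedSectionVars false
universe u

/-!
# Homogeneous pieces of graded local cohomology lie in a Serre class of `R_0`-modules
-/

namespace Groth.Agent.H98.GrStar

open DirectSum CategoryTheory Groth.Agent.H98.LCRes Groth.Agent.H58.LC

/-- a Serre class of modules (in the universe `u`) over a ring -/
structure SerreClass (R₀ : Type u) [CommRing R₀]
    (𝒞 : ∀ (H : Type u) [AddCommGroup H] [Module R₀ H], Prop) : Prop where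
  zero : ∀ (H : Type u) [AddCommGroup H] [Module R₀ H], Subsingleton H → 𝒞 H
  of_exact : ∀ {H K L : Type u} [AddCommGroup H] [Module R₀ H] [AddCommGroup K] [Module R₀ K]
    [AddCommGroup L] [Module R₀ L] (f : H →ₗ[R₀] K) (g : K →ₗ[R₀] L),
    Function.Exact f g → 𝒞 H → 𝒞 L → 𝒞 K

namespace SerreClass

variable {R₀ : Type u} [CommRing R₀] {𝒞 : ∀ (H : Type u) [AddCommGroup H] [Module R₀ H], Prop}
  (hS : SerreClass R₀ 𝒞)
include hS

theorem of_injective {H K : Type u} [AddCommGroup H] [Module R₀ H] [AddCommGroup K] [Module R₀ K]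
    (f : H →ₗ[R₀] K) (hf : Function.Injective f) (hK : 𝒞 K) : 𝒞 H := by
  refine hS.of_exact (0 : PUnit.{u + 1} →ₗ[R₀] H) f ?_ (hS.zero _ inferInstance) hK
  intro y
  constructor
  · intro hy
    have h0 : y = 0 := hf (by rw [hy, map_zero])
    exact ⟨0, by rw [h0]; rfl⟩
  · rintro ⟨_, rfl⟩
    exact map_zero f

theorem of_surjective {H K : Type u} [AddCommGroup H] [Module R₀ H] [AddCommGroup K] [Module R₀ K]
    (f : H →ₗ[R₀] K) (hf : Function.Surjective f) (hH : 𝒞 H) : 𝒞 K := by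
  refine hS.of_exact f (0 : K →ₗ[R₀] PUnit.{u + 1}) ?_ hH (hS.zero _ inferInstance)
  intro y
  constructor
  · intro _
    exact hf y
  · intro _
    rfl

end SerreClass

section Quot

variable {ι : Type} [AddCommGroup ι] [DecidableEq ι]
variable {R : Type u} [CommRing R]
  {σ : Type u} [SetLike σ R] [AddSubgroupClass σ R]
  (𝒜 : ι → σ) [GradedRing 𝒜]

/-- the graded quotient `X / x X` for a homogeneous element `x` -/
noncomputable def quotSMul (X : GrLC.GMod.{u} 𝒜) {x : R} {e : ι} (hx : x ∈ 𝒜 e) : GrLC.GMod.{u} 𝒜 :=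
  quotGMod 𝒜 X.gr
    (Submodule.mkQ (LinearMap.range (x • (LinearMap.id : X.carrier →ₗ[R] X.carrier))))
    (Submodule.mkQ_surjective _)
    (by rw [Submodule.ker_mkQ]; exact range_smul_isHomogeneous 𝒜 X.gr hx)

instance quotSMul_finite (X : GrLC.GMod.{u} 𝒜) [Module.Finite R X.carrier] {x : R} {e : ι}
    (hx : x ∈ 𝒜 e) : Module.Finite R (quotSMul 𝒜 X hx).carrier :=
  inferInstanceAs (Module.Finite R
    (X.carrier ⧸ LinearMap.range (x • (LinearMap.id : X.carrier →ₗ[R] X.carrier))))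

/-- `0 → X(-e) → X → X/xX → 0` -/
noncomputable def quotSMulSES [IsNoetherianRing R] (X : GrLC.GMod.{u} 𝒜) {x : R} {e : ι}
    (hx : x ∈ 𝒜 e) (hreg : IsSMulRegular X.carrier x) :
    GrSES (R := R) (shM 𝒜 X.gr e).gr X.gr (quotSMul 𝒜 X hx).gr :=
  mulSES x hx hreg
    (Submodule.mkQ (LinearMap.range (x • (LinearMap.id : X.carrier →ₗ[R] X.carrier))))
    (Submodule.mkQ_surjective _)
    (quotGMod_isGrHom 𝒜 X.gr _ _ _)
    (Submodule.ker_mkQ _)

end Quot

section Pieces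

variable {ι : Type} [AddCommGroup ι] [DecidableEq ι]
variable {R : Type u} [CommRing R] [IsNoetherianRing R]
  {σ : Type u} [SetLike σ R] [AddSubgroupClass σ R]
  {𝒜 : ι → σ} [GradedRing 𝒜]
variable {M : Type u} [AddCommGroup M] [Module R M] {ℳ : ι → AddSubgroup M}
  [DirectSum.Decomposition ℳ] [SetLike.GradedSMul 𝒜 ℳ]
variable {N : Type u} [AddCommGroup N] [Module R N] {𝒩 : ι → AddSubgroup N}
  [DirectSum.Decomposition 𝒩] [SetLike.GradedSMul 𝒜 𝒩]

/-- restriction of a map of graded local cohomology modules to homogeneous pieces -/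
noncomputable def pieceMap (E : GrLC.StarInjRes 𝒜 ℳ) (F : GrLC.StarInjRes 𝒜 𝒩)
    (a : HomogeneousIdeal 𝒜) (i j : ℕ) (n n' : ι) (φ : E.H a i →ₗ[R] F.H a j)
    (h : ∀ x ∈ E.Hgr a i n, φ x ∈ F.Hgr a j n') :
    E.Hcomp a i n →ₗ[GrLC.deg0 𝒜] F.Hcomp a j n' :=
  (φ.restrictScalars (GrLC.deg0 𝒜)).restrict h

omit [IsNoetherianRing R] in
theorem pieceMap_coe (E : GrLC.StarInjRes 𝒜 ℳ) (F : GrLC.StarInjRes 𝒜 𝒩)
    (a : HomogeneousIdeal 𝒜) (i j : ℕ) (n n' : ι) (φ : E.H a i →ₗ[R] F.H a j)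
    (h : ∀ x ∈ E.Hgr a i n, φ x ∈ F.Hgr a j n') (z : E.Hcomp a i n) :
    (pieceMap E F a i j n n' φ h z : F.H a j) = φ z := rfl

/-- multiplication by a homogeneous element on pieces -/
noncomputable def smulPiece (E : GrLC.StarInjRes 𝒜 ℳ) (a : HomogeneousIdeal 𝒜) (i : ℕ)
    {e n n' : ι} {x : R} (hx : x ∈ 𝒜 e) (hn' : n' = e + n) :
    E.Hcomp a i n →ₗ[GrLC.deg0 𝒜] E.Hcomp a i n' :=
  pieceMap E E a i i n n' (x • LinearMap.id) (fun z hz => by
    subst hn'
    exact smul_mem_Hgr E a hx i z hz)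

omit [IsNoetherianRing R] in
theorem smulPiece_coe (E : GrLC.StarInjRes 𝒜 ℳ) (a : HomogeneousIdeal 𝒜) (i : ℕ)
    {e n n' : ι} {x : R} (hx : x ∈ 𝒜 e) (hn' : n' = e + n) (z : E.Hcomp a i n) :
    (smulPiece E a i hx hn' z : E.H a i) = x • (z : E.H a i) := rfl

end Pieces

section MulExact

variable {ι : Type} [AddCommGroup ι] [DecidableEq ι]
variable {R : Type u} [CommRing R] [IsNoetherianRing R]
  {σ : Type u} [SetLike σ R] [AddSubgroupClass σ R]
  {𝒜 : ι → σ} [GradedRing 𝒜]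
variable (X : GrLC.GMod.{u} 𝒜) {x : R} {e : ι} (hx : x ∈ 𝒜 e) (hreg : IsSMulRegular X.carrier x)
  (a : HomogeneousIdeal 𝒜) (E : GrLC.StarInjRes 𝒜 X.gr)
  (F : GrLC.StarInjRes 𝒜 (quotSMul 𝒜 X hx).gr)

/-- the connecting map `*H^j(X/xX)_{n+e} → *H^{j+1}(X)_n` on pieces -/
noncomputable def δPiece (j : ℕ) {n n' : ι} (hn' : n' = e + n) :
    F.Hcomp a j n' →ₗ[GrLC.deg0 𝒜] E.Hcomp a (j + 1) n :=
  pieceMap F E a j (j + 1) n' n ((quotSMulSES 𝒜 X hx hreg).Hδ a (shiftDeg E e) F j)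
    (fun y hy => by
      have h := (quotSMulSES 𝒜 X hx hreg).Hδ_isGrHom a (shiftDeg E e) F j n' y hy
      change _ ∈ E.Hgr a (j + 1) (n' - e) at h
      rw [hn', add_sub_cancel_left] at h
      exact h)

theorem exact_δPiece_smulPiece (j : ℕ) {n n' : ι} (hn' : n' = e + n) :
    Function.Exact (δPiece X hx hreg a E F j hn') (smulPiece E a (j + 1) hx hn') := by
  intro z
  constructor
  · intro hz
    have hxz : x • (z : E.H a (j + 1)) = 0 := congrArg Subtype.val hz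
    have hz' : (z : E.H a (j + 1)) ∈ (shiftDeg E e).Hgr a (j + 1) n' := by
      change _ ∈ E.Hgr a (j + 1) (n' - e)
      rw [hn', add_sub_cancel_left]
      exact z.2
    have h0 : Hmap a (quotSMulSES 𝒜 X hx hreg).u (shiftDeg E e) E (j + 1) z.1 = 0 := by
      rw [Hmap_shiftDeg_smul a E x e (quotSMulSES 𝒜 X hx hreg).u (fun m => rfl) (j + 1) z.1]
      exact hxz
    obtain ⟨y, hy, hyz⟩ :=
      (quotSMulSES 𝒜 X hx hreg).exact_left_deg a (shiftDeg E e) E F j n' z.1 hz' h0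
    exact ⟨⟨y, hy⟩, Subtype.ext hyz⟩
  · rintro ⟨y, rfl⟩
    apply Subtype.ext
    have h1 := Hmap_shiftDeg_smul a E x e (quotSMulSES 𝒜 X hx hreg).u (fun m => rfl) (j + 1)
      ((quotSMulSES 𝒜 X hx hreg).Hδ a (shiftDeg E e) F j y.1)
    have h2 := (quotSMulSES 𝒜 X hx hreg).Hmap_u_Hδ a (shiftDeg E e) E F j y.1
    rw [h2] at h1
    exact h1.symm

end MulExact

end Groth.Agent.H98.GrStar
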