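import Groth.Agent.H98.GrStar.ExtTorsion
import Mathlib.RingTheory.Filtration
import Mathlib.Algebra.Module.Injective

set_option autoImplicit false
universe u

/-!
# A module all of whose elements are killed by powers of a maximal ideal `m`, with
`Ext^1(R ⧸ m, E) = 0`, is injective (Noetherian base)
-/

namespace Groth.Agent.H98.GrStar

open CategoryTheory Abelian

variable {R : Type u} [CommRing R] [IsNoetherianRing R] {E : Type u} [AddCommGroup E] [Module R E]
variable (m : Ideal R) [hm : m.IsMaximal]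

include hm in
theorem baer_of_torsion (hκ : Ext1Vanish (R := R) E (R ⧸ m))
    (htors : ∀ x : E, ∃ n : ℕ, ∀ a ∈ m ^ n, a • x = 0) : Module.Baer R E := by
  intro J φ
  -- (a) a uniform exponent on the image of `φ`
  obtain ⟨n, hn⟩ : ∃ n : ℕ, ∀ a ∈ m ^ n, ∀ y : J, a • φ y = 0 := by
    obtain ⟨r, v, hv⟩ := Module.Finite.exists_fin (R := R) (M := J)
    choose nn hnn using fun i => htors (φ (v i))
    refine ⟨Finset.univ.sup nn, fun a ha y => ?_⟩
    have hy : y ∈ Submodule.span R (Set.range v) := by rw [hv]; exact Submodule.mem_top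
    induction hy using Submodule.span_induction with
    | mem y hy =>
      obtain ⟨i, rfl⟩ := hy
      exact hnn i a (Ideal.pow_le_pow_right (Finset.le_sup (Finset.mem_univ i)) ha)
    | zero => rw [map_zero, smul_zero]
    | add y z _ _ hy hz => rw [map_add, smul_add, hy, hz, add_zero]
    | smul c y _ hy => rw [map_smul, smul_comm, hy, smul_zero]
  -- (b) Artin–Rees
  obtain ⟨k₀, hk₀⟩ := Ideal.exists_pow_inf_eq_pow_smul m (J : Submodule R R)
  have hvan : ∀ y : J, (y : R) ∈ m ^ (n + k₀) → φ y = 0 := by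
    intro y hy
    have h1 : (y : R) ∈ m ^ (n + k₀) • (⊤ : Submodule R R) ⊓ J := by
      refine ⟨?_, y.2⟩
      rw [Ideal.smul_top_eq_map, Algebra.algebraMap_self, Ideal.map_id]
      exact hy
    rw [hk₀ (n + k₀) (Nat.le_add_left _ _), Nat.add_sub_cancel] at h1
    have hle : m ^ n • (m ^ k₀ • (⊤ : Submodule R R) ⊓ J) ≤
        Submodule.map (Submodule.subtype J) (LinearMap.ker φ) := by
      rw [Submodule.smul_le]
      intro a ha b hb
      have hbJ : b ∈ J := (Submodule.mem_inf.mp hb).2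
      refine ⟨a • ⟨b, hbJ⟩, ?_, rfl⟩
      change φ (a • ⟨b, hbJ⟩) = 0
      rw [map_smul]
      exact hn a ha _
    obtain ⟨y', hy', hyy'⟩ := hle h1
    have : y' = y := Subtype.ext hyy'
    rw [← this]
    exact hy'
  -- (c) pass to the quotient `R ⧸ m ^ (n + k₀)`
  let q : R →ₗ[R] (R ⧸ m ^ (n + k₀)) := (m ^ (n + k₀)).mkQ
  let ρ : J →ₗ[R] (R ⧸ m ^ (n + k₀)) := q ∘ₗ Submodule.subtype J
  have hker : LinearMap.ker ρ ≤ LinearMap.ker φ := by
    intro y hy
    exact hvan y ((Submodule.Quotient.mk_eq_zero _).mp hy)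
  let φ' : (J ⧸ LinearMap.ker ρ) →ₗ[R] E := (LinearMap.ker ρ).liftQ φ hker
  let φb : LinearMap.range ρ →ₗ[R] E := φ' ∘ₗ ρ.quotKerEquivRange.symm.toLinearMap
  have hφb : ∀ y : J, φb ⟨ρ y, ⟨y, rfl⟩⟩ = φ y := by
    intro y
    have h1 : ρ.quotKerEquivRange.symm ⟨ρ y, ⟨y, rfl⟩⟩ = Submodule.Quotient.mk y := by
      rw [LinearEquiv.symm_apply_eq]
      rfl
    change φ' (ρ.quotKerEquivRange.symm ⟨ρ y, ⟨y, rfl⟩⟩) = φ y
    rw [h1]
    rfl
  -- (d) extend over the quotient
  have hQ : Ext1Vanish (R := R) E ((R ⧸ m ^ (n + k₀)) ⧸ LinearMap.range ρ) := by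
    apply ext1Vanish_of_killed_pow m hκ (n + k₀)
    intro a ha z
    obtain ⟨z', rfl⟩ := Submodule.mkQ_surjective _ z
    obtain ⟨r, rfl⟩ := Submodule.mkQ_surjective _ z'
    rw [← map_smul, ← map_smul]
    have : (m ^ (n + k₀)).mkQ (a • r) = 0 :=
      (Submodule.Quotient.mk_eq_zero _).mpr (Ideal.mul_mem_right _ _ ha)
    rw [this, map_zero]
  obtain ⟨ψ, hψ⟩ := exists_extension_of_ext1Vanish (LinearMap.range ρ) hQ φb
  refine ⟨ψ ∘ₗ q, fun x hx => ?_⟩
  have h2 := LinearMap.congr_fun hψ ⟨ρ ⟨x, hx⟩, ⟨⟨x, hx⟩, rfl⟩⟩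
  rw [hφb] at h2
  exact h2

/-- a torsion module over a maximal ideal with `Ext^1(R ⧸ m, E) = 0` is injective -/
theorem injective_of_torsion (hκ : Ext1Vanish (R := R) E (R ⧸ m))
    (htors : ∀ x : E, ∃ n : ℕ, ∀ a ∈ m ^ n, a • x = 0) : Module.Injective R E :=
  (baer_of_torsion m hκ htors).injective

end Groth.Agent.H98.GrStar
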