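import Groth.Agent.H98.GrStar.Basic
import Mathlib.Algebra.DirectSum.Ring
import Mathlib.RingTheory.GradedAlgebra.Basic
import Mathlib.Algebra.Module.Hom
import Mathlib.Data.Finsupp.Basic

set_option autoImplicit false
universe u

/-!
# The cofree graded module `I[ι]` on an `R`-module `I`

For a `ι`-graded ring `R` and an `R`-module `I`, the group `ι →₀ I` with the twisted action
`r_d • single h y = single (d + h) (r_d • y)` is a graded `R`-module, right adjoint to the forgetful functor
from graded modules to modules.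
-/

noncomputable section

namespace Groth.Agent.H98.GrStar

open DirectSum

variable {ι : Type} [AddCommGroup ι] [DecidableEq ι]
variable {R : Type u} [CommRing R] {σ : Type u} [SetLike σ R] [AddSubgroupClass σ R]
  (𝒜 : ι → σ) [GradedRing 𝒜]

/-- the underlying type of the cofree graded module -/
def Cof (_𝒜 : ι → σ) (I : Type u) [AddCommGroup I] : Type u := ι →₀ I

namespace Cof

variable (I : Type u) [AddCommGroup I] [Module R I]

instance : AddCommGroup (Cof 𝒜 I) := inferInstanceAs (AddCommGroup (ι →₀ I))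

/-- the element `single h y` -/
def single (h : ι) (y : I) : Cof 𝒜 I := (Finsupp.single h y : ι →₀ I)

/-- the twist by a scalar `a` and a degree `d` -/
def twist (d : ι) (a : R) : (ι →₀ I) →+ (ι →₀ I) :=
  (Finsupp.mapDomain.addMonoidHom (fun h => d + h)).comp
    (Finsupp.mapRange.addMonoidHom (DistribSMul.toAddMonoidHom I a))

omit [DecidableEq ι] in
theorem twist_single (d : ι) (a : R) (h : ι) (y : I) :
    twist I d a (Finsupp.single h y) = Finsupp.single (d + h) (a • y) := by
  rw [twist, AddMonoidHom.comp_apply, Finsupp.mapRange.addMonoidHom_apply, Finsupp.mapRange_single,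
    Finsupp.mapDomain.addMonoidHom_apply, Finsupp.mapDomain_single]
  rfl

/-- the action of a homogeneous element of degree `d` -/
def actHom (d : ι) : 𝒜 d →+ AddMonoid.End (ι →₀ I) where
  toFun a := twist I d (a : R)
  map_zero' := by
    apply Finsupp.addHom_ext
    intro h y
    change twist I d ((0 : 𝒜 d) : R) (Finsupp.single h y) = 0
    rw [twist_single, ZeroMemClass.coe_zero, zero_smul, Finsupp.single_zero]
  map_add' a b := by
    apply Finsupp.addHom_ext
    intro h y
    change twist I d ((a + b : 𝒜 d) : R) (Finsupp.single h y) =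
      twist I d (a : R) (Finsupp.single h y) + twist I d (b : R) (Finsupp.single h y)
    have hab : ((a + b : 𝒜 d) : R) = (a : R) + (b : R) := rfl
    rw [twist_single, twist_single, twist_single, ← Finsupp.single_add, hab, add_smul]

theorem actHom_apply (d : ι) (a : 𝒜 d) (x : ι →₀ I) :
    actHom 𝒜 I d a x = twist I d (a : R) x := rfl

theorem actHom_one : actHom 𝒜 I 0 (GradedMonoid.GOne.one (A := fun i => ↥(𝒜 i))) = 1 := by
  apply Finsupp.addHom_ext
  intro h y
  change twist I 0 (((GradedMonoid.GOne.one (A := fun i => ↥(𝒜 i))) : 𝒜 0) : R) (Finsupp.single h y) =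
    Finsupp.single h y
  rw [twist_single, SetLike.coe_gOne, one_smul, zero_add]

theorem actHom_mul {i j : ι} (ai : 𝒜 i) (aj : 𝒜 j) :
    actHom 𝒜 I (i + j) (GradedMonoid.GMul.mul (A := fun i => ↥(𝒜 i)) ai aj) =
      actHom 𝒜 I i ai * actHom 𝒜 I j aj := by
  apply Finsupp.addHom_ext
  intro h y
  change twist I (i + j) ((GradedMonoid.GMul.mul (A := fun i => ↥(𝒜 i)) ai aj : 𝒜 (i + j)) : R)
      (Finsupp.single h y) =
    twist I i (ai : R) (twist I j (aj : R) (Finsupp.single h y))
  rw [twist_single, twist_single, twist_single, SetLike.coe_gMul, mul_smul, add_assoc]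

/-- the twisted action as a ring homomorphism -/
def actRingHom : R →+* AddMonoid.End (ι →₀ I) :=
  (DirectSum.toSemiring (actHom 𝒜 I) (actHom_one 𝒜 I) (actHom_mul 𝒜 I)).comp
    (DirectSum.decomposeRingEquiv 𝒜).toRingHom

theorem actRingHom_of_mem {d : ι} {r : R} (hr : r ∈ 𝒜 d) (h : ι) (y : I) :
    actRingHom 𝒜 I r (Finsupp.single h y) = Finsupp.single (d + h) (r • y) := by
  have h1 : DirectSum.decomposeRingEquiv 𝒜 r = DirectSum.of (fun i => 𝒜 i) d ⟨r, hr⟩ :=
    DirectSum.decompose_of_mem 𝒜 hr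
  simp only [actRingHom, RingHom.coe_comp, Function.comp_apply, RingEquiv.toRingHom_eq_coe,
    RingHom.coe_coe]
  rw [h1, DirectSum.toSemiring_of]
  exact twist_single I d r h y

instance : Module R (Cof 𝒜 I) := Module.compHom (ι →₀ I) (actRingHom 𝒜 I)

theorem smul_def (r : R) (x : Cof 𝒜 I) : r • x = actRingHom 𝒜 I r (x : ι →₀ I) := rfl

theorem smul_single_of_mem {d : ι} {r : R} (hr : r ∈ 𝒜 d) (h : ι) (y : I) :
    r • single 𝒜 I h y = single 𝒜 I (d + h) (r • y) :=
  actRingHom_of_mem 𝒜 I hr h y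

/-- the pieces of the cofree graded module -/
def gr (h : ι) : AddSubgroup (Cof 𝒜 I) :=
  AddMonoidHom.range (Finsupp.singleAddHom h : I →+ (ι →₀ I))

theorem mem_gr {h : ι} {x : Cof 𝒜 I} : x ∈ gr 𝒜 I h ↔ ∃ y : I, single 𝒜 I h y = x := Iff.rfl

theorem single_mem_gr (h : ι) (y : I) : single 𝒜 I h y ∈ gr 𝒜 I h := ⟨y, rfl⟩

/-- the decomposition map -/
def decomposeHom : Cof 𝒜 I →+ ⨁ h, gr 𝒜 I h :=
  Finsupp.liftAddHom (fun h => (DirectSum.of (fun h => gr 𝒜 I h) h).comp
    (Finsupp.singleAddHom h : I →+ (ι →₀ I)).rangeRestrict)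

theorem decomposeHom_single (h : ι) (y : I) :
    decomposeHom 𝒜 I (single 𝒜 I h y) =
      DirectSum.of (fun h => gr 𝒜 I h) h ⟨single 𝒜 I h y, single_mem_gr 𝒜 I h y⟩ := by
  change (Finsupp.liftAddHom _) (Finsupp.single h y) = _
  rw [Finsupp.liftAddHom_apply_single]
  rfl

instance : DirectSum.Decomposition (gr 𝒜 I) :=
  DirectSum.Decomposition.ofAddHom (gr 𝒜 I) (decomposeHom 𝒜 I)
    (by
      apply Finsupp.addHom_ext
      intro h y
      change (DirectSum.coeAddMonoidHom (gr 𝒜 I)) (decomposeHom 𝒜 I (single 𝒜 I h y)) = _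
      rw [decomposeHom_single, DirectSum.coeAddMonoidHom_of]
      rfl)
    (by
      apply DirectSum.addHom_ext
      rintro h ⟨x, y, rfl⟩
      change decomposeHom 𝒜 I (DirectSum.coeAddMonoidHom (gr 𝒜 I) _) = _
      rw [DirectSum.coeAddMonoidHom_of]
      exact decomposeHom_single 𝒜 I h y)

instance : SetLike.GradedSMul 𝒜 (gr 𝒜 I) where
  smul_mem := by
    rintro d h r x hr ⟨y, rfl⟩
    rw [vadd_eq_add]
    have := smul_single_of_mem 𝒜 I hr h y
    change r • single 𝒜 I h y ∈ _
    rw [this]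
    exact single_mem_gr 𝒜 I _ _

/-- the cofree graded module as a bundled graded module -/
def gmod : GrLC.GMod.{u} 𝒜 := GrLC.GMod.of 𝒜 (Cof 𝒜 I) (gr 𝒜 I)

end Cof

end Groth.Agent.H98.GrStar

end
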