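import Groth.Agent.H98.GrStar.Cofree
import Mathlib.Algebra.Module.Injective

set_option autoImplicit false
universe u

noncomputable section

namespace Groth.Agent.H98.GrStar

open DirectSum

variable {ι : Type} [AddCommGroup ι] [DecidableEq ι]
variable {R : Type u} [CommRing R] {σ : Type u} [SetLike σ R] [AddSubgroupClass σ R]
  (𝒜 : ι → σ) [GradedRing 𝒜]

namespace Cof

variable (I : Type u) [AddCommGroup I] [Module R I]

omit [AddCommGroup ι] [DecidableEq ι] in
theorem induction_on {p : Cof 𝒜 I → Prop} (x : Cof 𝒜 I) (h0 : p 0)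
    (hadd : ∀ a b, p a → p b → p (a + b)) (hsingle : ∀ h y, p (single 𝒜 I h y)) : p x :=
  Finsupp.induction_linear (motive := p) x h0 hadd hsingle

/-- `single h` as an additive map -/
def singleHom (h : ι) : I →+ Cof 𝒜 I := (Finsupp.singleAddHom h : I →+ (ι →₀ I))

omit [AddCommGroup ι] [DecidableEq ι] in
theorem singleHom_apply (h : ι) (y : I) : singleHom 𝒜 I h y = single 𝒜 I h y := rfl

omit [AddCommGroup ι] [DecidableEq ι] in
theorem single_add (h : ι) (y y' : I) : single 𝒜 I h (y + y') = single 𝒜 I h y + single 𝒜 I h y' :=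
  map_add (singleHom 𝒜 I h) y y'

omit [AddCommGroup ι] [DecidableEq ι] in
theorem single_zero (h : ι) : single 𝒜 I h (0 : I) = 0 := map_zero (singleHom 𝒜 I h)

/-- sum of the coordinates, as an additive map -/
def epsAdd : Cof 𝒜 I →+ I := Finsupp.liftAddHom (fun _ : ι => AddMonoidHom.id I)

omit [AddCommGroup ι] [DecidableEq ι] in
theorem epsAdd_single (h : ι) (y : I) : epsAdd 𝒜 I (single 𝒜 I h y) = y := by
  change (Finsupp.liftAddHom _) (Finsupp.single h y) = _
  rw [Finsupp.liftAddHom_apply_single]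
  rfl

theorem epsAdd_smul (r : R) (x : Cof 𝒜 I) : epsAdd 𝒜 I (r • x) = r • epsAdd 𝒜 I x := by
  induction r using DirectSum.Decomposition.inductionOn 𝒜 with
  | zero => simp
  | @homogeneous d r =>
    induction x using induction_on with
    | h0 => simp
    | hadd a b ha hb => rw [smul_add, map_add, ha, hb, map_add, smul_add]
    | hsingle h y => rw [smul_single_of_mem 𝒜 I r.2, epsAdd_single, epsAdd_single]
  | add a b ha hb => rw [add_smul, map_add, ha, hb, add_smul]

/-- the counit `I[ι] → I` -/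
def eps : Cof 𝒜 I →ₗ[R] I where
  toFun := epsAdd 𝒜 I
  map_add' := map_add _
  map_smul' := epsAdd_smul 𝒜 I

theorem eps_single (h : ι) (y : I) : eps 𝒜 I (single 𝒜 I h y) = y := epsAdd_single 𝒜 I h y

/-- the underlying finitely supported function -/
def toFinsupp (x : Cof 𝒜 I) : ι →₀ I := x

/-- evaluation of a coordinate -/
def coord (x : Cof 𝒜 I) (h : ι) : I := toFinsupp 𝒜 I x h

omit [AddCommGroup ι] in
theorem coord_single (h h' : ι) (y : I) :
    coord 𝒜 I (single 𝒜 I h y) h' = if h = h' then y else 0 := by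
  change (Finsupp.single h y : ι →₀ I) h' = _
  rw [Finsupp.single_apply]

omit [AddCommGroup ι] [DecidableEq ι] in
theorem ext_coord {x x' : Cof 𝒜 I} (h : ∀ i, coord 𝒜 I x i = coord 𝒜 I x' i) : x = x' :=
  Finsupp.ext (f := toFinsupp 𝒜 I x) (g := toFinsupp 𝒜 I x') h

omit [AddCommGroup ι] [DecidableEq ι] in
theorem coord_zero (h : ι) : coord 𝒜 I (0 : Cof 𝒜 I) h = 0 := rfl

omit [AddCommGroup ι] [DecidableEq ι] in
theorem coord_add (x x' : Cof 𝒜 I) (h : ι) :
    coord 𝒜 I (x + x') h = coord 𝒜 I x h + coord 𝒜 I x' h := rfl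

section Coind

variable {I}
variable {M : Type u} [AddCommGroup M] [Module R M] (ℳ : ι → AddSubgroup M)
  [DirectSum.Decomposition ℳ] [SetLike.GradedSMul 𝒜 ℳ]

/-- the graded map `M → I[ι]` attached to a linear map `M → I`, as an additive map -/
def coindAdd (μ : M →ₗ[R] I) : M →+ Cof 𝒜 I :=
  (DirectSum.toAddMonoid (fun h => (singleHom 𝒜 I h).comp
    (μ.toAddMonoidHom.comp (ℳ h).subtype))).comp (DirectSum.decomposeAddEquiv ℳ).toAddMonoidHom

omit [SetLike.GradedSMul 𝒜 ℳ] in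
theorem coindAdd_of_mem (μ : M →ₗ[R] I) {h : ι} {m : M} (hm : m ∈ ℳ h) :
    coindAdd 𝒜 ℳ μ m = single 𝒜 I h (μ m) := by
  change (DirectSum.toAddMonoid _) (DirectSum.decompose ℳ m) = _
  rw [DirectSum.decompose_of_mem ℳ hm, DirectSum.toAddMonoid_of]
  rfl

omit [SetLike.GradedSMul 𝒜 ℳ] in
theorem coord_coindAdd (μ : M →ₗ[R] I) (m : M) (h : ι) :
    coord 𝒜 I (coindAdd 𝒜 ℳ μ m) h = μ (DirectSum.decompose ℳ m h : M) := by
  induction m using DirectSum.Decomposition.inductionOn ℳ with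
  | zero => simp [coord_zero]
  | @homogeneous j m =>
    rw [coindAdd_of_mem 𝒜 ℳ μ m.2, coord_single]
    by_cases hjh : j = h
    · subst hjh
      rw [if_pos rfl, DirectSum.decompose_of_mem_same ℳ m.2]
    · rw [if_neg hjh, DirectSum.decompose_of_mem_ne ℳ m.2 hjh, map_zero]
  | add a b ha hb =>
    rw [map_add, coord_add, ha, hb, DirectSum.decompose_add, DirectSum.add_apply,
      AddSubgroup.coe_add, map_add]

theorem coindAdd_smul (μ : M →ₗ[R] I) (r : R) (m : M) :
    coindAdd 𝒜 ℳ μ (r • m) = r • coindAdd 𝒜 ℳ μ m := by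
  induction r using DirectSum.Decomposition.inductionOn 𝒜 with
  | zero => simp
  | @homogeneous d r =>
    induction m using DirectSum.Decomposition.inductionOn ℳ with
    | zero => simp
    | @homogeneous h m =>
      have hmem : (r : R) • (m : M) ∈ ℳ (d + h) := by
        have := SetLike.GradedSMul.smul_mem (A := 𝒜) (B := ℳ) r.2 m.2
        rwa [vadd_eq_add] at this
      rw [coindAdd_of_mem 𝒜 ℳ μ hmem, coindAdd_of_mem 𝒜 ℳ μ m.2, smul_single_of_mem 𝒜 I r.2,
        map_smul]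
    | add a b ha hb => rw [smul_add, map_add, ha, hb, map_add, smul_add]
  | add a b ha hb => rw [add_smul, map_add, ha, hb, add_smul]

/-- the graded map `M → I[ι]` attached to a linear map `M → I` -/
def coind (μ : M →ₗ[R] I) : M →ₗ[R] Cof 𝒜 I where
  toFun := coindAdd 𝒜 ℳ μ
  map_add' := map_add _
  map_smul' := coindAdd_smul 𝒜 ℳ μ

theorem coind_of_mem (μ : M →ₗ[R] I) {h : ι} {m : M} (hm : m ∈ ℳ h) :
    coind 𝒜 ℳ μ m = single 𝒜 I h (μ m) := coindAdd_of_mem 𝒜 ℳ μ hm

theorem coind_isGrHom (μ : M →ₗ[R] I) : GrLC.IsGrHom ℳ (gr 𝒜 I) (coind 𝒜 ℳ μ) := by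
  intro h m hm
  rw [coind_of_mem 𝒜 ℳ μ hm]
  exact single_mem_gr 𝒜 I h _

theorem eps_coind (μ : M →ₗ[R] I) (m : M) : eps 𝒜 I (coind 𝒜 ℳ μ m) = μ m := by
  induction m using DirectSum.Decomposition.inductionOn ℳ with
  | zero => simp
  | @homogeneous h m => rw [coind_of_mem 𝒜 ℳ μ m.2, eps_single]
  | add a b ha hb => rw [map_add, map_add, ha, hb, map_add]

theorem coind_injective (μ : M →ₗ[R] I) (hμ : Function.Injective μ) :
    Function.Injective (coind 𝒜 ℳ μ) := by
  rw [← LinearMap.ker_eq_bot, LinearMap.ker_eq_bot']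
  intro m hm
  apply eq_zero_of_decompose_eq_zero ℳ
  intro h
  apply hμ
  rw [map_zero, ← coord_coindAdd 𝒜 ℳ μ m h]
  change coord 𝒜 I (coind 𝒜 ℳ μ m) h = 0
  rw [hm, coord_zero]

/-- uniqueness in the adjunction -/
theorem eq_coind (μ : M →ₗ[R] I) (Ψ : M →ₗ[R] Cof 𝒜 I) (hΨ : GrLC.IsGrHom ℳ (gr 𝒜 I) Ψ)
    (hε : ∀ m, eps 𝒜 I (Ψ m) = μ m) : Ψ = coind 𝒜 ℳ μ := by
  ext m
  induction m using DirectSum.Decomposition.inductionOn ℳ with
  | zero => simp
  | @homogeneous h m =>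
    obtain ⟨y, hy⟩ := (mem_gr 𝒜 I).mp (hΨ h m m.2)
    have h1 := hε m
    rw [← hy, eps_single] at h1
    rw [coind_of_mem 𝒜 ℳ μ m.2, ← hy, h1]
  | add a b ha hb => rw [map_add, map_add, ha, hb]

end Coind

/-- the cofree graded module on an injective module is *injective -/
theorem isStarInj [Module.Injective R I] : GrLC.IsStarInj 𝒜 (gr 𝒜 I) := by
  intro A B f hf hfinj g hg
  obtain ⟨μ, hμ⟩ := Module.Injective.out (R := R) (Q := I) f hfinj ((eps 𝒜 I).comp g)
  refine ⟨coind 𝒜 B.gr μ, coind_isGrHom 𝒜 B.gr μ, ?_⟩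
  have h1 : g = coind 𝒜 A.gr ((eps 𝒜 I).comp g) :=
    eq_coind 𝒜 A.gr _ g hg (fun m => rfl)
  have h2 : (coind 𝒜 B.gr μ).comp f = coind 𝒜 A.gr ((eps 𝒜 I).comp g) := by
    apply eq_coind 𝒜 A.gr
    · intro h m hm
      exact coind_isGrHom 𝒜 B.gr μ h _ (hf h m hm)
    · intro m
      rw [LinearMap.comp_apply, eps_coind, hμ]
  rw [h2, ← h1]

end Cof

end Groth.Agent.H98.GrStar

end
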