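import Mathlib.Algebra.Category.ModuleCat.Ext.DimensionShifting
import Mathlib.Algebra.Category.ModuleCat.Projective
import Mathlib.Algebra.Module.Torsion.Basic
import Mathlib.RingTheory.Finiteness.Quotient
import Mathlib.RingTheory.Noetherian.Basic

set_option autoImplicit false
universe u

/-!
# Vanishing of `Ext^1(-, E)`: closure under extensions; modules killed by a power of a
maximal ideal
-/

namespace Groth.Agent.H98.GrStar

open CategoryTheory Abelian

variable {R : Type u} [CommRing R]

/-- the class of modules `N` with `Ext^1(N, E) = 0` -/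
def Ext1Vanish (E : Type u) [AddCommGroup E] [Module R E] (N : Type u) [AddCommGroup N]
    [Module R N] : Prop :=
  Subsingleton (Ext.{u} (ModuleCat.of R N) (ModuleCat.of R E) 1)

variable {E : Type u} [AddCommGroup E] [Module R E]
variable {N N' : Type u} [AddCommGroup N] [Module R N] [AddCommGroup N'] [Module R N']

theorem ext1Vanish_of_equiv (e : N ≃ₗ[R] N') (h : Ext1Vanish (R := R) E N') :
    Ext1Vanish (R := R) E N := by
  refine ⟨fun a b => ?_⟩
  have key : ∀ x : Ext.{u} (ModuleCat.of R N) (ModuleCat.of R E) 1, x = 0 := by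
    intro x
    have hfg : ModuleCat.ofHom e.toLinearMap ≫ ModuleCat.ofHom e.symm.toLinearMap =
        𝟙 (ModuleCat.of R N) := by
      ext y
      exact e.symm_apply_apply y
    have h1 := Ext.mk₀_comp_mk₀_assoc (ModuleCat.ofHom e.toLinearMap)
      (ModuleCat.ofHom e.symm.toLinearMap) x
    rw [hfg, Ext.mk₀_id_comp] at h1
    have h2 : (Ext.mk₀ (ModuleCat.ofHom e.symm.toLinearMap)).comp x (zero_add 1) = 0 :=
      h.elim _ _
    rw [← h1, h2, Ext.comp_zero]
  exact (key a).trans (key b).symm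

theorem ext1Vanish_of_subsingleton [Subsingleton N] : Ext1Vanish (R := R) E N :=
  ⟨fun a b => (Ext.eq_zero_of_projective a).trans (Ext.eq_zero_of_projective b).symm⟩

/-- the short exact sequence `0 → P → N → N ⧸ P → 0` -/
theorem shortExact_of_submodule (P : Submodule R N) :
    (ShortComplex.mk (ModuleCat.ofHom P.subtype) (ModuleCat.ofHom P.mkQ) (by
      ext x
      exact (Submodule.Quotient.mk_eq_zero P).mpr x.2)).ShortExact where
  exact := (ShortComplex.ShortExact.moduleCat_exact_iff_function_exact _).mpr (by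
    intro y
    constructor
    · intro hy
      exact ⟨⟨y, (Submodule.Quotient.mk_eq_zero P).mp hy⟩, rfl⟩
    · rintro ⟨x, rfl⟩
      exact (Submodule.Quotient.mk_eq_zero P).mpr x.2)
  mono_f := (ModuleCat.mono_iff_injective _).mpr P.injective_subtype
  epi_g := (ModuleCat.epi_iff_surjective _).mpr P.mkQ_surjective

/-- `Ext^1`-vanishing is closed under extensions -/
theorem ext1Vanish_of_submodule (P : Submodule R N) (h₁ : Ext1Vanish (R := R) E P)
    (h₃ : Ext1Vanish (R := R) E (N ⧸ P)) : Ext1Vanish (R := R) E N := by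
  have hS := shortExact_of_submodule P
  refine ⟨fun a b => ?_⟩
  have key : ∀ x : Ext.{u} (ModuleCat.of R N) (ModuleCat.of R E) 1, x = 0 := by
    intro x
    have h0 : (Ext.mk₀ (ModuleCat.ofHom P.subtype)).comp x (zero_add 1) = 0 := h₁.elim _ _
    obtain ⟨x₃, hx₃⟩ := Ext.contravariant_sequence_exact₂ hS _ x h0
    have : x₃ = 0 := h₃.elim _ _
    rw [← hx₃, this, Ext.comp_zero]
  exact (key a).trans (key b).symm

/-- if `Ext^1(N ⧸ P, E) = 0` then every map `P → E` extends to `N` -/
theorem exists_extension_of_ext1Vanish (P : Submodule R N) (h₃ : Ext1Vanish (R := R) E (N ⧸ P))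
    (φ : P →ₗ[R] E) : ∃ ψ : N →ₗ[R] E, ψ ∘ₗ P.subtype = φ := by
  have hS := shortExact_of_submodule P
  have h0 : hS.extClass.comp (Ext.mk₀ (ModuleCat.ofHom φ)) (add_zero 1) = 0 := h₃.elim _ _
  obtain ⟨x₂, hx₂⟩ := Ext.contravariant_sequence_exact₁ hS _ (Ext.mk₀ (ModuleCat.ofHom φ))
    (add_zero 1) h0
  obtain ⟨ψ, rfl⟩ := (Ext.mk₀_bijective _ _).2 x₂
  rw [Ext.mk₀_comp_mk₀] at hx₂
  have h1 := (Ext.mk₀_bijective _ _).1 hx₂
  refine ⟨ψ.hom, ?_⟩
  ext x
  have h2 := congrArg (fun f => f.hom x) h1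
  exact h2

end Groth.Agent.H98.GrStar
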