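import Groth.Agent.H98.GrStar.ExtLemmas

set_option autoImplicit false
universe u

/-!
# `Ext^1(N, E) = 0` for finitely generated `N` killed by a power of a maximal ideal `m`,
given `Ext^1(R ⧸ m, E) = 0`
-/

namespace Groth.Agent.H98.GrStar

open CategoryTheory Abelian

variable {R : Type u} [CommRing R] {E : Type u} [AddCommGroup E] [Module R E]
variable (m : Ideal R) [hm : m.IsMaximal]

include hm in
theorem ext1Vanish_span_singleton (hκ : Ext1Vanish (R := R) E (R ⧸ m))
    {N : Type u} [AddCommGroup N] [Module R N]
    (hN : ∀ a ∈ m, ∀ x : N, a • x = 0) (x : N) :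
    Ext1Vanish (R := R) E (Submodule.span R {x}) := by
  have hle : m ≤ Ideal.torsionOf R N x := by
    intro a ha
    rw [Ideal.mem_torsionOf_iff]
    exact hN a ha x
  by_cases htop : Ideal.torsionOf R N x = ⊤
  · have hx : x = 0 := by
      have : (1 : R) ∈ Ideal.torsionOf R N x := by rw [htop]; exact Submodule.mem_top
      rw [Ideal.mem_torsionOf_iff, one_smul] at this
      exact this
    have : Subsingleton (Submodule.span R {x}) := by
      rw [hx, Submodule.span_zero_singleton]
      infer_instance
    exact ext1Vanish_of_subsingleton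
  · have heq : m = Ideal.torsionOf R N x := hm.eq_of_le htop hle
    exact ext1Vanish_of_equiv
      ((Ideal.quotTorsionOfEquivSpanSingleton R N x).symm.trans
        (Submodule.quotEquivOfEq _ _ heq.symm)) hκ

include hm in
theorem ext1Vanish_of_killed (hκ : Ext1Vanish (R := R) E (R ⧸ m)) (r : ℕ) :
    ∀ (N : Type u) [AddCommGroup N] [Module R N], (∀ a ∈ m, ∀ x : N, a • x = 0) →
      (∃ v : Fin r → N, Submodule.span R (Set.range v) = ⊤) → Ext1Vanish (R := R) E N := by
  induction r with
  | zero =>
    intro N _ _ _ ⟨v, hv⟩
    have : Subsingleton N := by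
      have hrange : Set.range v = ∅ := Set.range_eq_empty v
      rw [hrange, Submodule.span_empty] at hv
      exact (Submodule.subsingleton_iff R).mp (subsingleton_of_bot_eq_top hv)
    exact ext1Vanish_of_subsingleton
  | succ r ih =>
    intro N _ _ hN ⟨v, hv⟩
    have h₁ := ext1Vanish_span_singleton m hκ hN (v 0)
    refine ext1Vanish_of_submodule (Submodule.span R {v 0}) h₁ ?_
    apply ih (N ⧸ Submodule.span R {v 0})
    · intro a ha y
      obtain ⟨x, rfl⟩ := Submodule.mkQ_surjective _ y
      rw [← map_smul, hN a ha x, map_zero]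
    · refine ⟨fun i => (Submodule.span R {v 0}).mkQ (v i.succ), ?_⟩
      rw [eq_top_iff]
      rintro y -
      obtain ⟨x, rfl⟩ := Submodule.mkQ_surjective _ y
      have hx : x ∈ Submodule.span R (Set.range v) := by rw [hv]; exact Submodule.mem_top
      have hle : Submodule.span R (Set.range v) ≤
          (Submodule.span R (Set.range fun i : Fin r =>
            (Submodule.span R {v 0}).mkQ (v i.succ))).comap (Submodule.span R {v 0}).mkQ := by
        rw [Submodule.span_le]
        rintro _ ⟨i, rfl⟩
        rw [SetLike.mem_coe, Submodule.mem_comap]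
        refine Fin.cases ?_ (fun j => ?_) i
        · have : (Submodule.span R {v 0}).mkQ (v 0) = 0 :=
            (Submodule.Quotient.mk_eq_zero _).mpr (Submodule.mem_span_singleton_self _)
          rw [this]
          exact Submodule.zero_mem _
        · exact Submodule.subset_span ⟨j, rfl⟩
      exact hle hx

include hm in
theorem ext1Vanish_of_killed_pow [IsNoetherianRing R] (hκ : Ext1Vanish (R := R) E (R ⧸ m))
    (k : ℕ) :
    ∀ (N : Type u) [AddCommGroup N] [Module R N] [Module.Finite R N],
      (∀ a ∈ m ^ k, ∀ x : N, a • x = 0) → Ext1Vanish (R := R) E N := by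
  induction k with
  | zero =>
    intro N _ _ _ hN
    have : Subsingleton N := by
      refine ⟨fun x y => ?_⟩
      have hx := hN 1 (by rw [pow_zero, Ideal.one_eq_top]; exact Submodule.mem_top) x
      have hy := hN 1 (by rw [pow_zero, Ideal.one_eq_top]; exact Submodule.mem_top) y
      rw [one_smul] at hx hy
      rw [hx, hy]
    exact ext1Vanish_of_subsingleton
  | succ k ih =>
    intro N _ _ _ hN
    have : IsNoetherian R N := isNoetherian_of_isNoetherianRing_of_finite R N
    refine ext1Vanish_of_submodule (m • (⊤ : Submodule R N)) ?_ ?_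
    · apply ih
      intro a ha y
      apply Subtype.ext
      change a • (y : N) = 0
      refine Submodule.smul_induction_on y.2 ?_ ?_
      · intro b hb x _
        rw [smul_smul]
        apply hN
        rw [pow_succ]
        exact Ideal.mul_mem_mul ha hb
      · intro x y hx hy
        rw [smul_add, hx, hy, add_zero]
    · obtain ⟨r, v, hv⟩ := Module.Finite.exists_fin (R := R) (M := N ⧸ m • (⊤ : Submodule R N))
      apply ext1Vanish_of_killed m hκ r _ _ ⟨v, hv⟩
      intro a ha y
      obtain ⟨x, rfl⟩ := Submodule.mkQ_surjective _ y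
      rw [← map_smul]
      exact (Submodule.Quotient.mk_eq_zero _).mpr
        (Submodule.smul_mem_smul ha Submodule.mem_top)

end Groth.Agent.H98.GrStar
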