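import Groth.Agent.H98.GrStar.HomComp
import Mathlib.Algebra.Category.ModuleCat.Ext.DimensionShifting
import Mathlib.Algebra.Category.ModuleCat.Projective

set_option autoImplicit false
universe u

/-!
# `Ext^i_R(M, I) = 0` for `M` finitely generated graded and `I` *injective
-/

namespace Groth.Agent.H98.GrStar

open DirectSum CategoryTheory Abelian

variable {ι : Type} [AddCommGroup ι] [DecidableEq ι]
variable {R : Type u} [CommRing R] [IsNoetherianRing R]
  {σ : Type u} [SetLike σ R] [AddSubgroupClass σ R]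
  (𝒜 : ι → σ) [GradedRing 𝒜]
variable {I : Type u} [AddCommGroup I] [Module R I] (ℐ : ι → AddSubgroup I)
  [DirectSum.Decomposition ℐ] [SetLike.GradedSMul 𝒜 ℐ]

theorem ext_subsingleton (hI : GrLC.IsStarInj 𝒜 ℐ) (i : ℕ) (hi : 1 ≤ i) :
    ∀ X : GrLC.GMod.{u} 𝒜, Module.Finite R X.carrier →
      Subsingleton (Ext.{u} (ModuleCat.of R X.carrier) (ModuleCat.of R I) i) := by
  induction i, hi using Nat.le_induction with
  | base =>
    intro X hfin
    obtain ⟨F, π, hfree, hfinF, hπs, hπg⟩ := exists_free_cover' 𝒜 X.gr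
    have hS := LinearMap.shortExact_shortComplexKer hπs
    have hrange : (LinearMap.range (LinearMap.ker π).subtype).IsHomogeneous F.gr := by
      rw [Submodule.range_subtype]
      exact ker_isHomogeneous F.gr X.gr π hπg
    have hfinK : Module.Finite R (LinearMap.ker π) := inferInstance
    have hfinK' : Module.Finite R (subGMod 𝒜 F.gr (LinearMap.ker π).subtype
          (Submodule.injective_subtype _) hrange).carrier := hfinK
    have key : ∀ x₃ : Ext.{u} (ModuleCat.of R X.carrier) (ModuleCat.of R I) 1, x₃ = 0 := by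
      intro x₃
      have h0 : (Ext.mk₀ π.shortComplexKer.g).comp x₃ (zero_add 1) = 0 :=
        Ext.eq_zero_of_projective _
      obtain ⟨x₁, hx₁⟩ := Ext.contravariant_sequence_exact₃ hS _ x₃ h0 (add_zero 1)
      obtain ⟨φ, rfl⟩ := (Ext.mk₀_bijective _ _).2 x₁
      obtain ⟨ψ, hψ⟩ := exists_extension 𝒜 ℐ hI F
        (subGMod 𝒜 F.gr (LinearMap.ker π).subtype
          (Submodule.injective_subtype _) hrange)
        (LinearMap.ker π).subtype (fun _ _ h => h) (Submodule.injective_subtype _) φ.hom
      have hφ : φ = π.shortComplexKer.f ≫ ModuleCat.ofHom ψ := by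
        ext x
        exact (LinearMap.congr_fun hψ x).symm
      rw [← hx₁, hφ, ← Ext.mk₀_comp_mk₀]
      exact hS.extClass_comp_assoc _
    exact ⟨fun a b => (key a).trans (key b).symm⟩
  | succ n hn ih =>
    intro X hfin
    obtain ⟨F, π, hfree, hfinF, hπs, hπg⟩ := exists_free_cover' 𝒜 X.gr
    have hS := LinearMap.shortExact_shortComplexKer hπs
    have hrange : (LinearMap.range (LinearMap.ker π).subtype).IsHomogeneous F.gr := by
      rw [Submodule.range_subtype]
      exact ker_isHomogeneous F.gr X.gr π hπg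
    have hfinK : Module.Finite R (LinearMap.ker π) := inferInstance
    have hK := ih (subGMod 𝒜 F.gr (LinearMap.ker π).subtype
          (Submodule.injective_subtype _) hrange) hfinK
    have key : ∀ x₃ : Ext.{u} (ModuleCat.of R X.carrier) (ModuleCat.of R I) (n + 1), x₃ = 0 := by
      intro x₃
      have h0 : (Ext.mk₀ π.shortComplexKer.g).comp x₃ (zero_add (n + 1)) = 0 :=
        Ext.eq_zero_of_projective _
      obtain ⟨x₁, hx₁⟩ := Ext.contravariant_sequence_exact₃ hS _ x₃ h0 (add_comm 1 n)
      have hx₁0 : x₁ = 0 := hK.elim _ _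
      rw [← hx₁, hx₁0, Ext.comp_zero]
    exact ⟨fun a b => (key a).trans (key b).symm⟩

end Groth.Agent.H98.GrStar
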