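import Groth.Agent.H98.GrStar.Lift
import Groth.Agent.H98.GrStar.LCCompare
import Groth.Agent.H98.LCRes.Natural

set_option autoImplicit false
universe u

/-!
# Functoriality and the long exact sequence of graded local cohomology computed from
*injective resolutions
-/

namespace Groth.Agent.H98.GrStar

open DirectSum CategoryTheory Groth.Agent.H98.LCRes Groth.Agent.H58.LC

variable {ι : Type} [AddCommGroup ι] [DecidableEq ι]
variable {R : Type u} [CommRing R] [IsNoetherianRing R]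
  {σ : Type u} [SetLike σ R] [AddSubgroupClass σ R]
  {𝒜 : ι → σ} [GradedRing 𝒜]
variable {M : Type u} [AddCommGroup M] [Module R M] {ℳ : ι → AddSubgroup M}
  [DirectSum.Decomposition ℳ] [SetLike.GradedSMul 𝒜 ℳ]
variable {N : Type u} [AddCommGroup N] [Module R N] {𝒩 : ι → AddSubgroup N}
  [DirectSum.Decomposition 𝒩] [SetLike.GradedSMul 𝒜 𝒩]

/-- the comparison isomorphism `*H^i_a(M) ≃ H^i_a(M)` -/
noncomputable def θ (E : GrLC.StarInjRes 𝒜 ℳ) (a : HomogeneousIdeal 𝒜) (i : ℕ) :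
    E.H a i ≃ₗ[R] LocCoh.H a.toIdeal i M :=
  (toAcycRes E a).equiv i


/-- a lift of `f` to the resolutions, as a morphism of acyclic resolutions -/
def liftHom (E : GrLC.StarInjRes 𝒜 ℳ) (F : GrLC.StarInjRes 𝒜 𝒩) (a : HomogeneousIdeal 𝒜)
    (f : M →ₗ[R] N) (φ : ∀ n, (E.X n).carrier →ₗ[R] (F.X n).carrier)
    (h0 : ∀ m, φ 0 (E.ε m) = F.ε (f m)) (hd : ∀ n x, φ (n + 1) (E.d n x) = F.d n (φ n x)) :
    AcycRes.Hom (toAcycRes E a) (toAcycRes F a) f where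
  φ := φ
  comm_ε := h0
  comm := hd

/-- the map induced on graded local cohomology by a linear map of the modules -/
noncomputable def Hmap (a : HomogeneousIdeal 𝒜) (f : M →ₗ[R] N) (E : GrLC.StarInjRes 𝒜 ℳ)
    (F : GrLC.StarInjRes 𝒜 𝒩) (i : ℕ) : E.H a i →ₗ[R] F.H a i :=
  (θ F a i).symm.toLinearMap ∘ₗ
    ((localCohomology a.toIdeal i).map (ModuleCat.ofHom f)).hom ∘ₗ (θ E a i).toLinearMap

theorem Hmap_apply (a : HomogeneousIdeal 𝒜) (f : M →ₗ[R] N) (E : GrLC.StarInjRes 𝒜 ℳ)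
    (F : GrLC.StarInjRes 𝒜 𝒩) (i : ℕ) (x : E.H a i) :
    Hmap a f E F i x =
      (θ F a i).symm (((localCohomology a.toIdeal i).map (ModuleCat.ofHom f)).hom (θ E a i x)) :=
  rfl

theorem θ_Hmap (a : HomogeneousIdeal 𝒜) (f : M →ₗ[R] N) (E : GrLC.StarInjRes 𝒜 ℳ)
    (F : GrLC.StarInjRes 𝒜 𝒩) (i : ℕ) (x : E.H a i) :
    θ F a i (Hmap a f E F i x) =
      ((localCohomology a.toIdeal i).map (ModuleCat.ofHom f)).hom (θ E a i x) := by
  rw [Hmap_apply, LinearEquiv.apply_symm_apply]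

/-- `Hmap` is computed by any lift -/
theorem Hmap_eq_mapH (a : HomogeneousIdeal 𝒜) (f : M →ₗ[R] N) (E : GrLC.StarInjRes 𝒜 ℳ)
    (F : GrLC.StarInjRes 𝒜 𝒩) (h : AcycRes.Hom (toAcycRes E a) (toAcycRes F a) f)
    (i : ℕ) (x : E.H a i) : Hmap a f E F i x = h.mapH i x := by
  rw [Hmap_apply, LinearEquiv.symm_apply_eq]
  exact (h.naturality i x).symm

/-- `Hmap` of a homogeneous map is homogeneous -/
theorem Hmap_isGrHom (a : HomogeneousIdeal 𝒜) (f : M →ₗ[R] N) (hf : GrLC.IsGrHom ℳ 𝒩 f)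
    (E : GrLC.StarInjRes 𝒜 ℳ) (F : GrLC.StarInjRes 𝒜 𝒩) (i : ℕ) :
    GrLC.IsGrHom (E.Hgr a i) (F.Hgr a i) (Hmap a f E F i) := by
  obtain ⟨φ, hφ, h0, hd⟩ := exists_lift E F f hf
  intro g x hx
  obtain ⟨z, hz, rfl⟩ := hx
  rw [Hmap_eq_mapH a f E F (liftHom E F a f φ h0 hd)]
  cases i with
  | zero => exact ⟨(liftHom E F a f φ h0 hd).mapCocyc 0 z, hφ 0 g _ hz, rfl⟩
  | succ k => exact ⟨(liftHom E F a f φ h0 hd).mapCocyc (k + 1) z, hφ (k + 1) g _ hz, rfl⟩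


/-! ### functoriality -/

theorem Hmap_id (a : HomogeneousIdeal 𝒜) (E : GrLC.StarInjRes 𝒜 ℳ) (i : ℕ) (x : E.H a i) :
    Hmap a LinearMap.id E E i x = x := by
  rw [Hmap_apply, LinearEquiv.symm_apply_eq]
  have : ModuleCat.ofHom (LinearMap.id : M →ₗ[R] M) = 𝟙 (ModuleCat.of R M) := rfl
  rw [this, CategoryTheory.Functor.map_id]
  rfl

theorem Hmap_comp {P : Type u} [AddCommGroup P] [Module R P] {𝒬 : ι → AddSubgroup P}
    [DirectSum.Decomposition 𝒬] [SetLike.GradedSMul 𝒜 𝒬]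
    (a : HomogeneousIdeal 𝒜) (f : M →ₗ[R] N) (g : N →ₗ[R] P) (E : GrLC.StarInjRes 𝒜 ℳ)
    (F : GrLC.StarInjRes 𝒜 𝒩) (G : GrLC.StarInjRes 𝒜 𝒬) (i : ℕ) (x : E.H a i) :
    Hmap a (g ∘ₗ f) E G i x = Hmap a g F G i (Hmap a f E F i x) := by
  rw [Hmap_apply, Hmap_apply, θ_Hmap]
  have : ModuleCat.ofHom (g ∘ₗ f) = ModuleCat.ofHom f ≫ ModuleCat.ofHom g := rfl
  rw [this, CategoryTheory.Functor.map_comp]
  rfl

theorem Hmap_smul (a : HomogeneousIdeal 𝒜) (r : R) (f : M →ₗ[R] N) (E : GrLC.StarInjRes 𝒜 ℳ)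
    (F : GrLC.StarInjRes 𝒜 𝒩) (i : ℕ) (x : E.H a i) :
    Hmap a (r • f) E F i x = r • Hmap a f E F i x := by
  rw [Hmap_apply, Hmap_apply]
  have : ModuleCat.ofHom (r • f) = r • ModuleCat.ofHom f := rfl
  rw [this, map_smul', map_smul]

/-- independence of the resolution: a homogeneous isomorphism -/
noncomputable def resEquiv (a : HomogeneousIdeal 𝒜) (E E₂ : GrLC.StarInjRes 𝒜 ℳ) (i : ℕ) :
    E.H a i ≃ₗ[R] E₂.H a i :=
  LinearEquiv.ofLinearMap (Hmap a LinearMap.id E E₂ i) (Hmap a LinearMap.id E₂ E i)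
    (LinearMap.ext fun x => by
      change Hmap a LinearMap.id E E₂ i (Hmap a LinearMap.id E₂ E i x) = x
      rw [← Hmap_comp, LinearMap.id_comp, Hmap_id])
    (LinearMap.ext fun x => by
      change Hmap a LinearMap.id E₂ E i (Hmap a LinearMap.id E E₂ i x) = x
      rw [← Hmap_comp, LinearMap.id_comp, Hmap_id])

theorem resEquiv_isGrHom (a : HomogeneousIdeal 𝒜) (E E₂ : GrLC.StarInjRes 𝒜 ℳ) (i : ℕ) :
    GrLC.IsGrHom (E.Hgr a i) (E₂.Hgr a i) (resEquiv a E E₂ i).toLinearMap :=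
  Hmap_isGrHom a LinearMap.id (fun _ _ h => h) E E₂ i

theorem resEquiv_symm_isGrHom (a : HomogeneousIdeal 𝒜) (E E₂ : GrLC.StarInjRes 𝒜 ℳ) (i : ℕ) :
    GrLC.IsGrHom (E₂.Hgr a i) (E.Hgr a i) (resEquiv a E E₂ i).symm.toLinearMap :=
  Hmap_isGrHom a LinearMap.id (fun _ _ h => h) E₂ E i

end Groth.Agent.H98.GrStar
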