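import Groth.Agent.H98.GrStar.BaerTorsion
import Groth.Agent.H98.GrStar.ExtVanish
import Groth.Agent.H98.GrStar.PrimeHull

set_option autoImplicit false
universe u

/-!
# The *injective hull of `R ⧸ m`, `m` a graded maximal ideal, is an injective hull
-/

namespace Groth.Agent.H98.GrStar

open DirectSum

variable {ι : Type} [AddCommGroup ι] [DecidableEq ι]
variable {R : Type u} [CommRing R] [IsNoetherianRing R]
  {σ : Type u} [SetLike σ R] [AddSubgroupClass σ R]
  (𝒜 : ι → σ) [GradedRing 𝒜]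
variable {E : Type u} [AddCommGroup E] [Module R E] (𝓔 : ι → AddSubgroup E)
  [DirectSum.Decomposition 𝓔] [SetLike.GradedSMul 𝒜 𝓔]

theorem isInjectiveHull_of_maximal (m : HomogeneousIdeal 𝒜) [hm : m.toIdeal.IsMaximal]
    (e : (R ⧸ m.toIdeal) →ₗ[R] E) (he : GrLC.IsStarInjHull 𝒜 (GrLC.quotGr 𝒜 m) 𝓔 e) :
    InjHull.IsInjectiveHull e := by
  have hess := isEssentialInj_of_quot 𝒜 𝓔 m e he.toIsStarEss
  have hκ : Ext1Vanish (R := R) E (R ⧸ m.toIdeal) :=
    ext_subsingleton 𝒜 𝓔 he.starInj 1 le_rfl (quotIdealGMod 𝒜 m)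
      (show Module.Finite R (R ⧸ m.toIdeal) from inferInstance)
  have hgam := gam_eq_top_of_quot 𝒜 𝓔 m e he.toIsStarEss
  have htors : ∀ x : E, ∃ n : ℕ, ∀ a ∈ m.toIdeal ^ n, a • x = 0 := by
    intro x
    have : x ∈ GrLC.gam m.toIdeal E := by rw [hgam]; exact Submodule.mem_top
    exact this
  exact { toIsEssentialInj := hess, isInjective := injective_of_torsion m.toIdeal hκ htors }

end Groth.Agent.H98.GrStar
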