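import Groth.Agent.H98.GrStar.HighVanish
import Groth.Agent.H98.LCRes.TopLC

set_option autoImplicit false
set_option linter.unusedSectionVars false
universe u

/-!
# Top graded local cohomology of a standard graded ring has no gaps below its end
-/

namespace Groth.Agent.H98.GrStar

open DirectSum CategoryTheory Groth.Agent.H98.LCRes Groth.Agent.H58.LC

section

variable {ι : Type} [AddCommGroup ι] [DecidableEq ι]
variable {R : Type u} [CommRing R] [IsNoetherianRing R]
  {σ : Type u} [SetLike σ R] [AddSubgroupClass σ R]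
  {𝒜 : ι → σ} [GradedRing 𝒜]
variable {M : Type u} [AddCommGroup M] [Module R M] {ℳ : ι → AddSubgroup M}
  [DirectSum.Decomposition ℳ] [SetLike.GradedSMul 𝒜 ℳ]

/-- if `a` is generated by elements of degree `e` and `*H^i_a(M) = a · *H^i_a(M)`, then vanishing of
the piece of degree `n` forces vanishing of the piece of degree `e + n` -/
theorem Hgr_add_eq_zero_of_smul_top (E : GrLC.StarInjRes 𝒜 ℳ) (a : HomogeneousIdeal 𝒜) (i : ℕ)
    (e : ι) (ha : a.toIdeal = Ideal.span ((𝒜 e : σ) : Set R))
    (htop : a.toIdeal • (⊤ : Submodule R (E.H a i)) = ⊤) (n : ι)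
    (h : ∀ x ∈ E.Hgr a i n, x = 0) : ∀ x ∈ E.Hgr a i (e + n), x = 0 := by
  classical
  letI : DirectSum.Decomposition (E.Hgr a i) := (Hgr_isInternal 𝒜 ℳ E a i).chooseDecomposition
  letI : SetLike.GradedSMul 𝒜 (E.Hgr a i) := ⟨fun {d k} {r z} hr hz => by
    rw [vadd_eq_add]
    exact smul_mem_Hgr E a hr i z hz⟩
  -- multiples of elements of `a` have no component of degree `e + n`
  have hQ : ∀ r ∈ a.toIdeal, ∀ t : E.H a i,
      (DirectSum.decompose (E.Hgr a i) (r • t) (e + n) : E.H a i) = 0 := by
    intro r hr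
    rw [ha] at hr
    induction hr using Submodule.span_induction with
    | mem r hr =>
      intro t
      rw [decompose_smul_homog 𝒜 (E.Hgr a i) hr t n,
        h _ (SetLike.coe_mem (DirectSum.decompose (E.Hgr a i) t n)), smul_zero]
    | zero =>
      intro t
      rw [zero_smul, DirectSum.decompose_zero]
      rfl
    | add r r' _ _ hr hr' =>
      intro t
      rw [add_smul, DirectSum.decompose_add, DirectSum.add_apply, AddSubgroup.coe_add, hr t, hr' t,
        add_zero]
    | smul c r _ hr =>
      intro t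
      rw [smul_eq_mul, mul_comm, mul_smul]
      exact hr (c • t)
  have hP : ∀ y ∈ a.toIdeal • (⊤ : Submodule R (E.H a i)),
      (DirectSum.decompose (E.Hgr a i) y (e + n) : E.H a i) = 0 := by
    intro y hy
    refine Submodule.smul_induction_on hy (fun r hr t _ => hQ r hr t) (fun y y' hy hy' => ?_)
    rw [DirectSum.decompose_add, DirectSum.add_apply, AddSubgroup.coe_add, hy, hy', add_zero]
  intro x hx
  have h1 := hP x (by rw [htop]; trivial)
  rw [DirectSum.decompose_of_mem_same (E.Hgr a i) hx] at h1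
  exact h1

/-- transport of `H = a H` along the comparison isomorphism -/
theorem smul_top_eq_top_of_locCoh (E : GrLC.StarInjRes 𝒜 ℳ) (a : HomogeneousIdeal 𝒜) (i : ℕ)
    (htop : a.toIdeal • (⊤ : Submodule R (LocCoh.H a.toIdeal i M)) = ⊤) :
    a.toIdeal • (⊤ : Submodule R (E.H a i)) = ⊤ := by
  rw [eq_top_iff]
  intro x _
  have h1 : θ E a i x ∈ a.toIdeal • (⊤ : Submodule R (LocCoh.H a.toIdeal i M)) := by
    rw [htop]; trivial
  have h2 : (θ E a i).symm (θ E a i x) ∈
      (a.toIdeal • (⊤ : Submodule R (LocCoh.H a.toIdeal i M))).map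
        ((θ E a i).symm : LocCoh.H a.toIdeal i M →ₗ[R] E.H a i) :=
    Submodule.mem_map_of_mem h1
  rw [Submodule.map_smul'', LinearEquiv.symm_apply_apply] at h2
  exact Submodule.smul_mono le_rfl le_top h2

end

end Groth.Agent.H98.GrStar
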